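import Cfsg.Agent.MC3.Down2
import Cfsg.Agent.S3329
import Cfsg.Agent.S3330

set_option autoImplicit false

namespace Cfsg.Agent.MC3

open Subgroup Equiv H49

namespace Dw

variable {X : Type*} [Group X] [Finite X] {z s g : X} {α : 𝒩(zpowers z) →* Perm (Fin 3)}
  {β : 𝒩(zpowers z) →* Perm (Fin 5)}

theorem exists_eN (h : Dn z s g α β) (hB : ∃ n, Perm.sign (α n) ≠ Perm.sign (β n)) :
    Nonempty (𝒩(DD z s) ⧸ (DD z s).subgroupOf 𝒩(DD z s) ≃* DihedralGroup 4 × Multiplicative (ZMod 2)) := by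
  classical
  obtain ⟨c, hc, hc'⟩ := exists_c h hB
  obtain ⟨ψ, h1, h2⟩ := exists_psi h
  let c' : 𝒩(DD z s) := ⟨c, cent_le_norm _ hc⟩
  let f := QuotientGroup.mk' ((DD z s).subgroupOf 𝒩(DD z s))
  have hf : ∀ n, f n = 1 ↔ (n : X) ∈ DD z s := fun n => QuotientGroup.eq_one_iff n
  have cc : f c' * f c' = 1 := by rw [← map_mul, hf]; exact mulD h c hc c hc hc' hc'
  have two : ∀ a : Multiplicative (ZMod 2), a = 1 ∨ a = Multiplicative.ofAdd 1 := by decide
  have ne : Multiplicative.ofAdd (1 : ZMod 2) ≠ 1 := by decide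
  have sq : Multiplicative.ofAdd (1 : ZMod 2) * Multiplicative.ofAdd 1 = 1 := by decide
  let χ : Multiplicative (ZMod 2) →* 𝒩(DD z s) ⧸ (DD z s).subgroupOf 𝒩(DD z s) :=
    MonoidHom.mk' (fun a => if a = 1 then 1 else f c') (by
      intro a b
      rcases two a with rfl | rfl <;> rcases two b with rfl | rfl <;> simp [ne, sq, cc])
  have χ1 : χ (Multiplicative.ofAdd 1) = f c' := if_neg (t := 1) ne
  have cm : ∀ n, Commute (f n) (f c') := fun n => by
    rw [← commutatorElement_eq_one_iff_commute, ← map_commutatorElement, hf]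
    refine mulD h _ (conj_mem_of_norm (norm_cent le_rfl) n.2 hc) _ (inv_mem hc) (fun r => hc' ?_)
      fun r => hc' (inv_mem_iff.1 r)
    have := conj_mem_of_norm' le_rfl n.2 r
    convert this using 1; group
  have comm : ∀ x a, Commute ((f.comp ψ) x) (χ a) := fun x a => by
    rcases two a with rfl | rfl
    · rw [map_one]; exact Commute.one_right _
    · rw [χ1]; exact cm _
  refine ⟨(MulEquiv.ofBijective ((f.comp ψ).noncommCoprod χ comm)
    ⟨(injective_iff_map_eq_one _).2 ?_, ?_⟩).symm⟩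
  · rintro ⟨x, a⟩ hx
    rw [MonoidHom.noncommCoprod_apply] at hx
    rcases two a with rfl | rfl
    · rw [map_one, mul_one] at hx
      exact Prod.ext (h1 x (DK h ((hf _).1 hx))) rfl
    · rw [χ1, MonoidHom.comp_apply, ← map_mul, hf] at hx
      have := h1 x ((mul_mem_cancel_right hc).1 (DK h hx))
      rw [this, map_one, one_mul] at hx
      exact absurd hx hc'
  · intro q
    obtain ⟨n, rfl⟩ := QuotientGroup.mk_surjective q
    obtain ⟨x, hx⟩ := h2 n
    by_cases hD : (((ψ x)⁻¹ * n : 𝒩(DD z s)) : X) ∈ DD z s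
    · exact ⟨(x, 1), by rw [MonoidHom.noncommCoprod_apply, map_one, mul_one]; exact QuotientGroup.eq.2 hD⟩
    · refine ⟨(x, Multiplicative.ofAdd 1), ?_⟩
      rw [MonoidHom.noncommCoprod_apply, χ1, MonoidHom.comp_apply, ← map_mul]
      refine QuotientGroup.eq.2 ?_
      rw [mul_inv_rev, mul_assoc]
      exact mulD h _ (inv_mem hc) _ hx (fun r => hc' (inv_mem_iff.1 r)) hD

theorem caseA (h : Dn z s g α β) (hA : ∀ n, Perm.sign (α n) = Perm.sign (β n)) :
    Nonempty (X ≃* alternatingGroup (Fin 8)) := by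
  have hK := KD h hA
  have cK : Nat.card 𝒞(DD z s) = 9 := by rw [hK, cardD h]
  obtain ⟨P, hP⟩ := exists_sylow h (by rw [cK]; norm_num)
  have := normal_subgroupOf (norm_cent (le_refl 𝒩(DD z s)))
  obtain ⟨eN⟩ := exists_eNC h
  obtain ⟨eC⟩ := exists_eC h (alternatingGroup (Fin 5)) (fun n hn => Perm.mem_alternatingGroup.2 (hA n ▸ hn))
    fun a ha b hb => rangeA h ha hb
  have hle : DD z s ≤ 𝒩(zpowers (z * (s * z * s⁻¹))) := by
    refine ((DK h).trans (KCy h)).trans ?_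
    rw [← cent_zpowers]; exact cent_le_norm _
  have hn := normal_subgroupOf h.nY
  let ι := (α.prod β).codRestrict (((Perm.sign).comp (MonoidHom.fst (Perm (Fin 3)) (Perm (Fin 5)))) *
    ((Perm.sign).comp (MonoidHom.snd (Perm (Fin 3)) (Perm (Fin 5))))).ker fun n => by
      change Perm.sign (α n) * Perm.sign (β n) = 1
      rw [hA, Int.units_mul_self]
  refine S3329.result P (DD z s) hP _ z (closure_yz h) (abD h) (cardD h) (fun _ => cubeD h) hK
    ((QuotientGroup.quotientMulEquivOfEq (by rw [hK])).trans eN) (normal_subgroupOf (CyW h))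
    (by rw [cardCy h, cK]) _ rfl hle (hyNn := hn) ?_ (fun q => ?_) eC
    (MulEquiv.ofBijective ι ⟨(injective_iff_map_eq_one _).2 fun n e => ?_, fun ⟨⟨a, b⟩, e⟩ => ?_⟩)
  · have := card_eq_card_quotient_mul_card_subgroup ((DD z s).subgroupOf 𝒩(zpowers (z * (s * z * s⁻¹))))
    rw [cardNy h, cK, card_subgroupOf_of_le hle, cardD h] at this
    omega
  · obtain ⟨n, rfl⟩ := QuotientGroup.mk_surjective q
    rw [← QuotientGroup.mk_pow, QuotientGroup.eq_one_iff]
    exact sqNy h (mulD h) n.2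
  · exact h.inj n (congrArg (fun p => p.1.1) e) (congrArg (fun p => p.1.2) e)
  · have e' : Perm.sign a * Perm.sign b = 1 := e
    obtain ⟨n, e1, e2⟩ := rangeK h (a := a) (b := b) (by rw [eq_inv_of_mul_eq_one_left e', Int.units_inv_eq_self])
    exact ⟨n, Subtype.ext (Prod.ext e1 e2)⟩

theorem caseB (h : Dn z s g α β) (hB : ∃ n, Perm.sign (α n) ≠ Perm.sign (β n)) : Nonempty (X ≃* Perm (Fin 8)) := by
  have cK := cardK h hB
  obtain ⟨P, hP⟩ := exists_sylow h (by rw [cK])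
  have hcn := normal_subgroupOf (norm_cent (le_refl 𝒩(DD z s)))
  obtain ⟨eNC⟩ := exists_eNC h
  obtain ⟨eN⟩ := exists_eN h hB
  obtain ⟨eC⟩ := exists_eC h ⊤ (fun _ _ => mem_top _) fun a _ b _ => rangeB h hB a b
  have hle : 𝒞[z * (s * z * s⁻¹)] ≤ 𝒩(zpowers (z * (s * z * s⁻¹))) := by
    rw [← cent_zpowers]; exact cent_le_norm _
  refine (S3330.result P (DD z s) hP _ z (closure_yz h) (abD h) (cardD h) (fun _ => cubeD h) cK eN (hcn := hcn) eNC
    (normal_subgroupOf (CyW h)) (by rw [cardCy h, cK]) (fun x hx => sqNy h (mulD h) (hle hx)) _ rfl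
    (normal_subgroupOf h.nY) (by rw [cardNy h, cK]) (fun x hx => sqNy h (mulD h) hx)
    (eC.trans (MulEquiv.prodCongr (MulEquiv.refl _) topEquiv))
    (MulEquiv.ofBijective (α.prod β) ⟨(injective_iff_map_eq_one _).2 fun n e =>
      h.inj n (congrArg Prod.fst e) (congrArg Prod.snd e), fun ⟨a, b⟩ => ?_⟩)).resolve_right ?_
  · obtain ⟨n, e1, e2⟩ := rangeB h hB a b
    exact ⟨n, Prod.ext e1 e2⟩
  · rintro ⟨M, hM, -, ⟨e⟩, -, -, hsq⟩
    exact not_A5A5 h e hsq

end Dw

theorem Dn.main {X : Type*} [Group X] [Finite X] {z s g : X} {α : 𝒩(zpowers z) →* Perm (Fin 3)}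
    {β : 𝒩(zpowers z) →* Perm (Fin 5)} (h : Dn z s g α β) :
    Nonempty (X ≃* alternatingGroup (Fin 8)) ∨ Nonempty (X ≃* Perm (Fin 8)) := by
  by_cases hA : ∀ n, Perm.sign (α n) = Perm.sign (β n)
  · exact .inl (Dw.caseA h hA)
  · exact .inr (Dw.caseB h (not_forall.1 hA))

end Cfsg.Agent.MC3
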