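import Cfsg.Agent.H24.FpfNonsolv
import Cfsg.Agent.H76.Ord3
import Cfsg.Agent.MC3.PH

set_option autoImplicit false

namespace Cfsg.Agent.MC3

open Subgroup Equiv H49 H24 H24.SL5

/-! ### `SL(2,5)` -/

/-- an element of order four inverting `A` -/
def g5 : SL5 := ⟨!![0, 2; 2, 0], by decide +kernel⟩

theorem g5_sq : g5 * g5 = -1 := by decide +kernel
theorem g5_A : g5 * A * g5⁻¹ = A⁻¹ := by decide +kernel

theorem enc_g5 : enc g5 = (0, 2, 2, 0) := by decide +kernel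

theorem sl_all {P : N4 → Bool} (h : allc.all P = true) (g : SL5) : P (enc g) = true :=
  List.all_eq_true.mp h _ (enc_mem g)

theorem exists_conj_A {x : SL5} (h3 : x ^ 3 = 1) (h1 : x ≠ 1) : ∃ l : SL5, l * x * l⁻¹ = A := by
  have key := sl_all (P := fun x => !beq4 (mu (mu x x) x) one4 || beq4 x one4 ||
    allc.any fun l => beq4 (mu l x) (mu (0, 1, 4, 4) l)) (by decide +kernel) x
  simp only [Bool.or_eq_true, Bool.not_eq_true', List.any_eq_true, beq4_iff] at key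
  rcases key with (h | h) | ⟨l, hl, h⟩
  · rw [← Bool.not_eq_true, beq4_iff, ← enc_mul, ← enc_mul, ← enc_one, enc_inj] at h
    exact absurd (by rw [← h3, pow_succ, sq]) h
  · exact absurd (enc_inj.mp (h.trans enc_one.symm)) h1
  · obtain ⟨l, rfl⟩ := exists_enc hl
    rw [← enc_A, ← enc_mul, ← enc_mul, enc_inj] at h
    exact ⟨l, by rw [h]; group⟩

theorem cent_A {m : SL5} (h : m * A = A * m) : ∃ i : ℕ, m = A ^ i ∨ m = -A ^ i := by
  have key := sl_all (P := fun x => !beq4 (mu x (0, 1, 4, 4)) (mu (0, 1, 4, 4) x) ||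
    [enc (A ^ 0), enc (A ^ 1), enc (A ^ 2), enc (-A ^ 0), enc (-A ^ 1), enc (-A ^ 2)].any
      fun l => beq4 x l) (by decide +kernel) m
  simp only [Bool.or_eq_true, Bool.not_eq_true', List.any_eq_true, beq4_iff, List.mem_cons,
    List.not_mem_nil, or_false] at key
  rcases key with h' | ⟨l, hl, h'⟩
  · rw [← Bool.not_eq_true, beq4_iff, ← enc_A, ← enc_mul, ← enc_mul, enc_inj] at h'
    exact absurd h h'
  · rcases hl with rfl | rfl | rfl | rfl | rfl | rfl <;> rw [enc_inj] at h'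
    exacts [⟨_, .inl h'⟩, ⟨_, .inl h'⟩, ⟨_, .inl h'⟩, ⟨_, .inr h'⟩, ⟨_, .inr h'⟩, ⟨_, .inr h'⟩]

theorem orderOf_A : orderOf A = 3 :=
  haveI : Fact (Nat.Prime 3) := ⟨Nat.prime_three⟩
  orderOf_eq_prime A3 A_ne_one

/-! ### `Sym(6)` -/

def a6 : Perm (Fin 6) := swap 0 2 * swap 0 1
def b6 : Perm (Fin 6) := swap 3 5 * swap 3 4
def t6 : Perm (Fin 6) := swap 0 1 * swap 3 4
def s6 : Perm (Fin 6) := swap 0 1 * swap 2 5
def f6 : Perm (Fin 6) := swap 0 4 * swap 0 1 * swap 0 3 * swap 2 5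

/-- membership in `⟨a6, b6⟩` -/
def InS (σ : Perm (Fin 6)) : Prop := ∃ i j : Fin 3, σ = a6 ^ i.val * b6 ^ j.val

instance (σ : Perm (Fin 6)) : Decidable (InS σ) := by unfold InS; infer_instance

/-- normalising `⟨a6, b6⟩` -/
def Nz (σ : Perm (Fin 6)) : Prop := InS (σ * a6 * σ⁻¹) ∧ InS (σ * b6 * σ⁻¹)

instance (σ : Perm (Fin 6)) : Decidable (Nz σ) := by unfold Nz; infer_instance

theorem f6_sq : f6 * f6 = t6 := by decide
theorem t6_sq : t6 * t6 = 1 := by decide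
theorem s6_sq : s6 * s6 = 1 := by decide
theorem s6_t6 : s6 * t6 * s6⁻¹ * t6⁻¹ = 1 := by decide
theorem not_Nz_s6 : ¬ Nz s6 := by decide
theorem Nz_f6 : Nz f6 := by decide
theorem t6_inv : ∀ σ, InS σ → t6 * σ * t6⁻¹ = σ⁻¹ := by
  rintro _ ⟨i, j, rfl⟩; revert i j; decide
theorem sign_f6 : Perm.sign f6 = 1 := by decide
theorem sign_s6 : Perm.sign s6 = 1 := by decide

/-- code of a permutation -/
def cd (σ : Perm (Fin 6)) : ℕ :=
  (σ 0).val + 8 * ((σ 1).val + 8 * ((σ 2).val + 8 * ((σ 3).val + 8 * ((σ 4).val + 8 * (σ 5).val))))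
def ap (c i : ℕ) : ℕ := c / 8 ^ i % 8
def cm (c d : ℕ) : ℕ := ap c (ap d 0) + 8 * (ap c (ap d 1) + 8 * (ap c (ap d 2) +
  8 * (ap c (ap d 3) + 8 * (ap c (ap d 4) + 8 * ap c (ap d 5)))))
def ci (c : ℕ) : ℕ := 8 ^ ap c 1 + 2 * 8 ^ ap c 2 + 3 * 8 ^ ap c 3 + 4 * 8 ^ ap c 4 + 5 * 8 ^ ap c 5

theorem ap_cd (σ : Perm (Fin 6)) (i : Fin 6) : ap (cd σ) i.val = (σ i).val := by
  have := (σ 0).2; have := (σ 1).2; have := (σ 2).2; have := (σ 3).2; have := (σ 4).2
  have := (σ 5).2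
  fin_cases i <;> simp only [ap, cd] <;> simp <;> omega

theorem cd_mul (σ τ : Perm (Fin 6)) : cd (σ * τ) = cm (cd σ) (cd τ) := by
  have h0 := ap_cd τ 0; have h1 := ap_cd τ 1; have h2 := ap_cd τ 2; have h3 := ap_cd τ 3
  have h4 := ap_cd τ 4; have h5 := ap_cd τ 5
  simp only [Fin.coe_ofNat_eq_mod, Nat.reduceMod] at h0 h1 h2 h3 h4 h5
  rw [cm, h0, h1, h2, h3, h4, h5]
  simp only [ap_cd]
  rfl

theorem cd_inj {σ τ : Perm (Fin 6)} : cd σ = cd τ ↔ σ = τ :=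
  ⟨fun h => Equiv.ext fun i => Fin.ext (by rw [← ap_cd, h, ap_cd]), fun h => by rw [h]⟩

theorem cd_inv : ∀ σ : Perm (Fin 6), cd σ⁻¹ = ci (cd σ) := by decide +kernel

def inS (c : ℕ) : Bool :=
  [181896, 120968, 146056, 181777, 120849, 145937, 181826, 120898, 145986].any fun d => Nat.beq c d

theorem inS_iff (σ : Perm (Fin 6)) : inS (cd σ) = true ↔ InS σ := by
  constructor
  · intro h
    simp only [inS, List.any_eq_true, List.mem_cons, List.not_mem_nil, or_false, Nat.beq_eq] at h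
    have key : ∀ d ∈ [181896, 120968, 146056, 181777, 120849, 145937, 181826, 120898, 145986],
        ∃ i j : Fin 3, d = cd (a6 ^ i.val * b6 ^ j.val) := by decide +kernel
    obtain ⟨d, hd, e⟩ := h
    obtain ⟨i, j, e'⟩ := key d (by simpa using hd)
    exact ⟨i, j, cd_inj.mp (e.trans e')⟩
  · rintro ⟨i, j, rfl⟩
    revert i j; decide +kernel

def nz (c : ℕ) : Bool := inS (cm (cm c 181777) (ci c)) && inS (cm (cm c 120968) (ci c))

theorem cd_a6 : cd a6 = 181777 := by decide +kernel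
theorem cd_b6 : cd b6 = 120968 := by decide +kernel
theorem cd_one : cd 1 = 181896 := by decide +kernel

theorem nz_iff (σ : Perm (Fin 6)) : nz (cd σ) = true ↔ Nz σ := by
  rw [nz, Bool.and_eq_true, ← cd_a6, ← cd_b6, ← cd_inv, ← cd_mul, ← cd_mul, ← cd_mul, ← cd_mul,
    inS_iff, inS_iff, Nz]

theorem InS.sign {σ : Perm (Fin 6)} (h : InS σ) : Perm.sign σ = 1 := by
  obtain ⟨i, j, rfl⟩ := h
  revert i j; decide +kernel

theorem nz_cases (m : Perm (Fin 6)) (h : Nz m) (hs : Perm.sign m = 1) :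
    InS m ∨ InS (m * t6) ∨ InS (m * f6) ∨ InS (m * f6⁻¹) := by
  have key : ∀ m : Perm (Fin 6), (!nz (cd m) || inS (cd m) || inS (cm (cd m) (cd t6)) ||
      inS (cm (cd m) (cd f6)) || inS (cm (cd m) (cd f6⁻¹)) ||
      [swap 0 1, swap 3 4, swap 0 1 * f6, swap 0 1 * f6⁻¹].any fun x => inS (cm (cd m) (cd x))) =
      true := by decide +kernel
  have := key m
  simp only [Bool.or_eq_true, Bool.not_eq_true', ← cd_mul, inS_iff, (nz_iff m).mpr h,
    List.any_eq_true] at this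
  rcases this with ((((h | h) | h) | h) | h) | ⟨x, hx, h⟩
  · exact absurd h (by decide)
  · exact .inl h
  · exact .inr (.inl h)
  · exact .inr (.inr (.inl h))
  · exact .inr (.inr (.inr h))
  · have h1 := h.sign
    rw [map_mul, hs, one_mul] at h1
    have key2 : ∀ x ∈ [swap 0 1, swap 3 4, swap 0 1 * f6, swap 0 1 * f6⁻¹], Perm.sign x ≠ 1 := by
      decide +kernel
    exact absurd h1 (key2 x hx)

theorem nz_t6 (m : Perm (Fin 6)) (h : Nz (m⁻¹ * t6 * m)) : Nz m⁻¹ ∨ Nz (m⁻¹ * s6) := by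
  have key : ∀ m : Perm (Fin 6), (!nz (cm (cm (ci (cd m)) (cd t6)) (cd m)) || nz (ci (cd m)) ||
      nz (cm (ci (cd m)) (cd s6))) = true := by decide +kernel
  have := key m
  simp only [Bool.or_eq_true, Bool.not_eq_true', ← cd_inv, ← cd_mul, nz_iff,
    (nz_iff _).mpr h] at this
  simpa using this

def cb (c : ℕ) : Bool := Nat.beq (cm (cm c c) c) 181896

theorem cb_of {σ : Perm (Fin 6)} (h : σ ^ 3 = 1) : cb (cd σ) = true := by
  rw [cb, ← cd_mul, ← cd_mul, Nat.beq_eq, ← cd_one, cd_inj, ← h, pow_succ, sq]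

theorem four_three (p : Perm (Fin 6)) (h0 : p ^ 3 = 1) (h1 : (p * (s6 * p * s6⁻¹)) ^ 3 = 1)
    (h2 : (p * (s6 * p * s6⁻¹)⁻¹) ^ 3 = 1) (h3 : (p * (t6 * p * t6⁻¹)) ^ 3 = 1)
    (h4 : (p * (t6 * p * t6⁻¹)⁻¹) ^ 3 = 1) : p = 1 := by
  have key : ∀ p : Perm (Fin 6), (!cb (cd p) ||
      !cb (cm (cd p) (cm (cm (cd s6) (cd p)) (ci (cd s6)))) ||
      !cb (cm (cd p) (ci (cm (cm (cd s6) (cd p)) (ci (cd s6))))) ||
      !cb (cm (cd p) (cm (cm (cd t6) (cd p)) (ci (cd t6)))) ||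
      !cb (cm (cd p) (ci (cm (cm (cd t6) (cd p)) (ci (cd t6))))) || Nat.beq (cd p) (cd 1)) = true := by
    decide +kernel
  have := key p
  simp only [← cd_inv, ← cd_mul, cb_of h0, cb_of h1, cb_of h2, cb_of h3, cb_of h4] at this
  simpa [cd_inj] using this

/-- the Sylow subgroup -/
def S6 : Subgroup (Perm (Fin 6)) := zpowers a6 ⊔ zpowers b6

theorem orderOf_a6 : orderOf a6 = 3 :=
  haveI : Fact (Nat.Prime 3) := ⟨Nat.prime_three⟩
  orderOf_eq_prime (by decide) (by decide)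

theorem orderOf_b6 : orderOf b6 = 3 :=
  haveI : Fact (Nat.Prime 3) := ⟨Nat.prime_three⟩
  orderOf_eq_prime (by decide) (by decide)

theorem b6_cent : b6 ∈ 𝒞[a6] := by rw [mem_cent1]; decide

theorem card_S6 : Nat.card S6 = 9 :=
  H76.card_sup_three orderOf_a6 orderOf_b6 b6_cent
    (by rw [H76.mem_zpowers_three orderOf_a6]; decide)

theorem mem_S6 {σ : Perm (Fin 6)} : σ ∈ S6 ↔ InS σ := by
  rw [S6, H76.mem_sup_three b6_cent]
  constructor
  · rintro ⟨u, hu, v, hv, rfl⟩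
    rw [H76.mem_zpowers_three orderOf_a6] at hu
    rw [H76.mem_zpowers_three orderOf_b6] at hv
    rcases hu with rfl | rfl | rfl <;> rcases hv with rfl | rfl | rfl <;> decide
  · rintro ⟨i, j, rfl⟩
    exact ⟨_, pow_mem (mem_zpowers _) _, _, pow_mem (mem_zpowers _) _, rfl⟩

theorem mem_norm_S6 {σ : Perm (Fin 6)} : σ ∈ 𝒩(S6) ↔ Nz σ := by
  constructor
  · intro h
    exact ⟨mem_S6.mp (conj_mem_of_norm le_rfl h (mem_sup_left (mem_zpowers _))),
      mem_S6.mp (conj_mem_of_norm le_rfl h (mem_sup_right (mem_zpowers _)))⟩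
  · intro h
    refine mem_norm_of_cj_le ?_
    rw [S6, cj_sup, cj_zpowers, cj_zpowers]
    exact sup_le (zpowers_le.mpr (mem_S6.mpr h.1)) (zpowers_le.mpr (mem_S6.mpr h.2))

theorem exists_conj_S6 {P : Subgroup (Perm (Fin 6))} (hP : IsPGroup 3 P) :
    ∃ σ : Perm (Fin 6), ∀ r ∈ P, σ * r * σ⁻¹ ∈ S6 := by
  have : Fact (Nat.Prime 3) := ⟨Nat.prime_three⟩
  have hs : H42.SylIn 3 S6 ⊤ := by
    refine ⟨le_top, IsPGroup.of_card (n := 2) card_S6, ?_⟩
    have := card_mul_relIndex (le_top (a := S6))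
    rw [card_S6, card_top, Nat.card_perm, Nat.card_eq_fintype_card, Fintype.card_fin] at this
    have e : S6.relIndex ⊤ = 80 := by simp [Nat.factorial] at this ⊢; omega
    rw [e]; decide
  obtain ⟨g, -, hg⟩ := hs.exists_conj hP le_top
  exact ⟨g, hg⟩

theorem pow_three {σ : Perm (Fin 6)} {k : ℕ} (h : σ ^ 3 ^ k = 1) : σ ^ 3 = 1 := by
  obtain ⟨g, hg⟩ := exists_conj_S6 (isP_zpowers h)
  obtain ⟨i, j, e⟩ := mem_S6.mp (hg σ (mem_zpowers σ))
  have key : ∀ i j : Fin 3, (a6 ^ i.val * b6 ^ j.val) ^ 3 = 1 := by decide +kernel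
  have := key i j
  rw [← e, conj_pow] at this
  simpa [mul_inv_eq_one] using this

end Cfsg.Agent.MC3
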