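import Cfsg.Agent.H49.Basic

set_option autoImplicit false

namespace Cfsg.Agent.MC3

open Subgroup Equiv H49

/-- 3-local data in `X = C(t)/⟨t⟩`.  Model `A₈` or `S₈`: `z = (0 1 2)`, `s = (0 3)(1 4)(2 5)(6 7)`,
`g = (3 4)(6 7)`, `α`, `β` the actions of `N(⟨z⟩)` on `{0,1,2}` and `{3,…,7}`. -/
structure Dn {X : Type*} [Group X] (z s g : X) (α : 𝒩(zpowers z) →* Perm (Fin 3))
    (β : 𝒩(zpowers z) →* Perm (Fin 5)) : Prop where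
  z3 : orderOf z = 3
  ss : s * s = 1
  comm : Commute z (s * z * s⁻¹)
  nmem : s * z * s⁻¹ ∉ zpowers z
  gg : g * g = 1
  gz : g * z * g⁻¹ = z
  gz' : g * (s * z * s⁻¹) * g⁻¹ = (s * z * s⁻¹)⁻¹
  gcomm : Commute g (s * g * s⁻¹)
  nD : ∀ n ∈ 𝒩(zpowers z ⊔ zpowers (s * z * s⁻¹)),
    n * z * n⁻¹ ∈ zpowers z ∨ n * z * n⁻¹ ∈ zpowers (s * z * s⁻¹)
  nY : 𝒩(zpowers (z * (s * z * s⁻¹))) ≤ 𝒩(zpowers z ⊔ zpowers (s * z * s⁻¹))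
  inj : ∀ n, α n = 1 → β n = 1 → n = 1
  surj : ∀ σ : Perm (Fin 5), Perm.sign σ = 1 → ∃ n, α n = 1 ∧ β n = σ
  βz : ∀ n : 𝒩(zpowers z), (n : X) = z → β n = 1
  βg : ∀ n : 𝒩(zpowers z), (n : X) = g → Perm.sign (β n) = 1
  βg' : ∀ n : 𝒩(zpowers z), (n : X) = s * g * s⁻¹ → Perm.sign (β n) = -1

/-- Global data around the involution `t` whose centraliser is a double cover of `A₈` or `S₈`. -/
structure Fn {G : Type*} [Group G] (t : G) (p : 𝒞[t] →* Perm (Fin 8)) (D : Subgroup G) : Prop where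
  t2 : orderOf t = 2
  ker : ∀ h : 𝒞[t], p h = 1 ↔ (h : G) = 1 ∨ (h : G) = t
  range : p.range = alternatingGroup (Fin 8) ∨ p.range = ⊤
  ns : ∃ a ∈ 𝒞[t], ∃ b ∈ 𝒞[t], a ^ 3 = 1 ∧ b ^ 3 = 1 ∧ (a * b) ^ 2 = t
  odd : ∀ N : Subgroup G, N.Normal → Odd (Nat.card N) → ∃ q : G, q ^ 3 = 1 ∧ q * t * q⁻¹ * t⁻¹ ∉ N
  cen : ∀ k : G, (∀ q : G, q ^ 3 = 1 → Commute k q) → k = 1
  Dle : D ≤ 𝒞[t]
  Dcard : Nat.card D = 9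
  b1 : ∀ v ∈ 𝒞[t], v * v = 1 → v ∈ 𝒞(D) → v = 1 ∨ v = t
  b2 : ∀ v ∈ 𝒞[t], v * v = 1 → (∀ d ∈ D, v * d * v⁻¹ = d⁻¹) → ¬ IsConj t v ∨ ¬ IsConj t (v * t)

end Cfsg.Agent.MC3
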