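import Cfsg.Agent.MC3.Defs
import Cfsg.Agent.H76.Ord3
import Cfsg.Agent.H40.Dih

/-! The normaliser of `D = ⟨z, z^s⟩` in the situation `Dn` (notes/MC3.md, section Down). -/

set_option autoImplicit false
set_option linter.unusedSectionVars false

namespace Cfsg.Agent.MC3.Dw

open Subgroup Equiv H49

variable {X : Type*} [Group X] [Finite X] {z s g : X} {α : 𝒩(zpowers z) →* Perm (Fin 3)}
  {β : 𝒩(zpowers z) →* Perm (Fin 5)}

/-- the Sylow 3-subgroup -/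
abbrev DD (z s : X) : Subgroup X := zpowers z ⊔ zpowers (s * z * s⁻¹)

theorem card_two {H K : Subgroup X} (hle : H ≤ K) {a : X} (ha : a ∈ K) (ha' : a ∉ H)
    (hc : ∀ b ∈ K, b ∈ H ∨ a * b ∈ H) : Nat.card K = 2 * Nat.card H := by
  rw [← card_mul_relIndex hle, mul_comm]
  congr 1
  refine index_eq_two_iff'.2 ⟨⟨a, ha⟩, fun b => ?_⟩
  simp only [mem_subgroupOf, coe_mul]
  by_cases hb : (b : X) ∈ H
  · exact .inr ⟨hb, fun r => ha' ((mul_mem_cancel_right hb).1 r)⟩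
  · exact .inl ⟨(hc b b.2).resolve_left hb, hb⟩

theorem normZ {x d : X} (e : x * d * x⁻¹ ∈ zpowers d) : x ∈ 𝒩(zpowers d) :=
  mem_norm_of_cj_le (by rw [cj_zpowers]; exact zpowers_le.2 e)

theorem memK {k : X} : k ∈ 𝒞(DD z s) ↔ k * z * k⁻¹ = z ∧ k * (s * z * s⁻¹) * k⁻¹ = s * z * s⁻¹ := by
  rw [cent_sup, cent_zpowers, cent_zpowers, mem_inf, mem_cent1, mem_cent1, mul_inv_eq_iff_eq_mul,
    mul_inv_eq_iff_eq_mul (a := k * (s * z * s⁻¹))]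

theorem zD : z ∈ DD z s := mem_sup_left (mem_zpowers z)

theorem zD' : s * z * s⁻¹ ∈ DD z s := mem_sup_right (mem_zpowers _)

theorem memW {n : X} (h1 : n * z * n⁻¹ ∈ DD z s) (h2 : n * (s * z * s⁻¹) * n⁻¹ ∈ DD z s) : n ∈ 𝒩(DD z s) :=
  mem_norm_of_cj_le (by
    rw [cj_sup, cj_zpowers, cj_zpowers]; exact sup_le (zpowers_le.2 h1) (zpowers_le.2 h2))

variable (h : Dn z s g α β)
include h

theorem si : s⁻¹ = s := inv_eq_of_mul_eq_one_right h.ss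

theorem z3' : orderOf (s * z * s⁻¹) = 3 := by rw [H76.orderOf_cj, h.z3]

theorem sz' : s * (s * z * s⁻¹) * s⁻¹ = z := by
  rw [show s * (s * z * s⁻¹) * s⁻¹ = s * s * z * (s * s)⁻¹ by group, h.ss]; group

theorem g'z : s * g * s⁻¹ * z * (s * g * s⁻¹)⁻¹ = z⁻¹ := by
  calc s * g * s⁻¹ * z * (s * g * s⁻¹)⁻¹ = s * (g * (s⁻¹ * z * s⁻¹⁻¹) * g⁻¹) * s⁻¹ := by group
    _ = s * (s * z * s⁻¹)⁻¹ * s⁻¹ := by rw [← h.gz', inv_inv, si h]
    _ = (s * (s * z * s⁻¹) * s⁻¹)⁻¹ := by simp only [mul_inv_rev, inv_inv, mul_assoc]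
    _ = _ := by rw [sz' h]

theorem g'z' : s * g * s⁻¹ * (s * z * s⁻¹) * (s * g * s⁻¹)⁻¹ = s * z * s⁻¹ := by
  calc _ = s * (g * z * g⁻¹) * s⁻¹ := by group
    _ = _ := by rw [h.gz]

theorem g'g' : s * g * s⁻¹ * (s * g * s⁻¹) = 1 := by
  rw [show s * g * s⁻¹ * (s * g * s⁻¹) = s * (g * g) * s⁻¹ by group, h.gg]; group

theorem gg'2 : s * g * s⁻¹ * g * (s * g * s⁻¹ * g) = 1 := by
  have e := h.gcomm.eq
  have e2 := g'g' h
  generalize s * g * s⁻¹ = x at *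
  rw [mul_assoc, ← mul_assoc g, e, mul_assoc x g, h.gg, mul_one, e2]

theorem cardD : Nat.card (DD z s) = 9 := H76.card_sup_three h.z3 (z3' h) (mem_cent1.2 h.comm.eq.symm) h.nmem

theorem abD : IsMulCommutative (DD z s) :=
  abelian_sup inferInstance inferInstance (by
    rw [cent_zpowers]; exact zpowers_le.2 (mem_cent1.2 h.comm.eq))

theorem DK : DD z s ≤ 𝒞(DD z s) := abelian_iff.1 (abD h)

theorem cubeD {d : X} (hd : d ∈ DD z s) : d ^ 3 = 1 := by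
  obtain ⟨a, ⟨i, rfl⟩, b, ⟨j, rfl⟩, rfl⟩ := (H76.mem_sup_three (mem_cent1.2 h.comm.eq.symm)).1 hd
  have e1 : z ^ 3 = 1 := h.z3 ▸ pow_orderOf_eq_one z
  have e2 : (s * z * s⁻¹) ^ 3 = 1 := z3' h ▸ pow_orderOf_eq_one _
  rw [(h.comm.zpow_zpow i j).mul_pow, ← zpow_natCast, ← zpow_natCast, zpow_comm, zpow_comm _ j, zpow_natCast,
    zpow_natCast, e1, e2, one_zpow, one_zpow, mul_one]

theorem sW : s ∈ 𝒩(DD z s) := memW zD' (by rw [sz' h]; exact zD)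

theorem gW : g ∈ 𝒩(DD z s) := memW (by rw [h.gz]; exact zD) (by rw [h.gz']; exact inv_mem zD')

theorem step3 {n : X} (hn : n ∈ 𝒩(DD z s)) : n ∈ 𝒩(zpowers z) ∨ s * n ∈ 𝒩(zpowers z) := by
  refine (h.nD n hn).imp normZ fun r => normZ ?_
  have := conj_mem_cj (g := s).2 r
  rw [cj_zpowers, sz' h] at this
  convert this using 1; group

theorem actz' {n : X} (hn : n ∈ 𝒩(DD z s)) (hz : n ∈ 𝒩(zpowers z)) :
    n * (s * z * s⁻¹) * n⁻¹ = s * z * s⁻¹ ∨ n * (s * z * s⁻¹) * n⁻¹ = (s * z * s⁻¹)⁻¹ := by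
  refine (H76.mem_norm_three (z3' h)).1 (normZ ?_)
  rcases h.nD _ (mul_mem hn (sW h)) with r | r
  · refine absurd ?_ h.nmem
    have := conj_mem_of_norm' le_rfl hz r
    convert this using 1; group
  · convert r using 1; group

theorem step2 {n : X} (hz : n ∈ 𝒩(zpowers z)) :
    n * z * n⁻¹ = z ∨ s * g * s⁻¹ * n * z * (s * g * s⁻¹ * n)⁻¹ = z := by
  refine ((H76.mem_norm_three h.z3).1 hz).imp id fun r => ?_
  calc _ = (s * g * s⁻¹ * (n * z * n⁻¹)⁻¹ * (s * g * s⁻¹)⁻¹)⁻¹ := by group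
    _ = _ := by rw [r, inv_inv, g'z h, inv_inv]

theorem step1 {n : X} (hn : n ∈ 𝒩(DD z s)) (hz : n * z * n⁻¹ = z) : n ∈ 𝒞(DD z s) ∨ g * n ∈ 𝒞(DD z s) := by
  refine (actz' h hn (normZ (by rw [hz]; exact mem_zpowers z))).imp (fun r => memK.2 ⟨hz, r⟩) fun r => memK.2 ⟨?_, ?_⟩
  · calc _ = g * (n * z * n⁻¹) * g⁻¹ := by group
      _ = _ := by rw [hz, h.gz]
  · calc _ = (g * (n * (s * z * s⁻¹) * n⁻¹)⁻¹ * g⁻¹)⁻¹ := by group
      _ = _ := by rw [r, inv_inv, h.gz', inv_inv]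

theorem W_le {M : Subgroup X} (h1 : s ∈ M) (h2 : g ∈ M) (h3 : 𝒞(DD z s) ≤ M) : 𝒩(DD z s) ≤ M := by
  have h4 : s * g * s⁻¹ ∈ M := mul_mem (mul_mem h1 h2) (inv_mem h1)
  have a1 : ∀ n ∈ 𝒩(DD z s), n * z * n⁻¹ = z → n ∈ M := fun n hn hz =>
    (step1 h hn hz).elim (fun r => h3 r) fun r => (mul_mem_cancel_left h2).1 (h3 r)
  have a2 : ∀ n ∈ 𝒩(DD z s), n ∈ 𝒩(zpowers z) → n ∈ M := fun n hn hz =>
    (step2 h hz).elim (a1 n hn) fun r => (mul_mem_cancel_left h4).1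
      (a1 _ (mul_mem (conj_mem_of_norm le_normalizer (sW h) (gW h)) hn) r)
  exact fun n hn => (step3 h hn).elim (a2 n hn) fun r => (mul_mem_cancel_left h1).1 (a2 _ (mul_mem (sW h) hn) r)

theorem exists_psi : ∃ ψ : DihedralGroup 4 →* 𝒩(DD z s), (∀ x, ((ψ x : 𝒩(DD z s)) : X) ∈ 𝒞(DD z s) → x = 1) ∧
    ∀ n : 𝒩(DD z s), ∃ x, (((ψ x)⁻¹ * n : 𝒩(DD z s)) : X) ∈ 𝒞(DD z s) := by
  have e2 : (s * g) ^ 2 = s * g * s⁻¹ * g := by rw [si h, sq, mul_assoc, mul_assoc, mul_assoc]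
  have e4 : (s * g) ^ 4 = 1 := by
    rw [show 4 = 2 * 2 from rfl, pow_mul, e2, sq, gg'2 h]
  obtain ⟨ψ, hr, h1, -⟩ := H40.exists_dihedral_hom (a := (⟨s, sW h⟩ : 𝒩(DD z s))) (b := ⟨g, gW h⟩)
    (Subtype.ext h.ss) (Subtype.ext h.gg) (n := 4) (Subtype.ext e4)
  have hK : ∀ n : 𝒩(DD z s), ∀ k ∈ 𝒞(DD z s), (n : X) * k * (n : X)⁻¹ ∈ 𝒞(DD z s) := fun n k hk =>
    conj_mem_of_norm (norm_cent le_rfl) n.2 hk
  refine ⟨ψ, fun x hx => ?_, fun n => ?_⟩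
  · by_contra x1
    have r2 : ((ψ (.r 2) : 𝒩(DD z s)) : X) ∈ 𝒞(DD z s) := by
      rcases (by decide : ∀ x : DihedralGroup 4, x ≠ 1 → x = .r 2 ∨ ∃ y, x * (y * x⁻¹ * y⁻¹) = .r 2) x x1 with
        r | ⟨y, r⟩
      · exact r ▸ hx
      · rw [← r, map_mul, map_mul, map_mul, map_inv, map_inv]
        exact mul_mem hx (hK _ _ (inv_mem hx))
    have e : ((ψ (.r 2) : 𝒩(DD z s)) : X) = s * g * s⁻¹ * g := by
      have := congrArg Subtype.val (h1 2)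
      rw [← e2]
      simpa [zpow_ofNat] using this
    have := (memK.1 r2).1
    rw [e, show s * g * s⁻¹ * g * z * (s * g * s⁻¹ * g)⁻¹ = s * g * s⁻¹ * (g * z * g⁻¹) * (s * g * s⁻¹)⁻¹ by group,
      h.gz, g'z h] at this
    exact H76.ne_inv_of_three h.z3 this.symm
  · have hN : ψ.range.map (𝒩(DD z s)).subtype ≤ 𝒩(𝒞(DD z s)) := (map_subtype_le _).trans (norm_cent le_rfl)
    have := W_le h (M := ψ.range.map (𝒩(DD z s)).subtype ⊔ 𝒞(DD z s))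
      (mem_sup_left ⟨⟨s, sW h⟩, hr.ge (Subgroup.subset_closure (Or.inl rfl)), rfl⟩)
      (mem_sup_left ⟨⟨g, gW h⟩, hr.ge (Subgroup.subset_closure (Or.inr rfl)), rfl⟩) le_sup_right n.2
    obtain ⟨_, ⟨_, ⟨x, rfl⟩, rfl⟩, k, hk, e⟩ := (mem_sup_of_norm_right hN).1 this
    exact ⟨x, by simpa [e] using hk⟩

theorem exists_eNC [((𝒞(DD z s)).subgroupOf 𝒩(DD z s)).Normal] :
    Nonempty (𝒩(DD z s) ⧸ (𝒞(DD z s)).subgroupOf 𝒩(DD z s) ≃* DihedralGroup 4) := by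
  obtain ⟨ψ, h1, h2⟩ := exists_psi h
  refine ⟨(MulEquiv.ofBijective ((QuotientGroup.mk' _).comp ψ) ⟨(injective_iff_map_eq_one _).2 fun x hx =>
    h1 x ((QuotientGroup.eq_one_iff (N := (𝒞(DD z s)).subgroupOf 𝒩(DD z s)) (ψ x)).1 hx), fun q => ?_⟩).symm⟩
  obtain ⟨n, rfl⟩ := QuotientGroup.mk_surjective q
  obtain ⟨x, hx⟩ := h2 n
  exact ⟨x, QuotientGroup.eq.2 hx⟩

theorem cardW : Nat.card 𝒩(DD z s) = 8 * Nat.card 𝒞(DD z s) := by
  have := normal_subgroupOf (norm_cent (le_refl 𝒩(DD z s)))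
  obtain ⟨e⟩ := exists_eNC h
  rw [card_eq_card_quotient_mul_card_subgroup ((𝒞(DD z s)).subgroupOf 𝒩(DD z s)), Nat.card_congr e.toEquiv,
    card_subgroupOf_of_le (cent_le_norm _), DihedralGroup.nat_card]

theorem exists_sylow (hK : Nat.card 𝒞(DD z s) ∣ 18) : ∃ P : Sylow 3 X, DD z s = P := by
  have : Fact (Nat.Prime 3) := ⟨Nat.prime_three⟩
  obtain ⟨P, hP⟩ := (IsPGroup.of_card (p := 3) (n := 2) (cardD h)).exists_le_sylow
  refine ⟨P, eq_of_inf_norm_le_of_nilpotent P.isPGroup'.isNilpotent hP ?_⟩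
  obtain ⟨k, hk⟩ := IsPGroup.iff_card.1 (P.isPGroup'.to_le (inf_le_left (b := 𝒩(DD z s))))
  have h1 := card_dvd_of_le (inf_le_right (a := (P : Subgroup X)) (b := 𝒩(DD z s)))
  rw [cardW h, hk] at h1
  have h2 : 3 ^ k ∣ 144 := h1.trans (Nat.mul_dvd_mul_left 8 hK)
  have h3 : k ≤ 2 := by
    by_contra! h3
    exact absurd ((pow_dvd_pow 3 h3).trans h2) (by norm_num)
  refine (eq_of_le_of_card_ge (le_inf hP le_normalizer) ?_).ge
  rw [hk, cardD h]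
  exact Nat.pow_le_pow_right (by norm_num) h3

theorem y3 : orderOf (z * (s * z * s⁻¹)) = 3 :=
  orderOf_eq_prime (cubeD h (mul_mem zD zD')) fun e => h.nmem (by
    rw [eq_inv_of_mul_eq_one_right e]; exact inv_mem (mem_zpowers z))

theorem sy : s * (z * (s * z * s⁻¹)) * s⁻¹ = z * (s * z * s⁻¹) := by
  calc _ = s * z * s⁻¹ * (s * (s * z * s⁻¹) * s⁻¹) := by simp only [mul_assoc, inv_mul_cancel_left]
    _ = _ := by rw [sz' h, h.comm.eq]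

theorem ggy : s * g * s⁻¹ * g * (z * (s * z * s⁻¹)) * (s * g * s⁻¹ * g)⁻¹ = (z * (s * z * s⁻¹))⁻¹ := by
  calc _ = s * g * s⁻¹ * (g * z * g⁻¹) * (s * g * s⁻¹)⁻¹ *
        (s * g * s⁻¹ * (g * (s * z * s⁻¹) * g⁻¹)⁻¹ * (s * g * s⁻¹)⁻¹)⁻¹ := by group
    _ = _ := by rw [h.gz, h.gz', inv_inv, g'z h, g'z' h, h.comm.eq, mul_inv_rev (s * z * s⁻¹) z]

theorem CyW : 𝒞[z * (s * z * s⁻¹)] ≤ 𝒩(DD z s) := by
  rw [← cent_zpowers]; exact (cent_le_norm _).trans h.nY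

theorem KCy : 𝒞(DD z s) ≤ 𝒞[z * (s * z * s⁻¹)] := cent_le_cent1 (mul_mem zD zD')

theorem sCy : s ∈ 𝒞[z * (s * z * s⁻¹)] := mem_cent1.2 (mul_inv_eq_iff_eq_mul.1 (sy h))

theorem Cy_cases {n : X} (hn : n ∈ 𝒞[z * (s * z * s⁻¹)]) : n ∈ 𝒞(DD z s) ∨ s * n ∈ 𝒞(DD z s) := by
  have key : ∀ n ∈ 𝒞[z * (s * z * s⁻¹)], n ∈ 𝒩(zpowers z) → n ∈ 𝒞(DD z s) := by
    intro n hn hz
    have e : n * z * n⁻¹ * (n * (s * z * s⁻¹) * n⁻¹) = z * (s * z * s⁻¹) := by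
      rw [← mul_inv_eq_iff_eq_mul.2 (mem_cent1.1 hn)]; group
    rcases (H76.mem_norm_three h.z3).1 hz with r | r <;> rw [r] at e
    · exact memK.2 ⟨r, mul_left_cancel e⟩
    · rcases actz' h (CyW h hn) hz with r' | r' <;> rw [r'] at e
      · exact absurd (mul_right_cancel e).symm (H76.ne_inv_of_three h.z3)
      · exact absurd (e.symm.trans (by rw [h.comm.eq, mul_inv_rev (s * z * s⁻¹) z])) (H76.ne_inv_of_three (y3 h))
  exact (step3 h (CyW h hn)).imp (key n hn) (key _ (mul_mem (sCy h) hn))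

theorem cardCy : Nat.card 𝒞[z * (s * z * s⁻¹)] = 2 * Nat.card 𝒞(DD z s) :=
  card_two (KCy h) (sCy h) (fun r => h.nmem (by rw [(memK.1 r).1]; exact mem_zpowers z)) fun _ hb => Cy_cases h hb

theorem cardNy : Nat.card 𝒩(zpowers (z * (s * z * s⁻¹))) = 4 * Nat.card 𝒞(DD z s) := by
  rw [H76.card_norm_three (y3 h) (ggy h) (gg'2 h), cardCy h]; ring

theorem sqNy (hm : ∀ k ∈ 𝒞(DD z s), ∀ k' ∈ 𝒞(DD z s), k ∉ DD z s → k' ∉ DD z s → k * k' ∈ DD z s) {n : X}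
    (hn : n ∈ 𝒩(zpowers (z * (s * z * s⁻¹)))) : n ^ 2 ∈ DD z s := by
  have key : ∀ w ∈ 𝒩(DD z s), w * w = 1 → w * n ∈ 𝒞(DD z s) → n ^ 2 ∈ DD z s := by
    intro w hw ww hk
    have e : n ^ 2 = w⁻¹ * (w * n) * w * (w * n) := by
      rw [show w⁻¹ * (w * n) * w * (w * n) = n * (w * w) * n by group, ww, mul_one, sq]
    rw [e]
    by_cases hD : w * n ∈ DD z s
    · exact mul_mem (conj_mem_of_norm' le_rfl hw hD) hD
    · refine hm _ (conj_mem_of_norm' (norm_cent le_rfl) hw hk) _ hk (fun r => hD ?_) hD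
      have := conj_mem_of_norm le_rfl hw r
      convert this using 1; group
  have gW' := mul_mem (conj_mem_of_norm le_normalizer (sW h) (gW h)) (gW h)
  rcases (H76.mem_norm_three (y3 h)).1 hn with r | r
  · rcases Cy_cases h (mem_cent1.2 (mul_inv_eq_iff_eq_mul.1 r)) with r | r
    · exact key 1 (one_mem _) (mul_one 1) (by rwa [one_mul])
    · exact key s (sW h) h.ss r
  · have h1 : s * g * s⁻¹ * g * n ∈ 𝒞[z * (s * z * s⁻¹)] := mem_cent1.2 (mul_inv_eq_iff_eq_mul.1 (by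
      calc _ = (s * g * s⁻¹ * g * (n * (z * (s * z * s⁻¹)) * n⁻¹)⁻¹ * (s * g * s⁻¹ * g)⁻¹)⁻¹ := by group
        _ = _ := by rw [r, inv_inv, ggy h, inv_inv]))
    rcases Cy_cases h h1 with r | r
    · exact key _ gW' (gg'2 h) r
    · refine key (s * (s * g * s⁻¹ * g)) (mul_mem (sW h) gW') ?_ (by rwa [mul_assoc])
      calc _ = s * s * g * (s⁻¹ * g * s) * (s * g * s⁻¹) * g := by group
        _ = 1 := by
          rw [h.ss, one_mul, show s⁻¹ * g * s = s * g * s⁻¹ by rw [si h], mul_assoc g, g'g' h, mul_one, h.gg]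

theorem closure_yz : closure {z * (s * z * s⁻¹), z} = DD z s := by
  refine le_antisymm ((closure_le _).2 ?_) (sup_le (zpowers_le.2 (Subgroup.subset_closure (Or.inr rfl))) (zpowers_le.2 ?_))
  · rintro _ (rfl | rfl)
    exacts [mul_mem zD zD', zD]
  · have h1 : z ∈ closure {z * (s * z * s⁻¹), z} := Subgroup.subset_closure (by simp)
    have h2 : z * (s * z * s⁻¹) ∈ closure {z * (s * z * s⁻¹), z} := Subgroup.subset_closure (by simp)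
    exact (mul_mem_cancel_left h1).1 h2

end Cfsg.Agent.MC3.Dw
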