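import Cfsg.Agent.MC3.Down1

/-! The normaliser of `⟨z⟩` in the situation `Dn` (notes/MC3.md, section Down). -/

set_option autoImplicit false
set_option linter.unusedSectionVars false

namespace Cfsg.Agent.MC3.Dw

open Subgroup Equiv H49

theorem s3a : ∀ a b : Perm (Fin 3), a ^ 3 = 1 → a ≠ 1 → a * b = b * a → b * b = 1 → b = 1 := by decide +kernel

theorem s3b : ∀ a b : Perm (Fin 3), a ^ 3 = 1 → a ≠ 1 → b * a * b⁻¹ = a⁻¹ → Perm.sign b = -1 := by decide +kernel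

theorem s3c : ∀ a b : Perm (Fin 3), a ^ 3 = 1 → a ≠ 1 → (b * a * b⁻¹ = a ↔ Perm.sign b = 1) := by decide +kernel

theorem s3d : ∀ a b : Perm (Fin 3), a ^ 3 = 1 → a ≠ 1 → Perm.sign b = 1 → b = a ^ 0 ∨ b = a ^ 1 ∨ b = a ^ 2 := by
  decide +kernel

theorem s5a : ∀ c : Perm (Fin 5), c * c * c = 1 → c ≠ 1 → ∀ b : Perm (Fin 5), b * c = c * b → Perm.sign b = 1 →
    b = 1 ∨ b = c ∨ b = c * c := by decide +kernel

theorem s5b : ∀ c : Perm (Fin 5), c * c * c = 1 → c ≠ 1 →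
    ∃ b : Perm (Fin 5), b * c = c * b ∧ Perm.sign b = -1 ∧ b * b = 1 := by decide +kernel

theorem s5c : ∀ c : Perm (Fin 5), c * c * (c * c) = 1 → Perm.sign c = 1 → c * c = 1 := by decide +kernel

theorem sign_cube {n : ℕ} {a : Perm (Fin n)} (h : a ^ 3 = 1) : Perm.sign a = 1 := by
  have := congrArg Perm.sign h
  rw [map_pow, map_one] at this
  rcases Int.units_eq_one_or (Perm.sign a) with r | r
  · exact r
  · rw [r] at this; exact absurd this (by decide)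

variable {X : Type*} [Group X] [Finite X] {z s g : X} {α : 𝒩(zpowers z) →* Perm (Fin 3)}
  {β : 𝒩(zpowers z) →* Perm (Fin 5)}

theorem CN : 𝒞[z] ≤ 𝒩(zpowers z) := by rw [← cent_zpowers]; exact cent_le_norm _

theorem KC : 𝒞(DD z s) ≤ 𝒞[z] := cent_le_cent1 zD

/-- `z` as an element of its normaliser -/
def zN (z : X) : 𝒩(zpowers z) := ⟨z, le_normalizer (mem_zpowers z)⟩

variable (h : Dn z s g α β)
include h

theorem ext' {m n : 𝒩(zpowers z)} (h1 : α m = α n) (h2 : β m = β n) : m = n :=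
  mul_inv_eq_one.1 (h.inj _ (by rw [map_mul, map_inv, h1, mul_inv_cancel]) (by rw [map_mul, map_inv, h2, mul_inv_cancel]))

theorem βz : β (zN z) = 1 := h.βz _ rfl

theorem zN3 : zN z ^ 3 = 1 := Subtype.ext (cubeD h zD)

theorem αz3 : α (zN z) ^ 3 = 1 := by rw [← map_pow, zN3 h, map_one]

theorem αz1 : α (zN z) ≠ 1 := fun e => H76.ne_one_of_three h.z3 (congrArg Subtype.val (h.inj _ e (βz h)))

theorem centz (n : 𝒩(zpowers z)) : (n : X) ∈ 𝒞[z] ↔ Perm.sign (α n) = 1 := by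
  rw [← s3c _ _ (αz3 h) (αz1 h), mem_cent1, ← mul_inv_eq_iff_eq_mul]
  refine ⟨fun e => ?_, fun e => congrArg Subtype.val (ext' h (m := n * zN z * n⁻¹) (n := zN z) ?_ ?_)⟩
  · rw [← map_inv, ← map_mul, ← map_mul]; exact congrArg α (Subtype.ext e)
  · rwa [map_mul, map_mul, map_inv]
  · rw [map_mul, map_mul, map_inv, βz h, mul_one, mul_inv_cancel]

theorem gN : g ∈ 𝒩(zpowers z) := normZ (by rw [h.gz]; exact mem_zpowers z)

theorem gN' : s * g * s⁻¹ ∈ 𝒩(zpowers z) := normZ (by rw [g'z h]; exact inv_mem (mem_zpowers z))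

theorem zN' : s * z * s⁻¹ ∈ 𝒩(zpowers z) := CN (mem_cent1.2 h.comm.eq.symm)

theorem αg : α ⟨g, gN h⟩ = 1 := s3a _ _ (αz3 h) (αz1 h)
  (by rw [← map_mul, ← map_mul]; exact congrArg α (Subtype.ext (mul_inv_eq_iff_eq_mul.1 h.gz).symm))
  (by rw [← map_mul, ← map_one α]; exact congrArg α (Subtype.ext h.gg))

theorem αg' : Perm.sign (α ⟨_, gN' h⟩) = -1 := s3b _ _ (αz3 h) (αz1 h) (by
  rw [← map_inv, ← map_inv, ← map_mul, ← map_mul]; exact congrArg α (Subtype.ext (g'z h)))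

theorem zN'3 : (⟨_, zN' h⟩ : 𝒩(zpowers z)) ^ 3 = 1 := Subtype.ext (cubeD h zD')

theorem αz' : α ⟨_, zN' h⟩ = 1 := by
  have e : α ⟨_, zN' h⟩ = (α ⟨_, zN' h⟩)⁻¹ := by
    rw [← map_inv, show (⟨_, zN' h⟩ : 𝒩(zpowers z))⁻¹ = ⟨g, gN h⟩ * ⟨_, zN' h⟩ * ⟨g, gN h⟩⁻¹ from
      Subtype.ext h.gz'.symm, map_mul, map_mul, map_inv, αg h]; group
  have e3 : α ⟨_, zN' h⟩ ^ 3 = 1 := by rw [← map_pow, zN'3 h, map_one]
  rw [pow_three, mul_eq_one_iff_eq_inv.2 e, mul_one] at e3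
  exact e3

theorem βz'3 : β ⟨_, zN' h⟩ * β ⟨_, zN' h⟩ * β ⟨_, zN' h⟩ = 1 := by rw [← pow_three', ← map_pow, zN'3 h, map_one]

theorem βz'1 : β ⟨_, zN' h⟩ ≠ 1 := fun e =>
  H76.ne_one_of_three (z3' h) (congrArg Subtype.val (h.inj _ (αz' h) e))

theorem rangeA {a : Perm (Fin 3)} {b : Perm (Fin 5)} (ha : Perm.sign a = 1) (hb : Perm.sign b = 1) :
    ∃ n, α n = a ∧ β n = b := by
  obtain ⟨n, h1, h2⟩ := h.surj b hb
  obtain ⟨i, e⟩ : ∃ i : ℕ, a = α (zN z) ^ i := by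
    rcases s3d _ _ (αz3 h) (αz1 h) ha with e | e | e <;> exact ⟨_, e⟩
  exact ⟨zN z ^ i * n, by rw [map_mul, map_pow, h1, e, mul_one], by rw [map_mul, map_pow, h2, βz h, one_pow, one_mul]⟩

theorem rangeK {a : Perm (Fin 3)} {b : Perm (Fin 5)} (e : Perm.sign a = Perm.sign b) : ∃ n, α n = a ∧ β n = b := by
  rcases Int.units_eq_one_or (Perm.sign a) with r | r
  · exact rangeA h r (e ▸ r)
  · obtain ⟨n, h1, h2⟩ := rangeA h (a := (α ⟨_, gN' h⟩)⁻¹ * a) (b := (β ⟨_, gN' h⟩)⁻¹ * b)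
      (by rw [map_mul, map_inv, αg' h, r]; rfl) (by rw [map_mul, map_inv, h.βg' _ rfl, ← e, r]; rfl)
    exact ⟨⟨_, gN' h⟩ * n, by rw [map_mul, h1, mul_inv_cancel_left], by rw [map_mul, h2, mul_inv_cancel_left]⟩

theorem rangeB (hB : ∃ n, Perm.sign (α n) ≠ Perm.sign (β n)) (a : Perm (Fin 3)) (b : Perm (Fin 5)) :
    ∃ n, α n = a ∧ β n = b := by
  by_cases e : Perm.sign a = Perm.sign b
  · exact rangeK h e
  · obtain ⟨m, hm⟩ := hB
    obtain ⟨n, h1, h2⟩ := rangeK h (a := (α m)⁻¹ * a) (b := (β m)⁻¹ * b) (by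
      rw [map_mul, map_mul, map_inv, map_inv]
      revert e hm
      rcases Int.units_eq_one_or (Perm.sign a) with r | r <;> rcases Int.units_eq_one_or (Perm.sign b) with r' | r' <;>
        rcases Int.units_eq_one_or (Perm.sign (α m)) with t | t <;>
        rcases Int.units_eq_one_or (Perm.sign (β m)) with t' | t' <;> rw [r, r', t, t'] <;> decide)
    exact ⟨m * n, by rw [map_mul, h1, mul_inv_cancel_left], by rw [map_mul, h2, mul_inv_cancel_left]⟩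

theorem memD {k : X} (hk : k ∈ 𝒞(DD z s)) : k ∈ DD z s ↔ Perm.sign (β ⟨k, CN (KC hk)⟩) = 1 := by
  refine ⟨fun hD => sign_cube (by rw [← map_pow, ← map_one β]; exact congrArg β (Subtype.ext (cubeD h hD))),
    fun e => ?_⟩
  obtain ⟨i, e1⟩ : ∃ i : ℕ, α ⟨k, CN (KC hk)⟩ = α (zN z) ^ i := by
    rcases s3d _ _ (αz3 h) (αz1 h) ((centz h ⟨k, CN (KC hk)⟩).1 (KC hk)) with e | e | e <;> exact ⟨_, e⟩
  obtain ⟨j, e2⟩ : ∃ j : ℕ, β ⟨k, CN (KC hk)⟩ = β ⟨_, zN' h⟩ ^ j := by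
    rcases s5a _ (βz'3 h) (βz'1 h) _ (by
      rw [← map_mul, ← map_mul]; exact congrArg β (Subtype.ext (hk _ zD').symm)) e with e | e | e
    exacts [⟨0, by rw [e, pow_zero]⟩, ⟨1, by rw [e, pow_one]⟩, ⟨2, by rw [e, sq]⟩]
  have := congrArg Subtype.val (ext' h (m := ⟨k, CN (KC hk)⟩) (n := zN z ^ i * ⟨_, zN' h⟩ ^ j)
    (by rw [map_mul, map_pow, map_pow, αz' h, one_pow, mul_one, e1])
    (by rw [map_mul, map_pow, map_pow, βz h, one_pow, one_mul, e2]))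
  change k = z ^ i * (s * z * s⁻¹) ^ j at this
  rw [this]
  exact mul_mem (pow_mem zD i) (pow_mem zD' j)

theorem mulD : ∀ k ∈ 𝒞(DD z s), ∀ k' ∈ 𝒞(DD z s), k ∉ DD z s → k' ∉ DD z s → k * k' ∈ DD z s := by
  intro k hk k' hk' h1 h2
  rw [memD h hk] at h1
  rw [memD h hk'] at h2
  rw [memD h (mul_mem hk hk'), show (⟨k * k', _⟩ : 𝒩(zpowers z)) = ⟨k, CN (KC hk)⟩ * ⟨k', CN (KC hk')⟩ from rfl,
    map_mul, map_mul, (Int.units_eq_one_or _).resolve_left h1, (Int.units_eq_one_or _).resolve_left h2]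
  rfl

theorem KD (hA : ∀ n, Perm.sign (α n) = Perm.sign (β n)) : 𝒞(DD z s) = DD z s :=
  le_antisymm (fun k hk => (memD h hk).2 (by rw [← hA]; exact (centz h _).1 (KC hk))) (DK h)

theorem exists_c (hB : ∃ n, Perm.sign (α n) ≠ Perm.sign (β n)) : ∃ c ∈ 𝒞(DD z s), c ∉ DD z s := by
  obtain ⟨τ, h1, h2, -⟩ := s5b _ (βz'3 h) (βz'1 h)
  obtain ⟨c, e1, e2⟩ := rangeB h hB 1 τ
  have hc : (c : X) ∈ 𝒞(DD z s) := memK.2 ⟨mul_inv_eq_iff_eq_mul.2 (mem_cent1.1 ((centz h c).2 (by rw [e1, map_one]))),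
    congrArg Subtype.val (ext' h (m := c * ⟨_, zN' h⟩ * c⁻¹) (n := ⟨_, zN' h⟩)
      (by rw [map_mul, map_mul, map_inv, e1]; group) (by rw [map_mul, map_mul, map_inv, e2, h1]; group))⟩
  refine ⟨c, hc, fun r => ?_⟩
  have := (memD h hc).1 r
  rw [show (⟨c, CN (KC hc)⟩ : 𝒩(zpowers z)) = c from rfl, e2, h2] at this
  exact absurd this (by decide)

theorem cardK (hB : ∃ n, Perm.sign (α n) ≠ Perm.sign (β n)) : Nat.card 𝒞(DD z s) = 18 := by
  obtain ⟨c, hc, hc'⟩ := exists_c h hB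
  rw [card_two (DK h) hc hc' fun b hb => (em _).imp id (mulD h c hc b hb hc'), cardD h]

theorem exists_eC (H : Subgroup (Perm (Fin 5))) (h1 : ∀ n, Perm.sign (α n) = 1 → β n ∈ H)
    (h2 : ∀ a, Perm.sign a = 1 → ∀ b ∈ H, ∃ n, α n = a ∧ β n = b) :
    Nonempty (𝒞[z] ≃* Multiplicative (ZMod 3) × H) := by
  have : Fact (Nat.Prime 3) := ⟨Nat.prime_three⟩
  have e3 : alternatingGroup (Fin 3) ≃* Multiplicative (ZMod 3) := mulEquivOfPrimeCardEq (p := 3)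
    (by rw [nat_card_alternatingGroup]; simp [Nat.factorial]) (by simp)
  have hs : ∀ x : 𝒞[z], Perm.sign (α (inclusion CN x)) = 1 := fun x => (centz h _).1 x.2
  let φ : 𝒞[z] →* alternatingGroup (Fin 3) × H :=
    ((α.comp (inclusion CN)).codRestrict _ hs).prod ((β.comp (inclusion CN)).codRestrict _ fun x => h1 _ (hs x))
  refine ⟨(MulEquiv.ofBijective φ ⟨(injective_iff_map_eq_one _).2 fun x hx => ?_, fun ⟨a, b⟩ => ?_⟩).trans
    (MulEquiv.prodCongr e3 (MulEquiv.refl _))⟩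
  · exact inclusion_injective CN ((h.inj _ (congrArg (fun p => (p.1 : Perm (Fin 3))) hx)
      (congrArg (fun p => (p.2 : Perm (Fin 5))) hx)).trans (map_one _).symm)
  · obtain ⟨n, e1, e2⟩ := h2 a a.2 b b.2
    exact ⟨⟨n, (centz h n).2 (e1 ▸ a.2)⟩, Prod.ext (Subtype.ext e1) (Subtype.ext e2)⟩

theorem not_A5A5 {M : Subgroup X} [hM : M.Normal] (e : M ≃* alternatingGroup (Fin 5) × alternatingGroup (Fin 5))
    (hsq : ∀ x : X, x ^ 2 ∈ M) : False := by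
  have hA : ∀ n, α n = 1 → Perm.sign (β n) = 1 → (n : X) ∈ M := by
    intro n h1 h2
    have hle : alternatingGroup (Fin 5) ≤ (M.subgroupOf _ ⊓ α.ker).map β := by
      rw [← Perm.closure_three_cycles_eq_alternating, closure_le]
      intro c hc
      obtain ⟨m, e1, e2⟩ := h.surj c hc.sign
      have m3 : m ^ 3 = 1 := h.inj _ (by rw [map_pow, e1, one_pow])
        (by rw [map_pow, e2, ← hc.orderOf, pow_orderOf_eq_one])
      refine ⟨m, ⟨?_, e1⟩, e2⟩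
      have : m = (m ^ 2) ^ 2 := by rw [← pow_mul, pow_succ, m3, one_mul]
      rw [this]
      exact hsq _
    obtain ⟨m, ⟨r1, r2⟩, r3⟩ := hle (Perm.mem_alternatingGroup.2 h2)
    rwa [← ext' h (r2.trans h1.symm) r3]
  have hg := hM.conj_mem _ (hA _ (αg h) (h.βg _ rfl)) s
  obtain ⟨m, e1, e2⟩ := h.surj ((β ⟨_, gN' h⟩)⁻¹ * (swap 0 1 * swap 1 2 * swap 2 3))
    (by rw [map_mul, map_inv, h.βg' _ rfl]; decide)
  have hm := hA m e1 (by rw [e2, map_mul, map_inv, h.βg' _ rfl]; decide)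
  have e3 : β (⟨_, gN' h⟩ * m) = swap 0 1 * swap 1 2 * swap 2 3 := by rw [map_mul, e2, mul_inv_cancel_left]
  have e4 : α (⟨_, gN' h⟩ * m) * α (⟨_, gN' h⟩ * m) = 1 := by
    rw [map_mul, e1, mul_one, ← map_mul, ← map_one α]; exact congrArg α (Subtype.ext (g'g' h))
  have hn : ((⟨_, gN' h⟩ * m : 𝒩(zpowers z)) : X) ∈ M := mul_mem hg hm
  generalize (⟨_, gN' h⟩ * m : 𝒩(zpowers z)) = n at *
  have n4 : n * n * (n * n) = 1 := h.inj _ (by simp only [map_mul, e4, mul_one]) (by simp only [map_mul, e3]; decide)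
  have x4 : e ⟨n, hn⟩ * e ⟨n, hn⟩ * (e ⟨n, hn⟩ * e ⟨n, hn⟩) = 1 := by
    rw [← map_mul, ← map_mul, ← map_one e]; exact congrArg e (Subtype.ext (congrArg Subtype.val n4 :))
  have x2 : e ⟨n, hn⟩ * e ⟨n, hn⟩ = 1 := Prod.ext
    (Subtype.ext (s5c _ (congrArg (fun p => (p.1 : Perm (Fin 5))) x4) (e ⟨n, hn⟩).1.2))
    (Subtype.ext (s5c _ (congrArg (fun p => (p.2 : Perm (Fin 5))) x4) (e ⟨n, hn⟩).2.2))
  rw [← map_mul, e.map_eq_one_iff] at x2
  have := congrArg β (Subtype.ext (congrArg Subtype.val x2 :) : n * n = 1)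
  rw [map_mul, e3, map_one] at this
  exact absurd this (by decide)

end Cfsg.Agent.MC3.Dw
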