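import Cfsg.Agent.MC3.Loc4

set_option autoImplicit false

namespace Cfsg.Agent.MC3

open Subgroup Equiv H49 H24 H24.SL5

/-- a subgroup of `SL(2,5)` containing `A` but not `-1` is `⟨A⟩` -/
theorem sub_A {H : Subgroup SL5} (hA : A ∈ H) (hn : -1 ∉ H) {x : SL5} (hx : x ∈ H) :
    ∃ i : ℕ, x = A ^ i := by
  have key := sl_all (P := fun x => [enc (A ^ 0), enc (A ^ 1), enc (A ^ 2)].any fun a =>
    beq4 x a || beq4 (mu a x) ng || beq4 (mu (mu a x) (mu a x)) ng ||
      beq4 (mu (mu (mu a x) (mu a x)) (mu a x)) ng ||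
      beq4 (mu (mu (mu (mu (mu a x) (mu a x)) (mu a x)) (mu a x)) (mu a x)) ng)
    (by decide +kernel) x
  simp only [List.any_eq_true] at key
  obtain ⟨a, ha, key⟩ := key
  obtain ⟨i, rfl⟩ : ∃ i : ℕ, a = enc (A ^ i) := by
    simp only [List.mem_cons, List.not_mem_nil, or_false] at ha
    rcases ha with h | h | h <;> exact ⟨_, h⟩
  have hm := mul_mem (pow_mem hA i) hx
  simp only [Bool.or_eq_true, beq4_iff, ← enc_mul, ← enc_neg_one, enc_inj] at key
  rcases key with (((h | h) | h) | h) | h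
  · exact ⟨i, h⟩
  · exact absurd (h ▸ hm) hn
  · exact absurd (h ▸ mul_mem hm hm) hn
  · exact absurd (h ▸ mul_mem (mul_mem hm hm) hm) hn
  · exact absurd (h ▸ mul_mem (mul_mem (mul_mem (mul_mem hm hm) hm) hm) hm) hn

def p6 : Perm (Fin 6) := swap 0 3 * swap 0 2 * (swap 1 4 * swap 1 5)

theorem p6_t : p6 * t6 * p6⁻¹ * s6 = 1 := by decide
theorem p6_s : p6 * s6 * p6⁻¹ * (t6 * s6) = 1 := by decide
theorem p6_cube : p6 ^ 3 = 1 := by decide
theorem p6_ne : p6 ≠ 1 := by decide
theorem sign_p6 : Perm.sign p6 = 1 := by decide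

/-- Sylow 3-subgroups intersect trivially -/
theorem ti (m x : Perm (Fin 6)) (hx : InS x) (h1 : x ≠ 1) (h : InS (m * x * m⁻¹)) : Nz m := by
  have key : ∀ m : Perm (Fin 6), (nz (cd m) ||
      [120968, 146056, 181777, 120849, 145937, 181826, 120898, 145986].all fun d =>
        !inS (cm (cm (cd m) d) (ci (cd m)))) = true := by decide +kernel
  have := key m
  simp only [Bool.or_eq_true, nz_iff, List.all_eq_true, Bool.not_eq_true'] at this
  refine this.resolve_right fun H => ?_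
  have h2 := (inS_iff x).mpr hx
  simp only [inS, List.any_eq_true, Nat.beq_eq] at h2
  obtain ⟨d, hd, e⟩ := h2
  rcases List.mem_cons.mp hd with rfl | hd
  · exact h1 (cd_inj.mp (e.trans cd_one.symm))
  · have := H d hd
    rw [← e, ← cd_mul, ← cd_inv, ← cd_mul, (inS_iff _).mpr h] at this
    exact absurd this (by decide)

def L12 : List ℕ :=
  [181896, 178305, 83777, 80200, 135402, 99114, 131797, 102677, 54307, 21596, 10851, 43548]

def nS (c : ℕ) : Bool := inS c && !Nat.beq c 181896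

theorem L12_mem {d : ℕ} (hd : d ∈ L12) : ∃ σ ∈ closure {t6, p6}, d = cd σ := by
  have key : ∀ d ∈ L12, ∃ i j k : Fin 3,
      d = cd (t6 ^ i.val * (p6 * t6 * p6⁻¹) ^ j.val * p6 ^ k.val) := by decide +kernel
  obtain ⟨i, j, k, e⟩ := key d hd
  have ht : t6 ∈ closure {t6, p6} := subset_closure (by simp)
  have hp : p6 ∈ closure {t6, p6} := subset_closure (by simp)
  exact ⟨_, mul_mem (mul_mem (pow_mem ht _) (pow_mem (mul_mem (mul_mem hp ht) (inv_mem hp)) _))
    (pow_mem hp _), e⟩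

/-- overgroups of `A₄` missing the Sylow subgroup -/
theorem a4_max {H : Subgroup (Perm (Fin 6))} (ht : t6 ∈ H) (hp : p6 ∈ H)
    (hS : ∀ x ∈ H, InS x → x = 1) {n : Perm (Fin 6)} (hn : n ∈ H) (h3 : n ^ 3 = 1) :
    n ∈ closure {t6, p6} := by
  have key : ∀ n : Perm (Fin 6), (!cb (cd n) || L12.any (fun d => Nat.beq (cd n) d) ||
      L12.any fun a => L12.any fun b => nS (cm (cm a (cd n)) b) ||
        nS (cm (cm (cm (cd n) a) (cd n)) b) || nS (cm (cm (cm b (cd n)) a) (cd n))) = true := by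
    decide +kernel
  have := key n
  have hle : closure {t6, p6} ≤ H := (closure_le _).mpr (by
    rintro _ (rfl | rfl); exacts [ht, hp])
  have no : ∀ x ∈ H, nS (cd x) ≠ true := fun x hx e => by
    simp only [nS, Bool.and_eq_true, inS_iff, Bool.not_eq_true', ← cd_one] at e
    rw [hS x hx e.1] at e
    simp at e
  simp only [Bool.or_eq_true, cb_of h3, List.any_eq_true, Nat.beq_eq] at this
  rcases this with (h | ⟨d, hd, e⟩) | ⟨a, ha, b, hb, h⟩
  · exact absurd h (by decide)
  · obtain ⟨σ, hσ, rfl⟩ := L12_mem hd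
    rwa [cd_inj.mp e]
  · obtain ⟨a, ha', rfl⟩ := L12_mem ha
    obtain ⟨b, hb', rfl⟩ := L12_mem hb
    have ha := hle ha'
    have hb := hle hb'
    simp only [← cd_mul] at h
    rcases h with (h | h) | h
    · exact absurd h (no _ (mul_mem (mul_mem ha hn) hb))
    · exact absurd h (no _ (mul_mem (mul_mem (mul_mem hn ha) hn) hb))
    · exact absurd h (no _ (mul_mem (mul_mem (mul_mem hb hn) ha) hn))

theorem InS.comm {a b : Perm (Fin 6)} (ha : InS a) (hb : InS b) : a * b * a⁻¹ * b⁻¹ = 1 := by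
  obtain ⟨i, j, rfl⟩ := ha
  obtain ⟨k, l, rfl⟩ := hb
  revert i j k l; decide +kernel

/-- conjugacy of two involutions with product of order dividing three -/
theorem inv_conj {G : Type*} [Group G] {a b : G} (ha : a * a = 1) (hb : b * b = 1)
    (h : (a * b) ^ 3 = 1) : a * b * a * (a * b)⁻¹ = b := by
  rw [pow_three'] at h
  have e1 := inv_eq_of_mul_eq_one_right ha
  have e2 := inv_eq_of_mul_eq_one_right hb
  calc a * b * a * (a * b)⁻¹ = (a * b * (a * b) * (a * b)) * b⁻¹ * (a⁻¹ * b⁻¹ * b⁻¹ * a⁻¹) := by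
        group
    _ = b := by rw [h, e1, e2, mul_assoc a b b, hb]; simp [ha]

end Cfsg.Agent.MC3
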