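import Cfsg.Agent.MC3.Fact
import Cfsg.Agent.H3.Transfer2

set_option autoImplicit false
set_option linter.unusedSectionVars false

namespace Cfsg.Agent.MC3

open Subgroup Equiv H49 H24 H24.SL5

variable {G : Type*} [Group G]

/-- the hypotheses, without the centraliser condition -/
structure Hyp0 (S J Q : Subgroup G) (z : G) (π : G → Perm (Fin 6)) (ρ : G → SL5) : Prop where
  syl : H42.SylIn 3 S ⊤
  hZ : zpowers z = S ⊓ 𝒞(S)
  z3 : orderOf z = 3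
  JS : J ≤ S
  Jab : J ≤ 𝒞(J)
  Jexp : ∀ a ∈ J, a ^ 3 = 1
  Jcard : Nat.card J = 81
  πh : PH (o3 𝒩(J)) π
  πker : ∀ m ∈ o3 𝒩(J), π m = 1 ↔ m ∈ J
  πsign : ∀ m ∈ o3 𝒩(J), Perm.sign (π m) = 1
  πsurj : ∀ σ, Perm.sign σ = 1 → ∃ m ∈ o3 𝒩(J), π m = σ
  ρh : PH (o3 𝒩(zpowers z)) ρ
  ρker : ∀ m ∈ o3 𝒩(zpowers z), ρ m = 1 ↔ m ∈ Q
  ρsurj : ∀ σ, ∃ m ∈ o3 𝒩(zpowers z), ρ m = σ
  QL : Q ≤ o3 𝒩(zpowers z)
  Qn : 𝒩(zpowers z) ≤ 𝒩(Q)
  Qcard : Nat.card Q = 243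
  Qexp : ∀ a ∈ Q, a ^ 3 = 1
  Qz : Q ⊓ 𝒞(Q) = zpowers z
  Qcomm : ∀ a ∈ Q, ∀ b ∈ Q, a * b * a⁻¹ * b⁻¹ ∈ zpowers z

/-- the hypotheses -/
structure Hyp (S J Q : Subgroup G) (z : G) (π : G → Perm (Fin 6)) (ρ : G → SL5) : Prop
    extends Hyp0 S J Q z π ρ where
  CQ : 𝒞(Q) ≤ Q

variable [Finite G] {S J Q : Subgroup G} {z : G} {π : G → Perm (Fin 6)} {ρ : G → SL5}

theorem o3_le_cent (hz : orderOf z = 3) : o3 𝒩(zpowers z) ≤ 𝒞[z] :=
  (closure_le _).mpr fun _ ⟨h, k, hk⟩ => H76.comm_of_odd_of_norm hz h (hk ▸ Odd.pow (by decide))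

theorem cent1_le_norm (z : G) : 𝒞[z] ≤ 𝒩(zpowers z) := cent_zpowers z ▸ cent_le_norm _

namespace Hyp0
variable (h : Hyp0 S J Q z π ρ)
include h

theorem z_cube : z ^ 3 = 1 := h.z3 ▸ pow_orderOf_eq_one z
theorem zS : z ∈ S := (h.hZ.le (mem_zpowers z)).1
theorem zQ : z ∈ Q := (h.Qz.ge (mem_zpowers z)).1
theorem NS_le : 𝒩(S) ≤ 𝒩(zpowers z) := h.hZ ▸ norm_inf le_rfl (norm_cent le_rfl)
theorem Lc : o3 𝒩(zpowers z) ≤ 𝒞[z] := o3_le_cent h.z3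
theorem SL : S ≤ o3 𝒩(zpowers z) := le_o3 h.syl.isP (le_normalizer.trans h.NS_le)
theorem Sc : S ≤ 𝒞[z] := h.SL.trans h.Lc
theorem Qp : IsPGroup 3 Q := isP_of_exp h.Qexp
theorem Jp : IsPGroup 3 J := isP_of_exp h.Jexp
theorem SnQ : S ≤ 𝒩(Q) := le_normalizer.trans (h.NS_le.trans h.Qn)
theorem LnQ : o3 𝒩(zpowers z) ≤ 𝒩(Q) := (o3_le _).trans h.Qn
theorem QS : Q ≤ S := le_syl_of_norm h.syl h.Qp le_top (.inr h.SnQ)
theorem cardZ : Nat.card (zpowers z) = 3 := by rw [Nat.card_zpowers, h.z3]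
theorem ZQ : zpowers z ≤ Q := zpowers_le.mpr h.zQ
theorem JM : J ≤ o3 𝒩(J) := le_o3 h.Jp le_normalizer

theorem comm_of_Z {a b : G} (ha : a ∈ zpowers z) (hb : b ∈ 𝒞[z]) : a * b = b * a := by
  obtain ⟨n, rfl⟩ := ha
  exact ((Commute.symm (mem_cent1.mp hb)).zpow_left n).eq

theorem cardL : Nat.card (o3 𝒩(zpowers z)) = 29160 := by
  have e : h.ρh.im = ⊤ := eq_top_iff.mpr fun σ _ => h.ρh.mem_im.mpr (h.ρsurj σ)
  rw [h.ρh.card h.ρker, inf_eq_left.mpr h.QL, h.Qcard, e, card_top, SL5.card_eq]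

theorem cardS : Nat.card S = 729 := by
  have : Fact (Nat.Prime 3) := ⟨Nat.prime_three⟩
  obtain ⟨k, hk⟩ := card_pow_of_isP h.syl.isP
  have h1 := card_mul_relIndex h.SL
  have h2 := (h.syl.of_le h.SL le_top).ndvd
  rw [h.cardL, hk] at h1
  have h3 : 3 ^ 6 ∣ 3 ^ k :=
    (Nat.Coprime.pow_left 6 ((Nat.Prime.coprime_iff_not_dvd Nat.prime_three).mpr h2)).dvd_of_dvd_mul_right
      (h1 ▸ by decide)
  have h4 : ¬ 3 ^ 7 ∣ 3 ^ k := fun hc => absurd (hc.trans (Dvd.intro _ h1)) (by decide)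
  rw [Nat.pow_dvd_pow_iff_le_right (by decide)] at h3 h4
  rw [hk, show k = 6 by omega]; rfl

/-- `[q, ·]` has kernel of index at most three -/
theorem card_le_cent {X : Subgroup G} (hX : X ≤ Q) {q : G} (hq : q ∈ Q) :
    Nat.card X ≤ 3 * Nat.card ↥(X ⊓ 𝒞[q]) := by
  have ph : PH X fun a => a * q * a⁻¹ * q⁻¹ := ⟨fun a ha b hb => by
    have := h.comm_of_Z (h.Qcomm b (hX hb) q hq) (h.Sc (h.QS (hX ha)))
    have h2 := h.comm_of_Z (h.Qcomm b (hX hb) q hq) (h.Sc (h.QS (Q.mul_mem (Q.mul_mem hq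
      (Q.inv_mem (hX ha))) (Q.inv_mem hq))))
    calc a * b * q * (a * b)⁻¹ * q⁻¹ = a * ((b * q * b⁻¹ * q⁻¹) * (q * a⁻¹ * q⁻¹)) := by group
      _ = _ := by rw [h2]; group⟩
  have hk : ∀ a ∈ X, a * q * a⁻¹ * q⁻¹ = 1 ↔ a ∈ 𝒞[q] := fun a _ => by
    rw [mem_cent1, mul_inv_eq_one, mul_inv_eq_iff_eq_mul]
  rw [ph.card hk, inf_comm, mul_comm]
  refine Nat.mul_le_mul_right _ (h.cardZ ▸ card_le_of_le fun σ hσ => ?_)
  obtain ⟨a, ha, rfl⟩ := ph.mem_im.mp hσ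
  exact h.Qcomm a (hX ha) q hq

theorem card_ab {X : Subgroup G} (hX : X ≤ Q) (hab : X ≤ 𝒞(X)) : Nat.card X ≤ 27 := by
  by_contra hc
  obtain ⟨k, hk⟩ := card_pow_of_isP (h.Qp.to_le hX)
  have hk4 : 81 ≤ Nat.card X := by
    rw [hk] at hc ⊢
    have : 4 ≤ k := by
      by_contra hk'
      exact hc (Nat.pow_le_pow_right (n := 3) (by decide) (show k ≤ 3 by omega))
    exact Nat.pow_le_pow_right (n := 3) (by decide) this
  have key : ∀ q ∈ Q, Q ≤ X ⊔ zpowers q → False := fun q hq hle => by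
    have h1 := h.card_le_cent hX hq
    have h2 : X ⊓ 𝒞[q] ≤ zpowers z := fun a ha => h.Qz.le ⟨hX ha.1, cent_anti hle (by
      rw [cent_sup, cent_zpowers]; exact ⟨hab ha.1, ha.2⟩)⟩
    have := card_le_of_le h2
    rw [h.cardZ] at this
    omega
  by_cases hQ : Q ≤ X
  · exact key 1 Q.one_mem (hQ.trans le_sup_left)
  obtain ⟨q, hq, hqX⟩ := SetLike.not_le_iff_exists.mp hQ
  have h1 : X ⊔ zpowers q ≤ Q := sup_le hX (zpowers_le.mpr hq)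
  have h2 := card_lt_of_lt (lt_of_le_of_ne (le_sup_left (a := X) (b := zpowers q))
    fun e => hqX (e ▸ mem_sup_right (mem_zpowers q)))
  obtain ⟨j, hj⟩ := card_pow_of_isP (h.Qp.to_le h1)
  refine key q hq (eq_of_le_of_card_ge h1 ?_).ge
  rw [hj] at h2
  rw [h.Qcard, hj]
  have : 5 ≤ j := by
    by_contra hj'
    have := Nat.pow_le_pow_right (n := 3) (by decide) (show j ≤ 4 by omega)
    omega
  exact Nat.pow_le_pow_right (n := 3) (by decide) this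

theorem card_inf_ab {X : Subgroup G} (hX : X ≤ S) (hab : X ≤ 𝒞(X)) (hc : Nat.card X = 81) :
    Nat.card ↥(X ⊓ Q) = 27 := by
  have h1 := card_mul_le hX h.QS
  have h2 := h.card_ab (inf_le_right (a := X)) (inf_le_left.trans (hab.trans (cent_anti inf_le_left)))
  rw [hc, h.Qcard, h.cardS] at h1
  omega

theorem cent_inf_ab {X : Subgroup G} (hX : X ≤ S) (hab : X ≤ 𝒞(X)) (hc : Nat.card X = 81) {q : G}
    (hq : q ∈ Q) (hqc : q ∈ 𝒞(X ⊓ Q)) : q ∈ X := by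
  have h1 : X ⊓ Q ≤ 𝒞(X ⊓ Q) := inf_le_left.trans (hab.trans (cent_anti inf_le_left))
  have h2 := h.card_ab (X := (X ⊓ Q) ⊔ zpowers q) (sup_le inf_le_right (zpowers_le.mpr hq))
    (abelian_iff.mp (abelian_sup (abelian_iff.mpr h1) inferInstance (cent_symm (zpowers_le.mpr hqc))))
  rw [← h.card_inf_ab hX hab hc] at h2
  exact ((eq_of_le_of_card_ge le_sup_left h2).ge (mem_sup_right (mem_zpowers q))).1

theorem cardU : Nat.card ↥(J ⊓ Q) = 27 := h.card_inf_ab h.JS h.Jab h.Jcard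

theorem zJ : z ∈ J := h.cent_inf_ab h.JS h.Jab h.Jcard h.zQ
  (le_cent1_iff.mp (inf_le_right.trans (h.QS.trans h.Sc)))

theorem exists_x {X : Subgroup G} (hX : X ≤ S) (hab : X ≤ 𝒞(X)) (hc : Nat.card X = 81) :
    ∃ x ∈ X, x ∉ Q := by
  refine SetLike.not_le_iff_exists.mp fun hle => ?_
  have := h.card_inf_ab hX hab hc
  rw [inf_eq_left.mpr hle, hc] at this
  omega

theorem sup_eq {x : G} (hx : x ∈ S) (hq : x ∉ Q) : Q ⊔ zpowers x = S := by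
  have h1 : Q ⊔ zpowers x ≤ S := sup_le h.QS (zpowers_le.mpr hx)
  have h2 := card_lt_of_lt (lt_of_le_of_ne (le_sup_left (a := Q) (b := zpowers x))
    fun e => hq (e ▸ mem_sup_right (mem_zpowers x)))
  obtain ⟨j, hj⟩ := card_pow_of_isP (h.syl.isP.to_le h1)
  refine eq_of_le_of_card_ge h1 ?_
  rw [h.Qcard, hj] at h2
  rw [h.cardS, hj]
  have : 6 ≤ j := by
    by_contra hj'
    have := Nat.pow_le_pow_right (n := 3) (by decide) (show j ≤ 5 by omega)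
    omega
  exact Nat.pow_le_pow_right (n := 3) (by decide) this

theorem exists_mul {x s : G} (hx : x ∈ S) (hq : x ∉ Q) (hs : s ∈ S) :
    ∃ q ∈ Q, ∃ y ∈ zpowers x, s = q * y :=
  (mem_sup_of_norm_left (zpowers_le.mpr (h.SnQ hx))).mp ((h.sup_eq hx hq).ge hs)

theorem QJ : Q ⊔ J = S := by
  obtain ⟨x, hx, hq⟩ := h.exists_x h.JS h.Jab h.Jcard
  exact le_antisymm (sup_le h.QS h.JS)
    ((h.sup_eq (h.JS hx) hq).ge.trans (sup_le_sup_left (zpowers_le.mpr hx) _))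

theorem NS_of {n : G} (h1 : n ∈ 𝒩(zpowers z)) (h2 : n ∈ 𝒩(J)) : n ∈ 𝒩(S) :=
  h.QJ ▸ norm_sup (zpowers_le.mpr (h.Qn h1)) (zpowers_le.mpr h2) (mem_zpowers n)

theorem cube_mem {x : G} (hx : x ∈ S) : x ^ 3 ∈ Q := by
  have : (Q.subgroupOf S).Normal := normal_subgroupOf h.SnQ
  have h1 := card_mul_relIndex h.QS
  rw [h.Qcard, h.cardS] at h1
  have h2 := (Q.subgroupOf S).pow_index_mem ⟨x, hx⟩
  rwa [show (Q.subgroupOf S).index = 3 by change Q.relIndex S = 3; omega] at h2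

/-- normalisation of `ρ` -/
theorem exists_rho {x : G} (hx : x ∈ S) (hq : x ∉ Q) : ∃ ρ', Hyp0 S J Q z π ρ' ∧ ρ' x = A := by
  obtain ⟨l, hl⟩ := exists_conj_A (x := ρ x)
    (by rw [← h.ρh.pow (h.SL hx), h.ρker _ (pow_mem (h.SL hx) 3)]; exact h.cube_mem hx)
    fun e => hq ((h.ρker _ (h.SL hx)).mp e)
  refine ⟨fun g => MulAut.conj l (ρ g), { h with
    ρh := h.ρh.comp (MulAut.conj l).toMonoidHom
    ρker := fun m hm => by rw [MulEquiv.map_eq_one_iff, h.ρker m hm]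
    ρsurj := fun σ => ?_ }, hl⟩
  obtain ⟨m, hm, e⟩ := h.ρsurj ((MulAut.conj l).symm σ)
  exact ⟨m, hm, by rw [e, MulEquiv.apply_symm_apply]⟩

end Hyp0

end Cfsg.Agent.MC3
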