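import Cfsg.Agent.MC3.Loc1

set_option autoImplicit false
set_option linter.unusedSectionVars false

namespace Cfsg.Agent.MC3

open Subgroup Equiv H49 H24 H24.SL5

variable {G : Type*} [Group G]

/-- fixed points of `l` on `Q/Z` -/
def CV {Q Z : Subgroup G} (hn : Q ≤ 𝒩(Z)) (l : G) : Subgroup G where
  carrier := {q | q ∈ Q ∧ l * q * l⁻¹ * q⁻¹ ∈ Z}
  one_mem' := ⟨Q.one_mem, by simp⟩
  mul_mem' := fun {a b} ha hb => ⟨Q.mul_mem ha.1 hb.1, by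
    have := Z.mul_mem ha.2 (conj_mem_of_norm hn ha.1 hb.2)
    rwa [show l * a * l⁻¹ * a⁻¹ * (a * (l * b * l⁻¹ * b⁻¹) * a⁻¹) =
      l * (a * b) * l⁻¹ * (a * b)⁻¹ by group] at this⟩
  inv_mem' := fun {a} ha => ⟨Q.inv_mem ha.1, by
    have := conj_mem_of_norm' hn ha.1 (Z.inv_mem ha.2)
    rwa [show a⁻¹ * (l * a * l⁻¹ * a⁻¹)⁻¹ * a = l * a⁻¹ * l⁻¹ * a⁻¹⁻¹ by group] at this⟩

theorem cube_conj {k q u c : G} (e1 : k * q * k⁻¹ = u * q) (e2 : k * u * k⁻¹ = c * u)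
    (e3 : k * c * k⁻¹ = c) (h7 : c * u = u * c) (h4 : u ^ 3 = 1) (h5 : c ^ 3 = 1) :
    q * k ^ 3 = k ^ 3 * q := by
  rw [pow_three'] at *
  have e4 : k * k * k * q * (k * k * k)⁻¹ = c * (c * u) * (c * u) * (u * q) := by
    calc _ = k * (k * (k * q * k⁻¹) * k⁻¹) * k⁻¹ := by group
      _ = k * ((k * u * k⁻¹) * (k * q * k⁻¹)) * k⁻¹ := by
        conv_lhs => rw [e1]
        group
      _ = (k * c * k⁻¹) * (k * u * k⁻¹) * (k * u * k⁻¹) * (k * q * k⁻¹) := by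
        conv_lhs => rw [e1, e2]
        group
      _ = _ := by rw [e1, e2, e3]
  have e5 : c * (c * u) * (c * u) * (u * q) = (c * c * c) * (u * u * u) * q := by
    calc _ = c * c * (u * c) * u * u * q := by group
      _ = _ := by rw [← h7]; group
  rw [e5, h4, h5, one_mul, one_mul, mul_inv_eq_iff_eq_mul] at e4
  exact e4.symm

variable [Finite G] {S J Q : Subgroup G} {z : G} {π : G → Perm (Fin 6)} {ρ : G → SL5}

theorem Hyp0.QnZ (h : Hyp0 S J Q z π ρ) : Q ≤ 𝒩(zpowers z) := h.QL.trans (o3_le _)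

/-- fixed points of `l` on `Q/Z` -/
abbrev Hyp0.cv (h : Hyp0 S J Q z π ρ) (l : G) : Subgroup G := CV h.QnZ l

namespace Hyp0
variable (h : Hyp0 S J Q z π ρ)
include h

theorem mem_cv {l q : G} : q ∈ h.cv l ↔ q ∈ Q ∧ l * q * l⁻¹ * q⁻¹ ∈ zpowers z := Iff.rfl

theorem cv_le (l : G) : h.cv l ≤ Q := fun _ hq => hq.1

theorem cv_Q {l : G} (hl : l ∈ Q) : Q ≤ h.cv l := fun _ hq => ⟨hq, h.Qcomm l hl _ hq⟩

theorem cv_mul {a b q : G} (hn : a ∈ 𝒩(zpowers z)) (ha : q ∈ h.cv a) (hb : q ∈ h.cv b) :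
    q ∈ h.cv (a * b) := ⟨ha.1, by
  have := mul_mem (conj_mem_of_norm le_rfl hn hb.2) ha.2
  rwa [show a * (b * q * b⁻¹ * q⁻¹) * a⁻¹ * (a * q * a⁻¹ * q⁻¹) =
    a * b * q * (a * b)⁻¹ * q⁻¹ by group] at this⟩

theorem cv_pow {a q : G} (hn : a ∈ 𝒩(zpowers z)) (ha : q ∈ h.cv a) (n : ℕ) : q ∈ h.cv (a ^ n) := by
  induction n with
  | zero => exact ⟨ha.1, by simp⟩
  | succ n ih => rw [pow_succ']; exact h.cv_mul hn ha ih

theorem cv_zpowers {a b : G} (hn : a ∈ 𝒩(zpowers z)) (hb : b ∈ zpowers a) : h.cv a ≤ h.cv b := by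
  obtain ⟨n, rfl⟩ := (mem_powers_iff_mem_zpowers.mpr hb)
  exact fun _ hq => h.cv_pow hn hq n

theorem cv_conj {a l q : G} (hn : a ∈ 𝒩(zpowers z)) (hq : q ∈ h.cv l) :
    a * q * a⁻¹ ∈ h.cv (a * l * a⁻¹) := ⟨conj_mem_of_norm le_rfl (h.Qn hn) hq.1, by
  have := conj_mem_of_norm le_rfl hn hq.2
  rwa [show a * (l * q * l⁻¹ * q⁻¹) * a⁻¹ =
    a * l * a⁻¹ * (a * q * a⁻¹) * (a * l * a⁻¹)⁻¹ * (a * q * a⁻¹)⁻¹ by group] at this⟩

theorem Z_le_cv {l : G} (hn : l ∈ 𝒩(zpowers z)) : zpowers z ≤ h.cv l := fun q hq =>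
  ⟨h.ZQ hq, mul_mem (conj_mem_of_norm le_rfl hn hq) (inv_mem hq)⟩

theorem Zexp {a : G} (ha : a ∈ zpowers z) : a ^ 3 = 1 := h.Qexp a (h.ZQ ha)

theorem card_le_three {Y : Subgroup G} (hY : Y ≤ S) : Nat.card Y ≤ 3 * Nat.card ↥(Y ⊓ Q) := by
  have h1 := card_mul_le hY h.QS
  rw [h.Qcard, h.cardS] at h1
  omega

end Hyp0

namespace Hyp
variable (h : Hyp S J Q z π ρ)
include h

theorem exists_five : ∃ e ∈ o3 𝒩(zpowers z), ∀ R : Subgroup G, R ≤ Q → zpowers z ≤ R →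
    e ∈ 𝒩(R) → R = zpowers z ∨ R = Q := by
  have : Fact (Nat.Prime 5) := ⟨by norm_num⟩
  obtain ⟨e, he⟩ := exists_prime_orderOf_dvd_card' (G := o3 𝒩(zpowers z)) 5
    (by rw [h.cardL]; decide)
  rw [← orderOf_coe] at he
  have hp : IsPGroup 5 (zpowers (e : G)) := IsPGroup.of_card (n := 1) (by rw [Nat.card_zpowers, he]; rfl)
  have key : ∀ R : Subgroup G, R ≤ Q → zpowers z ≤ R → Nat.card R ≡ 3 [MOD 5] →
      R = zpowers z ∨ R = Q := fun R hR hZ hm => by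
    obtain ⟨k, hk⟩ := card_pow_of_isP (h.Qp.to_le hR)
    have h1 := card_le_of_le hR
    rw [h.Qcard, hk] at h1
    have h2 : k ≤ 5 := (Nat.pow_le_pow_iff_right (a := 3) (by decide)).mp h1
    rw [hk] at hm
    interval_cases k
    all_goals first
      | exact absurd hm (by decide)
      | exact .inl (eq_of_le_of_card_eq hZ (by rw [h.cardZ, hk]; rfl)).symm
      | exact .inr (eq_of_le_of_card_eq hR (by rw [h.Qcard, hk]; rfl))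
  have hZe : zpowers z ≤ 𝒞(zpowers (e : G)) := by
    rw [cent_zpowers, zpowers_le, mem_cent1_comm]; exact h.Lc e.2
  have h1 : Q ⊓ 𝒞(zpowers (e : G)) = zpowers z := by
    have hm := H3.card_modEq_card_inf_centralizer hp (zpowers_le.mpr (h.LnQ e.2))
    rw [h.Qcard] at hm
    refine (key _ inf_le_left (le_inf h.ZQ hZe) (hm.symm.trans (by decide))).resolve_right fun e' => ?_
    have h2 : (e : G) ∈ Q := h.CQ (cent_symm (inf_eq_left.mp e') (mem_zpowers _))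
    have := orderOf_dvd_of_pow_eq_one (h.Qexp _ h2)
    rw [he] at this
    exact absurd this (by decide)
  refine ⟨e, e.2, fun R hR hZ hn => key R hR hZ ?_⟩
  have hm := H3.card_modEq_card_inf_centralizer hp (zpowers_le.mpr hn)
  rwa [le_antisymm ((inf_le_inf_right _ hR).trans h1.le) (le_inf hZ hZe), h.cardZ] at hm

theorem cv_neg {t : G} (ht : t ∈ o3 𝒩(zpowers z)) (hρ : ρ t = -1) : h.cv t = zpowers z := by
  obtain ⟨e, he, H⟩ := h.exists_five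
  have htn := o3_le _ ht
  refine (H _ (h.cv_le t) (h.Z_le_cv htn) (mem_norm_of_cj_le fun q hq => ?_)).resolve_right
    fun e' => ?_
  · obtain ⟨q, hq', rfl⟩ := mem_cj'.mp hq
    have h1 := h.cv_conj (o3_le _ he) hq'
    have h2 : t * (e * t * e⁻¹)⁻¹ ∈ Q := by
      have hm := mul_mem (mul_mem he ht) (inv_mem he)
      rw [← h.ρker _ (mul_mem ht (inv_mem hm)), h.ρh.div ht hm, h.ρh.conj he ht, hρ]
      simp
    have := h.cv_mul (h.QnZ h2) (h.cv_Q h2 h1.1) h1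
    rwa [inv_mul_cancel_right] at this
  · have h3 : t ^ 3 ∈ Q := h.CQ (fun q hq => by
      have h1 := (e'.ge hq).2
      have h2 := h.comm_of_Z h1 (h.Lc ht)
      exact cube_conj (u := t * q * t⁻¹ * q⁻¹) (c := 1) (by group) (by rw [← h2]; group) (by group)
        (by group) (h.Zexp h1) (one_pow 3))
    rw [← h.ρker _ (pow_mem ht 3), h.ρh.pow ht, hρ] at h3
    exact neg_one_ne_one (by simpa [pow_succ] using h3)

theorem inv_of_neg {t q : G} (ht : t ∈ o3 𝒩(zpowers z)) (hρ : ρ t = -1) (hq : q ∈ Q) :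
    t * q * t⁻¹ * q ∈ zpowers z := by
  have h1 := conj_mem_of_norm h.LnQ ht hq
  have h2 : t * t ∈ Q := by
    rw [← h.ρker _ (mul_mem ht ht), h.ρh.mul _ ht _ ht, hρ]; simp
  rw [← h.cv_neg ht hρ]
  refine ⟨mul_mem h1 hq, ?_⟩
  have := mul_mem (h.Qcomm _ h2 q hq) (h.Qcomm q hq _ h1)
  rwa [show t * t * q * (t * t)⁻¹ * q⁻¹ * (q * (t * q * t⁻¹) * q⁻¹ * (t * q * t⁻¹)⁻¹) =
    t * (t * q * t⁻¹ * q) * t⁻¹ * (t * q * t⁻¹ * q)⁻¹ by group] at this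

theorem exists_rho {x : G} (hx : x ∈ S) (hq : x ∉ Q) : ∃ ρ', Hyp S J Q z π ρ' ∧ ρ' x = A :=
  (h.toHyp0.exists_rho hx hq).imp fun _ h' => ⟨⟨h'.1, h.CQ⟩, h'.2⟩

theorem card_cv {x : G} (hx : x ∈ S) (hq : x ∉ Q) : Nat.card (h.cv x) ≤ 27 := by
  obtain ⟨ρ', h', hA⟩ := h.exists_rho hx hq
  obtain ⟨m, hm, e⟩ := h'.ρsurj M
  have hxL := h.SL hx
  have hx2 := mul_mem (mul_mem hm hxL) (inv_mem hm)
  have h1 : h.cv x ⊓ cj m (h.cv x) ≤ zpowers z := fun q hq => by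
    obtain ⟨q', hq', e'⟩ := mem_cj'.mp hq.2
    have h2 := h.cv_conj (o3_le _ hm) hq'
    rw [← e'] at h2
    rw [← h'.cv_neg (pow_mem (mul_mem hxL hx2) 2)
      (by rw [h'.ρh.pow (mul_mem hxL hx2), h'.ρh.mul _ hxL _ hx2, h'.ρh.conj hm hxL, hA, e, MA, AB])]
    exact h.cv_pow (o3_le _ (mul_mem hxL hx2)) (h.cv_mul (o3_le _ hxL) hq.1 h2) 2
  have h2 := card_mul_le (h.cv_le x) (cj_le_of_mem_norm (h.cv_le x) (h.LnQ hm))
  have h3 := card_le_of_le h1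
  rw [card_cj, h.Qcard] at h2
  rw [h.cardZ] at h3
  nlinarith

theorem cv_eq {X : Subgroup G} (hX : X ≤ S) (hab : X ≤ 𝒞(X)) (hc : Nat.card X = 81) {x : G}
    (hx : x ∈ S) (hq : x ∉ Q) : h.cv x = X ⊓ Q := by
  obtain ⟨y, hy, hyq⟩ := h.exists_x hX hab hc
  obtain ⟨q, hq', y', hy', rfl⟩ := h.exists_mul (hX hy) hyq hx
  refine (eq_of_le_of_card_ge (fun a ha => ?_) ?_).symm
  · refine h.cv_mul (h.QnZ hq') (h.cv_Q hq' ha.2) (h.cv_zpowers (o3_le _ (h.SL (hX hy))) hy' ⟨ha.2, ?_⟩)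
    rw [← hab hy a ha.1]; simp
  · rw [h.card_inf_ab hX hab hc]; exact h.card_cv hx hq

theorem cv_J {x : G} (hx : x ∈ S) (hq : x ∉ Q) : h.cv x = J ⊓ Q :=
  h.cv_eq h.JS h.Jab h.Jcard hx hq

theorem eq_cent {X : Subgroup G} (hX : X ≤ S) (hab : X ≤ 𝒞(X)) (hc : Nat.card X = 81) :
    X = S ⊓ 𝒞(J ⊓ Q) := by
  obtain ⟨x, hx, hq⟩ := h.exists_x h.JS h.Jab h.Jcard
  have e : J ⊓ Q = X ⊓ Q := (h.cv_J (h.JS hx) hq).symm.trans (h.cv_eq hX hab hc (h.JS hx) hq)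
  refine eq_of_le_of_card_ge (le_inf hX (e ▸ hab.trans (cent_anti inf_le_left))) ?_
  have h1 := h.card_le_three (inf_le_left (b := 𝒞(J ⊓ Q)))
  have h2 := card_le_of_le (show S ⊓ 𝒞(J ⊓ Q) ⊓ Q ≤ J ⊓ Q from fun q hq =>
    ⟨h.cent_inf_ab h.JS h.Jab h.Jcard hq.2 hq.1.2, hq.2⟩)
  rw [h.cardU] at h2
  omega

theorem uniq {X : Subgroup G} (hX : X ≤ S) (hab : X ≤ 𝒞(X)) (hc : Nat.card X = 81) : X = J :=
  (h.eq_cent hX hab hc).trans (h.eq_cent h.JS h.Jab h.Jcard).symm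

theorem cj_eq_of_le {g : G} (hg : cj g J ≤ S) : cj g J = J :=
  h.uniq hg (cj_centralizer g J ▸ cj_mono g h.Jab) (by rw [card_cj, h.Jcard])

theorem NS_le_NJ : 𝒩(S) ≤ 𝒩(J) := fun _ hn =>
  mem_norm_iff_cj.mpr (h.cj_eq_of_le (cj_le_of_mem_norm h.JS hn))

theorem SnJ : S ≤ 𝒩(J) := le_normalizer.trans h.NS_le_NJ

theorem SM : S ≤ o3 𝒩(J) := le_o3 h.syl.isP h.SnJ

/-- `J` is weakly closed in every 3-subgroup -/
theorem wc {T : Subgroup G} (hT : IsPGroup 3 T) (hJ : J ≤ T) {g : G} (hg : cj g J ≤ T) :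
    g ∈ 𝒩(J) := by
  have : Fact (Nat.Prime 3) := ⟨Nat.prime_three⟩
  obtain ⟨a, -, ha⟩ := h.syl.exists_conj hT le_top
  have hle : cj a T ≤ S := fun x hx => by
    obtain ⟨y, hy, rfl⟩ := mem_cj'.mp hx; exact ha y hy
  have h1 := h.cj_eq_of_le ((cj_mono a hJ).trans hle)
  have h2 := h.cj_eq_of_le (g := a * g) (by rw [cj_mul]; exact (cj_mono a hg).trans hle)
  rw [cj_mul] at h2
  exact mem_norm_iff_cj.mpr (cj_inj.mp (h2.trans h1.symm))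

theorem le_NJ {T : Subgroup G} (hT : IsPGroup 3 T) (hJ : J ≤ T) : 𝒩(T) ≤ 𝒩(J) := fun _ hg =>
  h.wc hT hJ (cj_le_of_mem_norm hJ hg)

/-- control of fusion in `J` -/
theorem fusion {a g : G} (ha : a ∈ J) (hg : g * a * g⁻¹ ∈ J) :
    ∃ n ∈ 𝒩(J), n * a * n⁻¹ = g * a * g⁻¹ := by
  have : Fact (Nat.Prime 3) := ⟨Nat.prime_three⟩
  have h1 : J ≤ 𝒞[g * a * g⁻¹] := le_cent1_iff.mpr (h.Jab hg)
  have h2 : cj g J ≤ 𝒞[g * a * g⁻¹] := cj_cent1 g a ▸ cj_mono g (le_cent1_iff.mpr (h.Jab ha))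
  obtain ⟨T, hT, hJT⟩ := H42.exists_sylIn h.Jp h1
  obtain ⟨c, hc, H⟩ := hT.exists_conj (isPGroup_cj.mpr h.Jp) h2
  refine ⟨c * g, h.wc hT.isP hJT fun x hx => ?_, ?_⟩
  · rw [cj_mul] at hx
    obtain ⟨y, hy, rfl⟩ := mem_cj'.mp hx; exact H y hy
  · rw [show c * g * a * (c * g)⁻¹ = c * (g * a * g⁻¹) * c⁻¹ by group, mem_cent1.mp hc]; group

theorem Jcomm {a b : G} (ha : a ∈ J) (hb : b ∈ J) : a * b = b * a := h.Jab hb a ha

theorem act_z {k x : G} (hk : k ∈ 𝒩(S)) (hW : ∀ q ∈ Q, k * q * k⁻¹ * q⁻¹ ∈ J) (hx : x ∈ J)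
    (hq : x ∉ Q) : (k * x * k⁻¹ * x⁻¹ ∈ Q → k * z * k⁻¹ = z) ∧
      (k * x * k⁻¹ * x ∈ Q → k * z * k⁻¹ = z⁻¹) := by
  have hkJ := h.NS_le_NJ hk
  obtain ⟨q, hqQ, hqJ⟩ : ∃ q ∈ Q, q ∉ J := SetLike.not_le_iff_exists.mp fun hle => by
    have := card_le_of_le hle
    rw [h.Qcard, h.Jcard] at this
    omega
  have cJ : ∀ a ∈ J, ∀ q ∈ Q, a * q * a⁻¹ * q⁻¹ ∈ J := fun a ha q hq => by
    have := mul_mem ha (conj_mem_of_norm h.SnJ (h.QS hq) (inv_mem ha))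
    rwa [← mul_assoc, ← mul_assoc] at this
  set u := x * q * x⁻¹ * q⁻¹ with hu
  have huJ : u ∈ J := cJ x hx q hqQ
  have hxq := conj_mem_of_norm h.SnQ (h.JS hx) hqQ
  have huQ : u ∈ Q := mul_mem hxq (inv_mem hqQ)
  have huZ : u ∉ zpowers z := fun hz => hqJ ((h.cv_J (h.JS hx) hq).le ⟨hqQ, hz⟩).1
  obtain ⟨r, hr, hc⟩ : ∃ r ∈ Q, r * u * r⁻¹ * u⁻¹ ≠ 1 := by
    by_contra hc
    push Not at hc
    exact huZ (h.Qz.le ⟨huQ, fun r hr => by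
      have := hc r hr; rwa [mul_inv_eq_one, mul_inv_eq_iff_eq_mul] at this⟩)
  have hcZ := h.Qcomm r hr u huQ
  have hy := conj_mem_of_norm le_rfl hkJ hx
  have hu' := conj_mem_of_norm le_rfl hkJ huJ
  have e1 : k * u * k⁻¹ = (k * x * k⁻¹) * q * (k * x * k⁻¹)⁻¹ * q⁻¹ := by
    have h1 := h.Jcomm (hW q hqQ) (cJ _ hy q hqQ)
    have h2 := h.Jcomm (hW q hqQ) hy
    generalize hv : k * q * k⁻¹ * q⁻¹ = v at h1 h2
    have h3 : k * q * k⁻¹ = v * q := by rw [← hv]; group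
    calc k * u * k⁻¹ = (k * x * k⁻¹) * (k * q * k⁻¹) * (k * x * k⁻¹)⁻¹ * (k * q * k⁻¹)⁻¹ := by
          rw [hu]; group
      _ = (v * (k * x * k⁻¹ * q * (k * x * k⁻¹)⁻¹ * q⁻¹)) * v⁻¹ := by
          rw [h3, ← mul_assoc _ v, ← h2]; group
      _ = _ := by rw [h1]; group
  have e2 : k * (r * u * r⁻¹ * u⁻¹) * k⁻¹ = r * (k * u * k⁻¹) * r⁻¹ * (k * u * k⁻¹)⁻¹ := by
    have h1 := h.Jcomm (hW r hr) (conj_mem_of_norm h.SnJ (h.QS hr) hu')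
    generalize hv : k * r * k⁻¹ * r⁻¹ = v at h1
    have h3 : k * r * k⁻¹ = v * r := by rw [← hv]; group
    calc _ = (k * r * k⁻¹) * (k * u * k⁻¹) * (k * r * k⁻¹)⁻¹ * (k * u * k⁻¹)⁻¹ := by group
      _ = (v * (r * (k * u * k⁻¹) * r⁻¹)) * v⁻¹ * (k * u * k⁻¹)⁻¹ := by rw [h3]; group
      _ = _ := by rw [h1]; group
  have e3 : ∀ a ∈ zpowers z, ∀ b ∈ Q, r * (a * b) * r⁻¹ * (a * b)⁻¹ = r * b * r⁻¹ * b⁻¹ :=
    fun a ha b hb => by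
      have h1 := h.comm_of_Z ha (h.Sc (h.QS hr))
      have h2 := h.comm_of_Z ha (h.Sc (h.QS (mul_mem (mul_mem (mul_mem hr hb) (inv_mem hr)) (inv_mem hb))))
      calc _ = (a * (r * b * r⁻¹ * b⁻¹)) * a⁻¹ := by rw [← mul_assoc r, ← h1]; group
        _ = _ := by rw [h2]; group
  rw [H76.mem_zpowers_three h.z3] at hcZ
  constructor
  · intro h0
    have e4 : k * u * k⁻¹ = (k * x * k⁻¹ * x⁻¹ * (x * q * x⁻¹) * (k * x * k⁻¹ * x⁻¹)⁻¹ *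
        (x * q * x⁻¹)⁻¹) * u := by rw [e1, hu]; group
    rw [e4, e3 _ (h.Qcomm _ h0 _ hxq) u huQ] at e2
    rcases hcZ with e | e | e
    · exact absurd e hc
    · rwa [e] at e2
    · rw [e] at e2; rw [← inv_inj, ← e2]; group
  · intro h0
    have hxq' := conj_mem_of_norm' h.SnQ (h.JS hx) hqQ
    have e5 : x⁻¹ * q * x * q⁻¹ = u⁻¹ := by
      have := h.Jcomm hx (inv_mem huJ)
      calc _ = x⁻¹ * (u⁻¹ * x) := by rw [hu]; group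
        _ = _ := by rw [← this]; group
    have e4 : k * u * k⁻¹ = (k * x * k⁻¹ * x * (x⁻¹ * q * x) * (k * x * k⁻¹ * x)⁻¹ *
        (x⁻¹ * q * x)⁻¹) * u⁻¹ := by rw [e1, ← e5]; group
    have e6 : r * u⁻¹ * r⁻¹ * u⁻¹⁻¹ = (r * u * r⁻¹ * u⁻¹)⁻¹ := by
      have := h.Jcomm huJ (conj_mem_of_norm h.SnJ (h.QS hr) (inv_mem huJ))
      rw [inv_inv, ← this]; group
    rw [e4, e3 _ (h.Qcomm _ h0 _ hxq') _ (inv_mem huQ), e6] at e2
    rcases hcZ with e | e | e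
    · exact absurd e hc
    · rwa [e] at e2
    · rw [e] at e2; rw [← inv_inj, ← e2]; group

theorem faith {k x : G} (hk : k ∈ 𝒩(S)) (hW : ∀ q ∈ Q, k * q * k⁻¹ * q⁻¹ ∈ J) (hx : x ∈ J)
    (hq : x ∉ Q) (h0 : k * x * k⁻¹ * x⁻¹ ∈ Q) : k ∈ S := by
  have hz : k ∈ 𝒞[z] := by
    rw [mem_cent1, ← mul_inv_eq_iff_eq_mul]; exact (h.act_z hk hW hx hq).1 h0
  have hkJ := h.NS_le_NJ hk
  have hkQ := h.Qn (h.NS_le hk)
  have hU : ∀ u ∈ J, u ∈ Q → k * u * k⁻¹ * u⁻¹ ∈ zpowers z := fun u hu hu' => by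
    have h1 := conj_mem_of_norm le_rfl hkJ hu
    refine h.Qz.le ⟨Q.mul_mem (conj_mem_of_norm le_rfl hkQ hu') (Q.inv_mem hu'), fun r hr => ?_⟩
    have h2 := h.comm_of_Z (h.Qcomm r hr u hu') hz
    have h3 := h.Jcomm (hW r hr) (conj_mem_of_norm h.SnJ (h.QS hr) h1)
    have h6 := h.Jcomm (J.inv_mem hu) h1
    have h7 := h.Jcomm (conj_mem_of_norm h.SnJ (h.QS hr) hu) (J.mul_mem (J.inv_mem hu) h1)
    generalize hv : k * r * k⁻¹ * r⁻¹ = v at h3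
    have h4 : k * r * k⁻¹ = v * r := by rw [← hv]; group
    have e : r * u * r⁻¹ * u⁻¹ = r * (k * u * k⁻¹) * r⁻¹ * (k * u * k⁻¹)⁻¹ := by
      calc _ = k * (r * u * r⁻¹ * u⁻¹) * k⁻¹ := by rw [← h2]; group
        _ = (k * r * k⁻¹) * (k * u * k⁻¹) * (k * r * k⁻¹)⁻¹ * (k * u * k⁻¹)⁻¹ := by group
        _ = (v * (r * (k * u * k⁻¹) * r⁻¹)) * v⁻¹ * (k * u * k⁻¹)⁻¹ := by rw [h4]; group
        _ = _ := by rw [h3]; group
    generalize k * u * k⁻¹ = w at e h6 h7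
    calc r * (w * u⁻¹) = (r * w * r⁻¹ * w⁻¹) * w * (r * u * r⁻¹)⁻¹ * r := by group
      _ = (r * u * r⁻¹) * (u⁻¹ * w) * (r * u * r⁻¹)⁻¹ * r := by rw [← e]; group
      _ = _ := by rw [h7, h6]; group
  have h3 : k ^ 3 ∈ Q := h.CQ fun q hq => by
    have h1 := hW q hq
    have h1' : k * q * k⁻¹ * q⁻¹ ∈ Q := mul_mem (conj_mem_of_norm le_rfl hkQ hq) (inv_mem hq)
    have h2 := hU _ h1 h1'
    exact cube_conj (u := k * q * k⁻¹ * q⁻¹) (by group) (by rw [inv_mul_cancel_right])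
      (by rw [← h.comm_of_Z h2 hz]; group) (h.comm_of_Z h2 (h.Sc (h.QS h1'))) (h.Jexp _ h1) (h.Zexp h2)
  exact mem_syl_of_norm h.syl (k := 2)
    (by rw [show 3 ^ 2 = 3 * 3 from rfl, pow_mul]; exact h.Qexp _ h3) trivial hk

end Hyp

end Cfsg.Agent.MC3
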