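import Cfsg.Agent.MC3.Loc2

set_option autoImplicit false
set_option linter.unusedSectionVars false

namespace Cfsg.Agent.MC3

open Subgroup Equiv H49 H24 H24.SL5

variable {G : Type*} [Group G]

/-- normalised configuration -/
structure Cfg0 (S J Q : Subgroup G) (z : G) (π : G → Perm (Fin 6)) (ρ : G → SL5) (t s : G) : Prop
    extends Hyp S J Q z π ρ where
  πS : ∀ m ∈ o3 𝒩(J), m ∈ S ↔ InS (π m)
  tM : t ∈ o3 𝒩(J)
  πt : π t = t6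
  tt : t * t = 1
  tL : t ∈ o3 𝒩(zpowers z)
  ρt : ρ t = -1
  sM : s ∈ o3 𝒩(J)
  πs : π s = s6
  ss : s * s = 1
  st : s ∈ 𝒞[t]

variable [Finite G] {S J Q : Subgroup G} {z : G} {π : G → Perm (Fin 6)} {ρ : G → SL5}

namespace Hyp
variable (h : Hyp S J Q z π ρ)
include h

theorem exists_pi : ∃ π', Hyp S J Q z π' ρ ∧ ∀ m ∈ o3 𝒩(J), m ∈ S ↔ InS (π' m) := by
  have ph := h.πh.mono h.SM
  obtain ⟨σ, hσ⟩ := exists_conj_S6 (P := ph.im) (h.syl.isP.of_surjective ph.hom.rangeRestrict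
    ph.hom.rangeRestrict_surjective)
  have h' : Hyp S J Q z (fun g => MulAut.conj σ (π g)) ρ := { h with
    πh := h.πh.comp (MulAut.conj σ).toMonoidHom
    πker := fun m hm => by rw [MulEquiv.map_eq_one_iff, h.πker m hm]
    πsign := fun m hm => by simp [h.πsign m hm]
    πsurj := fun τ hτ => by
      obtain ⟨m, hm, e⟩ := h.πsurj ((MulAut.conj σ).symm τ) (by simp [hτ])
      exact ⟨m, hm, by rw [e, MulEquiv.apply_symm_apply]⟩ }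
  have ph' := h'.πh.mono h.SM
  have hle : ph'.im ≤ S6 := fun τ hτ => by
    obtain ⟨m, hm, rfl⟩ := ph'.mem_im.mp hτ
    exact hσ _ (ph.mem_im.mpr ⟨m, hm, rfl⟩)
  have hc := ph'.card fun m hm => h'.πker m (h.SM hm)
  rw [h.cardS, inf_eq_left.mpr h.JS, h.Jcard] at hc
  have e : ph'.im = S6 := eq_of_le_of_card_eq hle (by rw [card_S6]; omega)
  refine ⟨_, h', fun m hm => ⟨fun hs => mem_S6.mp (hle (ph'.mem_im.mpr ⟨m, hs, rfl⟩)), fun hs => ?_⟩⟩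
  obtain ⟨a, ha, ea⟩ := ph'.mem_im.mp (e.ge (mem_S6.mpr hs))
  have : m * a⁻¹ ∈ J := by
    rw [← h'.πker _ (mul_mem hm (inv_mem (h.SM ha))), h'.πh.div hm (h.SM ha), ea, mul_inv_cancel]
  simpa using mul_mem (h.JS this) ha

theorem nz_iff_norm (hS : ∀ m ∈ o3 𝒩(J), m ∈ S ↔ InS (π m)) {m : G} (hm : m ∈ o3 𝒩(J)) :
    m ∈ 𝒩(S) ↔ Nz (π m) := by
  constructor
  · intro hn
    have key : ∀ σ, InS σ → InS (π m * σ * (π m)⁻¹) := fun σ hσ => by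
      obtain ⟨a, ha, rfl⟩ := h.πsurj σ hσ.sign
      rw [← h.πh.conj hm ha, ← hS _ (mul_mem (mul_mem hm ha) (inv_mem hm))]
      exact conj_mem_of_norm le_rfl hn ((hS a ha).mpr hσ)
    exact ⟨key _ (by decide), key _ (by decide)⟩
  · intro hn
    refine mem_norm_of_cj_le fun x hx => ?_
    obtain ⟨a, ha, rfl⟩ := mem_cj'.mp hx
    have haM := h.SM ha
    rw [hS _ (mul_mem (mul_mem hm haM) (inv_mem hm)), h.πh.conj hm haM, ← mem_S6]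
    exact conj_mem_of_norm le_rfl (mem_norm_S6.mpr hn) (mem_S6.mpr ((hS a haM).mp ha))

theorem chi {n x : G} (hn : n ∈ 𝒩(S)) (hx : x ∈ J) (hq : x ∉ Q) :
    n * x * n⁻¹ * x⁻¹ ∈ Q ∨ n * x * n⁻¹ * x ∈ Q := by
  have : Fact (Nat.Prime 3) := ⟨Nat.prime_three⟩
  obtain ⟨q, hq', y, hy, e⟩ := h.exists_mul (h.JS hx) hq (conj_mem_of_norm le_rfl hn (h.JS hx))
  rw [H76.mem_zpowers_three (orderOf_eq_prime (h.Jexp x hx) fun e => hq (e ▸ Q.one_mem))] at hy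
  rcases hy with rfl | rfl | rfl
  · rw [mul_one] at e
    have := conj_mem_of_norm' le_rfl (h.Qn (h.NS_le hn)) hq'
    rw [← e] at this
    exact absurd (by simpa [mul_assoc] using this) hq
  · exact .inl (by simpa [e] using hq')
  · exact .inr (by simpa [e] using hq')

theorem norm_of_neg {t : G} (ht : t ∈ o3 𝒩(zpowers z)) (hρ : ρ t = -1) {a : G}
    (ha : a ∈ o3 𝒩(zpowers z)) : t * a * t⁻¹ * a⁻¹ ∈ Q := by
  have hm := mul_mem (mul_mem ht ha) (inv_mem ht)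
  rw [← h.ρker _ (mul_mem hm (inv_mem ha)), h.ρh.div hm ha, h.ρh.conj ht ha, hρ]
  simp

theorem neg_mem_NS {t : G} (ht : t ∈ o3 𝒩(zpowers z)) (hρ : ρ t = -1) : t ∈ 𝒩(S) :=
  mem_norm_of_cj_le fun x hx => by
    obtain ⟨a, ha, rfl⟩ := mem_cj'.mp hx
    simpa using mul_mem (h.QS (h.norm_of_neg ht hρ (h.SL ha))) ha

theorem exists_cfg0 : ∃ π' t s, Cfg0 S J Q z π' ρ t s := by
  obtain ⟨π, h, hS⟩ := h.exists_pi
  obtain ⟨f1, hf1, e1⟩ := h.πsurj f6 sign_f6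
  have hf12 : (f1 ^ 4) ^ 3 = 1 := h.Jexp _ (by
    rw [← h.πker _ (pow_mem hf1 4), h.πh.pow hf1, e1]; decide)
  have hfM := pow_mem hf1 9
  have πf : π (f1 ^ 9) = f6 := by rw [h.πh.pow hf1, e1]; decide
  have hf4 : (f1 ^ 9 * f1 ^ 9) * (f1 ^ 9 * f1 ^ 9) = 1 := by
    rw [← pow_add, ← pow_add, show 9 + 9 + (9 + 9) = 4 * 3 * 3 from rfl, pow_mul, pow_mul, hf12,
      one_pow]
  generalize f1 ^ 9 = f at hfM πf hf4
  have hfN : f ∈ 𝒩(S) := (h.nz_iff_norm hS hfM).mpr (πf ▸ Nz_f6)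
  have htM := mul_mem hfM hfM
  have πt : π (f * f) = t6 := by rw [h.πh.mul _ hfM _ hfM, πf, f6_sq]
  obtain ⟨t1, ht1, e⟩ := h.ρsurj (-1)
  have ht1' : ρ t1⁻¹ = -1 := by rw [h.ρh.inv ht1, e]; simp
  obtain ⟨x, hx, hq⟩ := h.exists_x h.JS h.Jab h.Jcard
  have hfQ := h.Qn (h.NS_le hfN)
  have hk : f * f * t1⁻¹ ∈ S := by
    refine h.faith (mul_mem (mul_mem hfN hfN) (inv_mem (h.neg_mem_NS ht1 e))) (fun q hq => ?_) hx hq ?_
    · have h1 := h.inv_of_neg (inv_mem ht1) ht1' hq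
      have h2 := conj_mem_of_norm h.LnQ (inv_mem ht1) hq
      have h3 := h.SM (h.QS h2)
      have h4 := h.SM (h.QS hq)
      have h5 := mul_mem (mul_mem htM h3) (inv_mem htM)
      rw [show f * f * t1⁻¹ * q * (f * f * t1⁻¹)⁻¹ * q⁻¹ =
        f * f * (t1⁻¹ * q * t1⁻¹⁻¹) * (f * f)⁻¹ * q⁻¹ by group,
        ← h.πker _ (mul_mem h5 (inv_mem h4)), h.πh.div h5 h4, h.πh.conj htM h3, πt,
        t6_inv _ ((hS _ h3).mp (h.QS h2)), ← mul_inv_rev, inv_eq_one, ← h.πh.mul _ h4 _ h3,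
        h.πker _ (mul_mem h4 h3)]
      have := conj_mem_of_norm h.SnJ (h.QS hq) (zpowers_le.mpr h.zJ h1)
      rwa [show q * (t1⁻¹ * q * t1⁻¹⁻¹ * q) * q⁻¹ = q * (t1⁻¹ * q * t1⁻¹⁻¹) by group] at this
    · have h1 := conj_mem_of_norm le_rfl (mul_mem hfQ hfQ)
        (h.norm_of_neg (inv_mem ht1) ht1' (h.SL (h.JS hx)))
      have h2 : f * f * x * (f * f)⁻¹ * x⁻¹ ∈ Q := by
        rcases h.chi hfN hx hq with h2 | h2
        · have := mul_mem (conj_mem_of_norm le_rfl hfQ h2) h2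
          rwa [show f * (f * x * f⁻¹ * x⁻¹) * f⁻¹ * (f * x * f⁻¹ * x⁻¹) =
            f * f * x * (f * f)⁻¹ * x⁻¹ by group] at this
        · have := mul_mem (conj_mem_of_norm le_rfl hfQ h2)
            (conj_mem_of_norm h.SnQ (h.JS hx) (inv_mem h2))
          have hc := h.Jcomm hx (conj_mem_of_norm le_rfl (h.NS_le_NJ hfN) hx)
          rwa [show f * (f * x * f⁻¹ * x) * f⁻¹ * (x * (f * x * f⁻¹ * x)⁻¹ * x⁻¹) =
            f * f * x * (f * f)⁻¹ * x⁻¹ by group] at this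
      have := mul_mem h1 h2
      rwa [show f * f * (t1⁻¹ * x * t1⁻¹⁻¹ * x⁻¹) * (f * f)⁻¹ * (f * f * x * (f * f)⁻¹ * x⁻¹) =
        f * f * t1⁻¹ * x * (f * f * t1⁻¹)⁻¹ * x⁻¹ by group] at this
  have htL : f * f ∈ o3 𝒩(zpowers z) := by simpa using mul_mem (h.SL hk) ht1
  have ρt : ρ (f * f) = -1 := by
    have h1 := (h.ρker _ (pow_mem (h.SL hk) 3)).mpr (h.cube_mem hk)
    rw [h.ρh.pow (h.SL hk), h.ρh.mul _ htL _ (inv_mem ht1), ht1'] at h1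
    have h2 : ρ (f * f) * ρ (f * f) = 1 := by rw [← h.ρh.mul _ htL _ htL, hf4, h.ρh.one]
    rw [mul_neg_one, pow_three', neg_mul_neg, h2, one_mul] at h1
    rw [← h1, neg_neg]
  generalize f * f = t at htM πt htL ρt hf4
  obtain ⟨s1, hs1, es⟩ := h.πsurj s6 sign_s6
  have hc : s1 * t * s1⁻¹ * t⁻¹ ∈ J := by
    have hm := mul_mem (mul_mem hs1 htM) (inv_mem hs1)
    rw [← h.πker _ (mul_mem hm (inv_mem htM)), h.πh.div hm htM, h.πh.conj hs1 htM, es, πt, s6_t6]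
  obtain ⟨j, hj, hjc⟩ := exists_cent_lift hf4 (odd_orderOf_of_pow (k := 1) (h.Jexp _ hc))
  have hjJ := zpowers_le.mpr hc hj
  have hsM := mul_mem (h.JM hjJ) hs1
  have πs : π (j * s1) = s6 := by
    rw [h.πh.mul _ (h.JM hjJ) _ hs1, (h.πker _ (h.JM hjJ)).mpr hjJ, one_mul, es]
  refine ⟨π, t, (j * s1) ^ 3, h, hS, htM, πt, hf4, htL, ρt, pow_mem hsM 3, ?_, ?_, pow_mem hjc 3⟩
  · rw [h.πh.pow hsM, πs]; decide
  · rw [← pow_add, show 3 + 3 = 2 * 3 from rfl, pow_mul]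
    refine h.Jexp _ ?_
    rw [← h.πker _ (pow_mem hsM 2), h.πh.pow hsM, πs, sq, s6_sq]

theorem frattini {n : G} (hn : n ∈ 𝒩(J)) : ∃ m ∈ o3 𝒩(J), m * n ∈ 𝒩(S) := by
  have : Fact (Nat.Prime 3) := ⟨Nat.prime_three⟩
  obtain ⟨m, hm, H⟩ := (h.syl.of_le h.SM le_top).exists_conj (isPGroup_cj.mpr h.syl.isP)
    (cj_le_of_mem_norm h.SM (le_norm_o3 _ hn))
  refine ⟨m, hm, mem_norm_of_cj_le fun x hx => ?_⟩
  rw [cj_mul] at hx
  obtain ⟨y, hy, rfl⟩ := mem_cj'.mp hx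
  exact H y hy

theorem frattiniL {n : G} (hn : n ∈ 𝒩(zpowers z)) : ∃ m ∈ o3 𝒩(zpowers z), m * n ∈ 𝒩(S) := by
  have : Fact (Nat.Prime 3) := ⟨Nat.prime_three⟩
  obtain ⟨m, hm, H⟩ := (h.syl.of_le h.SL le_top).exists_conj (isPGroup_cj.mpr h.syl.isP)
    (cj_le_of_mem_norm h.SL (le_norm_o3 _ hn))
  refine ⟨m, hm, mem_norm_of_cj_le fun x hx => ?_⟩
  rw [cj_mul] at hx
  obtain ⟨y, hy, rfl⟩ := mem_cj'.mp hx
  exact H y hy

end Hyp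

namespace Cfg0
variable {t s : G} (h : Cfg0 S J Q z π ρ t s)
include h

theorem nz {m : G} (hm : m ∈ o3 𝒩(J)) : m ∈ 𝒩(S) ↔ Nz (π m) := h.nz_iff_norm h.πS hm

theorem t_inv : t⁻¹ = t := inv_eq_of_mul_eq_one_right h.tt
theorem s_inv : s⁻¹ = s := inv_eq_of_mul_eq_one_right h.ss
theorem t_ne : t ≠ 1 := fun e => neg_one_ne_one (by rw [← h.ρt, e, h.ρh.one])
theorem t2 : orderOf t = 2 :=
  haveI : Fact (Nat.Prime 2) := ⟨Nat.prime_two⟩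
  orderOf_eq_prime (by rw [sq, h.tt]) h.t_ne
theorem tNS : t ∈ 𝒩(S) := h.neg_mem_NS h.tL h.ρt
theorem zt : z ∈ 𝒞[t] := mem_cent1_comm.mp (h.Lc h.tL)
theorem sNJ : s ∈ 𝒩(J) := o3_le _ h.sM
theorem z'J : s * z * s⁻¹ ∈ J := conj_mem_of_norm le_rfl h.sNJ h.zJ
theorem z't : s * z * s⁻¹ ∈ 𝒞[t] := mul_mem (mul_mem h.st h.zt) (inv_mem h.st)
theorem z'3 : orderOf (s * z * s⁻¹) = 3 := (H76.orderOf_cj s z).trans h.z3
theorem sz' : s * (s * z * s⁻¹) * s⁻¹ = z := by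
  rw [show s * (s * z * s⁻¹) * s⁻¹ = (s * s) * z * (s * s)⁻¹ by group, h.ss]; group

theorem z'Z : s * z * s⁻¹ ∉ zpowers z := fun hz => by
  have : s ∈ 𝒩(zpowers z) := mem_norm_of_cj_le (by rw [cj_zpowers]; exact zpowers_le.mpr hz)
  exact not_Nz_s6 (h.πs ▸ (h.nz h.sM).mp (h.NS_of this h.sNJ))

theorem Qt {q : G} (hq : q ∈ Q) (ht : q ∈ 𝒞[t]) : q ∈ zpowers z := by
  rw [← h.cv_neg h.tL h.ρt]
  exact ⟨hq, by rw [← mem_cent1.mp ht]; simp⟩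

theorem z'Q : s * z * s⁻¹ ∉ Q := fun hq => h.z'Z (h.Qt hq h.z't)

theorem cardD : Nat.card ↥(zpowers z ⊔ zpowers (s * z * s⁻¹)) = 9 :=
  H76.card_sup_three h.z3 h.z'3 (h.Sc (h.JS h.z'J)) h.z'Z

theorem DJ : zpowers z ⊔ zpowers (s * z * s⁻¹) ≤ J :=
  sup_le (zpowers_le.mpr h.zJ) (zpowers_le.mpr h.z'J)

theorem Dt : zpowers z ⊔ zpowers (s * z * s⁻¹) ≤ 𝒞[t] :=
  sup_le (zpowers_le.mpr h.zt) (zpowers_le.mpr h.z't)

theorem St : S ⊓ 𝒞[t] = zpowers z ⊔ zpowers (s * z * s⁻¹) := by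
  refine (eq_of_le_of_card_ge (le_inf (h.DJ.trans h.JS) h.Dt) ?_).symm
  have h1 := h.card_le_three (inf_le_left (b := 𝒞[t]))
  have h2 := card_le_of_le (show S ⊓ 𝒞[t] ⊓ Q ≤ zpowers z from fun q hq => h.Qt hq.2 hq.1.2)
  rw [h.cardZ] at h2
  rw [h.cardD]; omega

theorem memD {a : G} (ha : a ∈ S) (ht : a ∈ 𝒞[t]) : a ∈ zpowers z ⊔ zpowers (s * z * s⁻¹) :=
  h.St.le ⟨ha, ht⟩

/-- the conjugates of `Z` in `J` normalised by `t` -/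
theorem conjZ {g : G} (hg : g * z * g⁻¹ ∈ J) (ht : t ∈ 𝒩(zpowers (g * z * g⁻¹))) :
    g * z * g⁻¹ ∈ zpowers z ∨ g * z * g⁻¹ ∈ zpowers (s * z * s⁻¹) := by
  obtain ⟨n, hn, e⟩ := h.fusion h.zJ hg
  rw [← e] at ht ⊢
  obtain ⟨m, hm, H⟩ := h.frattini hn
  have h1 : cj n (zpowers z) = cj m⁻¹ (zpowers z) := by
    rw [eq_comm, cj_eq_iff, inv_inv, cj_cj, cj_eq_of_mem_norm (h.NS_le H)]
  rw [← cj_zpowers, h1, ← cj_normalizer, mem_cj, inv_inv] at ht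
  have hmt := mul_mem (mul_mem hm h.tM) (inv_mem hm)
  have h2 := (h.nz hmt).mp (h.NS_of ht (o3_le _ hmt))
  rw [h.πh.conj hm h.tM, h.πt] at h2
  have h3 := nz_t6 (π m)⁻¹ (by rwa [inv_inv])
  rw [inv_inv, ← h.πs, ← h.πh.mul _ hm _ h.sM, ← h.nz hm, ← h.nz (mul_mem hm h.sM)] at h3
  have h4 : n * z * n⁻¹ ∈ cj m⁻¹ (zpowers z) := h1 ▸ conj_mem_cj.mpr (mem_zpowers z)
  rcases h3 with h3 | h3
  · exact .inl (cj_eq_of_mem_norm (inv_mem (h.NS_le h3)) ▸ h4)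
  · right
    rwa [← cj_zpowers, ← cj_eq_of_mem_norm (inv_mem (h.NS_le h3)), cj_cj,
      show s * (m * s)⁻¹ = m⁻¹ by group]

theorem conjZ' {g : G} (hg : g * z * g⁻¹ ∈ zpowers z ⊔ zpowers (s * z * s⁻¹)) :
    g * z * g⁻¹ ∈ zpowers z ∨ g * z * g⁻¹ ∈ zpowers (s * z * s⁻¹) :=
  h.conjZ (h.DJ hg) (cent1_le_norm _ (mem_cent1_comm.mp (h.Dt hg)))

end Cfg0

end Cfsg.Agent.MC3
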