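import Cfsg.Agent.MC3.Loc3

set_option autoImplicit false
set_option linter.unusedSectionVars false

namespace Cfsg.Agent.MC3

open Subgroup Equiv H49 H24 H24.SL5

theorem sl_sq {x : SL5} (h : x * x = 1) : x = 1 ∨ x = -1 := by
  have key := sl_all (P := fun x => !beq4 (mu x x) one4 || beq4 x one4 || beq4 x ng)
    (by decide +kernel) x
  simp only [Bool.or_eq_true, Bool.not_eq_true', beq4_iff] at key
  rcases key with (h' | h') | h'
  · rw [← Bool.not_eq_true, beq4_iff, ← enc_mul, ← enc_one, enc_inj] at h'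
    exact absurd h h'
  · exact .inl (enc_inj.mp (h'.trans enc_one.symm))
  · exact .inr (enc_inj.mp (h'.trans enc_neg_one.symm))

variable {G : Type*} [Group G]

/-- normalised configuration with the subgroup `SL(2,5)` of `C(t)` -/
structure Cfg (S J Q : Subgroup G) (z : G) (π : G → Perm (Fin 6)) (ρ : G → SL5) (t s : G)
    (φ : SL5 →* G) : Prop extends Cfg0 S J Q z π ρ t s where
  φL : ∀ x, φ x ∈ o3 𝒩(zpowers z)
  ρφ : ∀ x, ρ (φ x) = x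
  φt : φ (-1) = t
  φA : φ A = s * z * s⁻¹

variable [Finite G] {S J Q : Subgroup G} {z : G} {π : G → Perm (Fin 6)} {ρ : G → SL5} {t s : G}

namespace Cfg0
variable (h : Cfg0 S J Q z π ρ t s)
include h

theorem Z_of {l : G} (hl : l ∈ o3 𝒩(zpowers z)) (ht : l ∈ 𝒞[t]) (hρ : ρ l = 1) : l ∈ zpowers z :=
  h.Qt ((h.ρker l hl).mp hρ) ht

theorem exists_cfg : ∃ ρ' φ, Cfg S J Q z π ρ' t s φ := by
  obtain ⟨ρ, h', hA⟩ := h.exists_rho (h.JS h.z'J) h.z'Q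
  have h : Cfg0 S J Q z π ρ t s := { h', h with
    ρt := (sl_sq (by rw [← h'.ρh.mul _ h.tL _ h.tL, h.tt, h'.ρh.one])).resolve_left fun e =>
      neg_one_ne_one (by rw [← h.ρt, h.ρker _ h.tL, ← h'.ρker _ h.tL, e]) }
  obtain ⟨m1, hm1, e1⟩ := h.ρsurj M
  have hc : m1 * t * m1⁻¹ * t⁻¹ ∈ Q := by
    have := inv_mem (h.norm_of_neg h.tL h.ρt hm1)
    rwa [show (t * m1 * t⁻¹ * m1⁻¹)⁻¹ = m1 * t * m1⁻¹ * t⁻¹ by group] at this
  obtain ⟨j, hj, hmt⟩ := exists_cent_lift h.tt (odd_orderOf_of_pow (k := 1) (h.Qexp _ hc))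
  have hjQ := zpowers_le.mpr hc hj
  have hm := mul_mem (h.QL hjQ) hm1
  have em : ρ (j * m1) = M := by
    rw [h.ρh.mul _ (h.QL hjQ) _ hm1, (h.ρker _ (h.QL hjQ)).mpr hjQ, one_mul, e1]
  generalize j * m1 = m at hmt hm em
  have hm3 : m ^ 3 ∈ zpowers z := h.Z_of (pow_mem hm 3) (pow_mem hmt 3) (by rw [h.ρh.pow hm, em, M3])
  have hzL := h.SL (h.JS h.z'J)
  have hbL := mul_mem (mul_mem hm hzL) (inv_mem hm)
  have hbt := mul_mem (mul_mem hmt h.z't) (inv_mem hmt)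
  have hζ : (s * z * s⁻¹ * (m * (s * z * s⁻¹) * m⁻¹)) ^ 2 * t⁻¹ ∈ zpowers z := by
    refine h.Z_of (mul_mem (pow_mem (mul_mem hzL hbL) 2) (inv_mem h.tL))
      (mul_mem (pow_mem (mul_mem h.z't hbt) 2) (inv_mem (self_mem_cent1 t))) ?_
    rw [h.ρh.div (pow_mem (mul_mem hzL hbL) 2) h.tL, h.ρh.pow (mul_mem hzL hbL), h.ρh.mul _ hzL _ hbL,
      h.ρh.conj hm hzL, hA, em, MA, AB, h.ρt, mul_inv_cancel]
  obtain ⟨ζ, hζ, eζ⟩ : ∃ ζ ∈ zpowers z,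
      (s * z * s⁻¹ * (m * (s * z * s⁻¹) * m⁻¹)) ^ 2 = ζ⁻¹ * t :=
    ⟨_, inv_mem hζ, by rw [inv_inv, inv_mul_cancel_right]⟩
  have hζL := h.QL (h.ZQ hζ)
  have cζ : ∀ l ∈ o3 𝒩(zpowers z), Commute ζ l := fun l hl => h.comm_of_Z hζ (h.Lc hl)
  obtain ⟨a, ea⟩ : ∃ a, a = ζ * (s * z * s⁻¹) := ⟨_, rfl⟩
  have haL : a ∈ o3 𝒩(zpowers z) := ea ▸ mul_mem hζL hzL
  have hat : a ∈ 𝒞[t] := ea ▸ mul_mem (zpowers_le.mpr h.zt hζ) h.z't
  have ρa : ρ a = A := by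
    rw [ea, h.ρh.mul _ hζL _ hzL, (h.ρker _ hζL).mpr (h.ZQ hζ), one_mul, hA]
  have a3 : a ^ 3 = 1 := by
    rw [ea, (cζ _ hzL).mul_pow, h.Zexp hζ, one_mul]; exact h.Jexp _ h.z'J
  have hab : (a * (m * a * m⁻¹)) ^ 2 = t := by
    have e : a * (m * a * m⁻¹) = ζ * ζ * (s * z * s⁻¹ * (m * (s * z * s⁻¹) * m⁻¹)) := by
      have h1 := (cζ _ hm).eq
      have h2 := (cζ _ hzL).eq
      rw [ea]
      calc _ = ζ * (s * z * s⁻¹) * (m * ζ) * (s * z * s⁻¹) * m⁻¹ := by group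
        _ = ζ * (s * z * s⁻¹ * ζ) * m * (s * z * s⁻¹) * m⁻¹ := by rw [← h1]; group
        _ = _ := by rw [← h2]; group
    have h3 := h.Zexp hζ
    rw [e, ((cζ _ (mul_mem hzL hbL)).mul_left (cζ _ (mul_mem hzL hbL))).mul_pow, eζ]
    rw [pow_three'] at h3
    calc _ = (ζ * ζ * ζ) * t := by rw [sq]; group
      _ = _ := by rw [h3, one_mul]
  have ct : ∀ l ∈ 𝒞[t], l * t * l⁻¹ = t := fun l hl => by rw [mem_cent1.mp hl]; group
  have hbc : (m * a * m⁻¹ * (m * (m * a * m⁻¹) * m⁻¹)) ^ 2 = t := by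
    rw [← ct m hmt, ← hab, ← conj_pow]; congr 1; group
  have hac : (a * (m * (m * a * m⁻¹) * m⁻¹)) ^ 2 = t := by
    have h1 := h.comm_of_Z hm3 (h.Lc haL)
    rw [pow_three'] at h1
    rw [← ct _ (mul_mem hat (mul_mem hmt hmt)), ← hab, ← conj_pow]
    congr 1
    calc _ = a * (m * m) * a * m * (m * m * m)⁻¹ * a * a⁻¹ := by group
      _ = a * (m * m) * a * m * a * (m * m * m)⁻¹ * a⁻¹ := by
        rw [mul_assoc _ _ a, (Commute.inv_left h1).eq]; group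
      _ = _ := by group
  have hb := mul_mem (mul_mem hm haL) (inv_mem hm)
  have hb' := mul_mem (mul_mem hmt hat) (inv_mem hmt)
  obtain ⟨φ, fa, fb, fc, ft⟩ := exists_hom a3 (by rw [conj_pow, a3]; group)
    (c := m * (m * a * m⁻¹) * m⁻¹) (by rw [conj_pow, conj_pow, a3]; group) (by rw [sq, h.tt])
    (mem_cent1.mp hat) (mem_cent1.mp hb') (mem_cent1.mp (mul_mem (mul_mem hmt hb') (inv_mem hmt)))
    hab hac hbc
  have key : ∀ x, φ x ∈ o3 𝒩(zpowers z) ∧ ρ (φ x) = x := fun x => by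
    have hx : x ∈ Subgroup.closure {A, B, C} := closure_ABC ▸ mem_top x
    induction hx using closure_induction with
    | mem x hx =>
      rcases hx with rfl | rfl | rfl
      · exact fa ▸ ⟨haL, ρa⟩
      · exact fb ▸ ⟨hb, by rw [h.ρh.conj hm haL, em, ρa, MA]⟩
      · exact fc ▸ ⟨mul_mem (mul_mem hm hb) (inv_mem hm),
          by rw [h.ρh.conj hm hb, h.ρh.conj hm haL, em, ρa, MA, MB]⟩
    | one => rw [map_one]; exact ⟨one_mem _, h.ρh.one⟩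
    | mul x y _ _ hx hy =>
      rw [map_mul]; exact ⟨mul_mem hx.1 hy.1, by rw [h.ρh.mul _ hx.1 _ hy.1, hx.2, hy.2]⟩
    | inv x _ hx => rw [map_inv]; exact ⟨inv_mem hx.1, by rw [h.ρh.inv hx.1, hx.2]⟩
  refine ⟨ρ, φ, h, fun x => (key x).1, fun x => (key x).2, ft, ?_⟩
  have hg := (key g5).1
  have e2 : φ g5 * (s * z * s⁻¹) * (φ g5)⁻¹ = ζ⁻¹ * a⁻¹ := by
    have h1 : φ g5 * a * (φ g5)⁻¹ = a⁻¹ := by rw [← fa, ← map_inv, ← map_mul, ← map_mul, g5_A, map_inv]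
    rw [← h1, ea, ← mul_assoc (φ g5) ζ, ← (cζ _ hg).eq]; group
  have hD : ζ⁻¹ * a⁻¹ ∈ zpowers z ⊔ zpowers (s * z * s⁻¹) := mul_mem (mem_sup_left (inv_mem hζ))
    (inv_mem (ea ▸ mul_mem (mem_sup_left hζ) (mem_sup_right (mem_zpowers _))))
  have e3 : φ g5 * s * z * (φ g5 * s)⁻¹ = ζ⁻¹ * a⁻¹ := by rw [← e2]; group
  have ρ3 : ρ (ζ⁻¹ * a⁻¹) = A⁻¹ := by
    rw [h.ρh.mul _ (inv_mem hζL) _ (inv_mem haL), (h.ρker _ (inv_mem hζL)).mpr (inv_mem (h.ZQ hζ)),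
      one_mul, h.ρh.inv haL, ρa]
  have h4 := h.conjZ' (e3 ▸ hD)
  rw [e3] at h4
  rcases h4 with h4 | h4
  · rw [(h.ρker _ (h.QL (h.ZQ h4))).mpr (h.ZQ h4)] at ρ3
    exact absurd (inv_eq_one.mp ρ3.symm) A_ne_one
  · rw [H76.mem_zpowers_three h.z'3] at h4
    rcases h4 with h4 | h4 | h4
    · rw [h4, h.ρh.one] at ρ3
      exact absurd (inv_eq_one.mp ρ3.symm) A_ne_one
    · rw [h4, hA] at ρ3
      exact absurd ρ3 (H76.ne_inv_of_three orderOf_A)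
    · rw [← mul_inv_rev, inv_inj, ea, ← (((cζ _ hζL).mul_right (cζ _ hzL)).eq), ← mul_assoc,
        mul_eq_right] at h4
      have h5 := h.Zexp hζ
      rw [pow_three', h4, one_mul] at h5
      rw [fa, ea, h5, one_mul]

end Cfg0

namespace Cfg
variable {φ : SL5 →* G} (h : Cfg S J Q z π ρ t s φ)
include h

theorem φ_inj : Function.Injective φ := fun x y e => by rw [← h.ρφ x, e, h.ρφ]

theorem φ_t (x : SL5) : φ x ∈ 𝒞[t] := by
  rw [mem_cent1, ← h.φt, ← map_mul, ← map_mul]; simp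

theorem φ_z (x : SL5) : φ x ∈ 𝒞[z] := h.Lc (h.φL x)

theorem dec {l : G} (hl : l ∈ o3 𝒩(zpowers z)) (ht : l ∈ 𝒞[t]) : l * (φ (ρ l))⁻¹ ∈ zpowers z :=
  h.Z_of (mul_mem hl (inv_mem (h.φL _))) (mul_mem ht (inv_mem (h.φ_t _)))
    (by rw [h.ρh.div hl (h.φL _), h.ρφ, mul_inv_cancel])

theorem norm_range {k : G} (hk : k ∈ 𝒩(zpowers z)) (ht : k ∈ 𝒞[t]) : k ∈ 𝒩(φ.range) := by
  have key : ∀ x : SL5, x ^ 20 = 1 → k * φ x * k⁻¹ ∈ φ.range := fun x hx => by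
    have h1 := conj_mem_of_norm (le_norm_o3 _) hk (h.φL x)
    have h2 := h.dec h1 (mul_mem (mul_mem ht (h.φ_t x)) (inv_mem ht))
    have h3 : (k * φ x * k⁻¹) ^ 20 = 1 := by rw [conj_pow, ← map_pow, hx, map_one]; group
    generalize k * φ x * k⁻¹ = l at h1 h2 h3
    have h4 : ρ l ^ 20 = 1 := by rw [← h.ρh.pow h1, h3, h.ρh.one]
    have h5 : (l * (φ (ρ l))⁻¹ * φ (ρ l)) ^ 20 = 1 := by rwa [inv_mul_cancel_right]
    rw [Commute.mul_pow (h.comm_of_Z h2 (h.φ_z _)), ← map_pow, h4, map_one, mul_one] at h5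
    have h6 := h.Zexp h2
    have h7 : l * (φ (ρ l))⁻¹ = 1 := by
      rw [← pow_one (l * _), ← show Nat.gcd 20 3 = 1 from rfl, pow_gcd_eq_one]
      exact ⟨h5, h6⟩
    exact ⟨ρ l, (mul_inv_eq_one.mp h7).symm⟩
  have hY := key Y (by rw [show 20 = 5 * 4 from rfl, pow_mul, Y5, one_pow])
  have hAY := key (A * Y) (by rw [show 20 = 2 * 10 from rfl, pow_mul, AY]; simp [pow_succ])
  refine mem_norm_of_cj_le fun y hy => ?_
  obtain ⟨_, ⟨x, rfl⟩, rfl⟩ := mem_cj'.mp hy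
  clear hy
  have hx : x ∈ Subgroup.closure {A, Y} := closure_AY ▸ mem_top x
  induction hx using closure_induction with
  | mem x hx =>
    rcases hx with rfl | rfl
    · have := mul_mem hAY (inv_mem hY)
      rwa [map_mul, show k * (φ A * φ Y) * k⁻¹ * (k * φ Y * k⁻¹)⁻¹ = k * φ A * k⁻¹ by group] at this
    · exact hY
  | one => simp
  | mul x y _ _ hx hy =>
    have := mul_mem hx hy
    rwa [show k * φ x * k⁻¹ * (k * φ y * k⁻¹) = k * (φ x * φ y) * k⁻¹ by group, ← map_mul] at this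
  | inv x _ hx =>
    have := inv_mem hx
    rwa [show (k * φ x * k⁻¹)⁻¹ = k * (φ x)⁻¹ * k⁻¹ by group, ← map_inv] at this

end Cfg

end Cfsg.Agent.MC3
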