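import Cfsg.Agent.MC3.Loc4

set_option autoImplicit false
set_option linter.unusedSectionVars false

namespace Cfsg.Agent.MC3

open Subgroup Equiv H49 H24 H24.SL5

/-- vectors -/
abbrev V2 := ZMod 3 × ZMod 3
/-- matrices (columns) -/
abbrev M2 := V2 × V2

instance decM2 : DecidableEq M2 := fun _ _ => instDecidableEqProd _ _

theorem cinv {G : Type*} [Group G] (a x : G) : a * x⁻¹ * a⁻¹ = (a * x * a⁻¹)⁻¹ := by group

def w6 (u : V2) : Perm (Fin 6) := a6 ^ u.1.val * b6 ^ u.2.val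
def ac (m : M2) (u : V2) : V2 := (m.1.1 * u.1 + m.2.1 * u.2, m.1.2 * u.1 + m.2.2 * u.2)
def mm (m n : M2) : M2 := (ac m n.1, ac m n.2)
def m1 : M2 := ((1, 0), (0, 1))

theorem ac_mm (m n : M2) (u : V2) : ac (mm m n) u = ac m (ac n u) := by
  simp only [ac, mm, Prod.mk.injEq]; constructor <;> ring
theorem ac_one (u : V2) : ac m1 u = u := by simp [ac, m1]
theorem ac_neg (u : V2) : ac (-m1) u = -u := by ext <;> simp [ac, m1]
theorem w6_add : ∀ u v, w6 (u + v) = w6 u * w6 v := by decide +kernel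
theorem w6_neg : ∀ u, w6 (-u) = (w6 u)⁻¹ := by decide +kernel
theorem w6_inj : ∀ u v, w6 u = w6 v → u = v := by decide +kernel
theorem w6_zero : w6 0 = 1 := by decide +kernel
theorem w6_nsmul (u : V2) (n : ℕ) : w6 u ^ n = w6 (n • u) := by
  induction n with
  | zero => simp [w6_zero]
  | succ n ih => rw [pow_succ, ih, succ_nsmul, w6_add]
theorem w6_ac (m : M2) (u : V2) : w6 m.1 ^ u.1.val * w6 m.2 ^ u.2.val = w6 (ac m u) := by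
  rw [w6_nsmul, w6_nsmul, ← w6_add]
  congr 1
  ext <;> simp [ac, mul_comm]
theorem inS_w6 {σ : Perm (Fin 6)} : InS σ ↔ ∃ u, σ = w6 u :=
  ⟨fun ⟨i, j, e⟩ => ⟨(i, j), e⟩, fun ⟨u, e⟩ => ⟨u.1, u.2, e⟩⟩
theorem w6_f : ∀ u v, (w6 u * f6 * (w6 u * f6)) * w6 v * (w6 u * f6 * (w6 u * f6))⁻¹ = (w6 v)⁻¹ ∧
    (w6 u * f6⁻¹ * (w6 u * f6⁻¹)) * w6 v * (w6 u * f6⁻¹ * (w6 u * f6⁻¹))⁻¹ = (w6 v)⁻¹ := by
  decide +kernel

set_option synthInstance.maxSize 1000 in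
theorem mat_key : ∀ g : M2, mm g g = -m1 → ∀ g' : M2, mm g' g' = -m1 →
    mm (mm g (-g')) (mm g (-g')) = -m1 → (mm g g' ≠ mm g' g ∧ mm (mm g g') (mm g g') = -m1 ∧
      mm (mm g g') g ≠ mm g (mm g g') ∧ mm (-mm g g') g ≠ mm g (-mm g g')) ∧ ∀ v : M2,
    (mm v g = mm g v ∨ mm v g = -mm g v) → (mm v g' = mm g' v ∨ mm v g' = -mm g' v) →
    (∃ v', mm v v' = m1) →
    (v = m1 ∨ v = -m1 ∨ v = mm g g' ∨ v = -mm g g') ∨ (mm v g = m1 ∨ mm (mm v g) (-m1) = m1) ∨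
      (mm v g' = m1 ∨ mm (mm v g') (-m1) = m1) := by decide +kernel

theorem mm_one (m : M2) : mm m1 m = m := by simp [mm, ac_one]
theorem mm_neg (m : M2) : mm (-m1) m = -m := by ext <;> simp [mm, ac_neg]
theorem mm_assoc (a b c : M2) : mm (mm a b) c = mm a (mm b c) :=
  Prod.ext (ac_mm _ _ _) (ac_mm _ _ _)
theorem mm_neg_neg (a : M2) : mm (-a) (-a) = mm a a := by ext <;> simp [mm, ac]
theorem m1_ne : m1 ≠ -m1 := by decide

variable {G : Type*} [Group G]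

/-- `k` acts on `S/J` by the matrix `m` -/
def Acts (S : Subgroup G) (π : G → Perm (Fin 6)) (k : G) (m : M2) : Prop :=
  k ∈ 𝒩(S) ∧ ∀ x ∈ S, ∀ u, π x = w6 u → π (k * x * k⁻¹) = w6 (ac m u)

variable [Finite G] {S J Q : Subgroup G} {z : G} {π : G → Perm (Fin 6)} {ρ : G → SL5} {t s : G}

theorem Acts.mul {k k' : G} {m m' : M2} (h1 : Acts S π k m) (h2 : Acts S π k' m') :
    Acts S π (k * k') (mm m m') := ⟨mul_mem h1.1 h2.1, fun x hx u e => by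
  rw [ac_mm, ← h1.2 _ (conj_mem_of_norm le_rfl h2.1 hx) _ (h2.2 x hx u e)]; congr 1; group⟩

namespace Cfg0
variable (h : Cfg0 S J Q z π ρ t s)
include h

theorem exists_w (u : V2) : ∃ a ∈ S, π a = w6 u := by
  obtain ⟨a, ha, e⟩ := h.πsurj _ (inS_w6.mpr ⟨u, rfl⟩).sign
  exact ⟨a, (h.πS a ha).mpr (e ▸ inS_w6.mpr ⟨u, rfl⟩), e⟩

theorem w_of {a : G} (ha : a ∈ S) : ∃ u, π a = w6 u := inS_w6.mp ((h.πS a (h.SM ha)).mp ha)

theorem acts_uniq {k : G} {m m' : M2} (h1 : Acts S π k m) (h2 : Acts S π k m') : m = m' := by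
  have key : ∀ u, ac m u = ac m' u := fun u => by
    obtain ⟨a, ha, e⟩ := h.exists_w u
    exact w6_inj _ _ ((h1.2 a ha u e).symm.trans (h2.2 a ha u e))
  have e1 := key (1, 0)
  have e2 := key (0, 1)
  simp only [ac, mul_one, mul_zero, add_zero, zero_add, Prod.mk.injEq] at e1 e2
  exact Prod.ext (Prod.ext e1.1 e1.2) (Prod.ext e2.1 e2.2)

theorem exists_acts {k : G} (hk : k ∈ 𝒩(S)) : ∃ m, Acts S π k m := by
  obtain ⟨a, ha, ea⟩ := h.exists_w (1, 0)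
  obtain ⟨b, hb, eb⟩ := h.exists_w (0, 1)
  have ha' := conj_mem_of_norm le_rfl hk ha
  have hb' := conj_mem_of_norm le_rfl hk hb
  obtain ⟨u1, e1⟩ := h.w_of ha'
  obtain ⟨u2, e2⟩ := h.w_of hb'
  refine ⟨(u1, u2), hk, fun x hx u e => ?_⟩
  have ph := h.πh.mono h.SM
  have hy : a ^ u.1.val * b ^ u.2.val ∈ S := mul_mem (pow_mem ha _) (pow_mem hb _)
  have h1 : x * (a ^ u.1.val * b ^ u.2.val)⁻¹ ∈ J := by
    rw [← h.πker _ (h.SM (mul_mem hx (inv_mem hy))), ph.div hx hy, ph.mul _ (pow_mem ha _) _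
      (pow_mem hb _), ph.pow ha, ph.pow hb, ea, eb, e, 
      show w6 (1, 0) ^ u.1.val * w6 (0, 1) ^ u.2.val = w6 (ac m1 u) from w6_ac m1 u,
      ac_one, mul_inv_cancel]
  have h2 := conj_mem_of_norm le_rfl (h.NS_le_NJ hk) h1
  rw [show k * x * k⁻¹ = k * (x * (a ^ u.1.val * b ^ u.2.val)⁻¹) * k⁻¹ *
    ((k * a * k⁻¹) ^ u.1.val * (k * b * k⁻¹) ^ u.2.val) by rw [conj_pow, conj_pow]; group,
    ph.mul _ (h.JS h2) _ (mul_mem (pow_mem ha' _) (pow_mem hb' _)), (h.πker _ (h.JM h2)).mpr h2,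
    one_mul, ph.mul _ (pow_mem ha' _) _ (pow_mem hb' _), ph.pow ha', ph.pow hb', e1, e2]
  exact w6_ac (u1, u2) u

theorem acts_J {k : G} (hk : k ∈ J) : Acts S π k m1 :=
  ⟨le_normalizer (h.JS hk), fun x hx u e => by
    rw [h.πh.conj (h.JM hk) (h.SM hx), (h.πker _ (h.JM hk)).mpr hk, ac_one, e]; simp⟩

theorem acts_t : Acts S π t (-m1) := ⟨h.tNS, fun x hx u e => by
  rw [h.πh.conj h.tM (h.SM hx), h.πt, t6_inv _ ((h.πS _ (h.SM hx)).mp hx), ac_neg, e, w6_neg]⟩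

theorem acts_one {k : G} (hk : Acts S π k m1) {q : G} (hq : q ∈ Q) : k * q * k⁻¹ * q⁻¹ ∈ J := by
  obtain ⟨u, e⟩ := h.w_of (h.QS hq)
  have h1 := conj_mem_of_norm le_rfl hk.1 (h.QS hq)
  rw [← h.πker _ (h.SM (mul_mem h1 (inv_mem (h.QS hq)))), h.πh.div (h.SM h1) (h.SM (h.QS hq)),
    hk.2 q (h.QS hq) u e, ac_one, e, mul_inv_cancel]

theorem acts_sq {k : G} (hM : k ∈ o3 𝒩(J)) (hk : k ∈ 𝒩(S)) (hz : k * z * k⁻¹ = z⁻¹) :
    Acts S π (k * k) (-m1) := by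
  have no : ∀ a ∈ 𝒞[z], k * a ∉ S := fun a ha hS => by
    have := mul_mem (h.Sc hS) (inv_mem ha)
    rw [mul_inv_cancel_right, mem_cent1] at this
    rw [this, mul_inv_cancel_right] at hz
    exact H76.ne_inv_of_three h.z3 hz
  refine ⟨mul_mem hk hk, fun x hx v e => ?_⟩
  rw [h.πh.conj (mul_mem hM hM) (h.SM hx), h.πh.mul _ hM _ hM, e, ac_neg, w6_neg]
  rcases nz_cases _ ((h.nz hM).mp hk) (h.πsign k hM) with h1 | h1 | h1 | h1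
  · exact absurd ((h.πS k hM).mpr h1) (by simpa using no 1 (one_mem _))
  · rw [← h.πt, ← h.πh.mul _ hM _ h.tM, ← h.πS _ (mul_mem hM h.tM)] at h1
    exact absurd h1 (no t (h.Lc h.tL))
  · obtain ⟨u, e⟩ := inS_w6.mp h1
    rw [eq_mul_inv_of_mul_eq e]; exact (w6_f u v).2
  · obtain ⟨u, e⟩ := inS_w6.mp h1
    rw [eq_mul_of_mul_inv_eq e]; exact (w6_f u v).1

theorem centD {v : G} : v ∈ 𝒞(zpowers z ⊔ zpowers (s * z * s⁻¹)) ↔
    v * z * v⁻¹ = z ∧ v * (s * z * s⁻¹) * v⁻¹ = s * z * s⁻¹ := by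
  rw [cent_sup, cent_zpowers, cent_zpowers, mem_inf, mem_cent1, mem_cent1, mul_inv_eq_iff_eq_mul,
    mul_inv_eq_iff_eq_mul]

theorem NS_of' {k : G} (h1 : k ∈ 𝒩(zpowers z)) (h2 : k ∈ 𝒩(zpowers (s * z * s⁻¹))) : k ∈ 𝒩(S) :=
  h.sup_eq (h.JS h.z'J) h.z'Q ▸
    norm_sup (zpowers_le.mpr (h.Qn h1)) (zpowers_le.mpr h2) (mem_zpowers k)

theorem NS_of_cent {v : G} (hv : v ∈ 𝒞(zpowers z ⊔ zpowers (s * z * s⁻¹))) : v ∈ 𝒩(S) :=
  h.NS_of' (cent_le_norm _ (cent_anti le_sup_left hv)) (cent_le_norm _ (cent_anti le_sup_right hv))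

theorem triv {v : G} (ht : v ∈ 𝒞[t]) (hv : v * (s * z * s⁻¹) * v⁻¹ = s * z * s⁻¹)
    (ha : Acts S π v m1) : v ∈ zpowers z ⊔ zpowers (s * z * s⁻¹) :=
  h.memD (h.faith ha.1 (fun _ hq => h.acts_one ha hq) h.z'J h.z'Q (by rw [hv]; simp)) ht

theorem tz' : t * (s * z * s⁻¹) * t⁻¹ = s * z * s⁻¹ := by rw [← mem_cent1.mp h.z't]; group

theorem triv' {v : G} (ht : v ∈ 𝒞[t]) (hv : v * (s * z * s⁻¹) * v⁻¹ = s * z * s⁻¹)
    (ha : Acts S π v (-m1)) : t * v ∈ zpowers z ⊔ zpowers (s * z * s⁻¹) :=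
  h.triv (mul_mem (self_mem_cent1 t) ht)
    (by rw [show t * v * (s * z * s⁻¹) * (t * v)⁻¹ = t * (v * (s * z * s⁻¹) * v⁻¹) * t⁻¹ by group,
      hv, h.tz'])
    (by simpa [mm_neg] using h.acts_t.mul ha)

theorem sD : s ∈ 𝒩(zpowers z ⊔ zpowers (s * z * s⁻¹)) := by
  rw [mem_norm_iff_cj, cj_sup, cj_zpowers, cj_zpowers, h.sz', sup_comm]

theorem sts : s * t * s⁻¹ = t := by rw [mem_cent1.mp h.st]; group

theorem D_two {d : G} (hd : d ∈ zpowers z ⊔ zpowers (s * z * s⁻¹)) (h2 : d * d = 1) : d = 1 := by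
  have := h.Jexp d (h.DJ hd)
  rwa [pow_three', h2, one_mul] at this

end Cfg0

namespace Cfg
variable {φ : SL5 →* G} (h : Cfg S J Q z π ρ t s φ)
include h

theorem g_sq : φ g5 * φ g5 = t := by rw [← map_mul, g5_sq, h.φt]
theorem g_z : φ g5 * z * (φ g5)⁻¹ = z := by rw [mem_cent1.mp (h.φ_z g5)]; group
theorem g_z' : φ g5 * (s * z * s⁻¹) * (φ g5)⁻¹ = (s * z * s⁻¹)⁻¹ := by
  rw [← h.φA, ← map_inv, ← map_mul, ← map_mul, g5_A, map_inv]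
theorem g'_sq : s * φ g5 * s⁻¹ * (s * φ g5 * s⁻¹) = t := by rw [conj_mul, h.g_sq, h.sts]
theorem g'_t : s * φ g5 * s⁻¹ ∈ 𝒞[t] := mul_mem (mul_mem h.st (h.φ_t _)) (inv_mem h.st)
theorem g'_z : s * φ g5 * s⁻¹ * z * (s * φ g5 * s⁻¹)⁻¹ = z⁻¹ := by
  have := congrArg (fun x => s * x * s⁻¹) h.g_z'
  simp only [← conj_inv, h.sz'] at this
  rw [← this]
  calc _ = s * (φ g5 * (s⁻¹ * z * s⁻¹⁻¹) * (φ g5)⁻¹) * s⁻¹ := by group
    _ = _ := by rw [inv_inv, h.s_inv]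
theorem g'_z' : s * φ g5 * s⁻¹ * (s * z * s⁻¹) * (s * φ g5 * s⁻¹)⁻¹ = s * z * s⁻¹ := by
  conv_rhs => rw [← h.g_z]
  group
theorem gNS : φ g5 ∈ 𝒩(S) := h.NS_of' (o3_le _ (h.φL _)) ((H76.mem_norm_three h.z'3).mpr (.inr h.g_z'))
theorem g'NZ : s * φ g5 * s⁻¹ ∈ 𝒩(zpowers z) := (H76.mem_norm_three h.z3).mpr (.inr h.g'_z)
theorem g'NS : s * φ g5 * s⁻¹ ∈ 𝒩(S) :=
  h.NS_of' h.g'NZ ((H76.mem_norm_three h.z'3).mpr (.inl h.g'_z'))

theorem cent_φ {x : SL5} (hx : φ x * (s * z * s⁻¹) * (φ x)⁻¹ = s * z * s⁻¹) :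
    ∃ d ∈ zpowers (s * z * s⁻¹), φ x = d ∨ φ x = t * d := by
  rw [← h.φA, mul_inv_eq_iff_eq_mul, ← map_mul, ← map_mul] at hx
  obtain ⟨i, e | e⟩ := cent_A (h.φ_inj hx)
  · exact ⟨_, pow_mem (mem_zpowers _) i, .inl (by rw [e, map_pow, h.φA])⟩
  · exact ⟨_, pow_mem (mem_zpowers _) i, .inr (by rw [e, ← neg_one_mul, map_mul, map_pow, h.φA, h.φt])⟩

theorem conj_g {v : G} (ht : v ∈ 𝒞[t]) (hv : v ∈ 𝒩(zpowers z))
    (hv' : v ∈ 𝒩(zpowers (s * z * s⁻¹))) :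
    ∃ d ∈ zpowers (s * z * s⁻¹), v * φ g5 = d * φ g5 * v ∨ v * φ g5 = t * d * φ g5 * v := by
  obtain ⟨x, hx⟩ := conj_mem_of_norm le_rfl (h.norm_range hv ht) ⟨g5, rfl⟩
  have h1 : φ x * (s * z * s⁻¹) * (φ x)⁻¹ = (s * z * s⁻¹)⁻¹ := by
    have h2 := h.g_z'
    rw [hx]
    rcases (H76.mem_norm_three h.z'3).mp (inv_mem hv') with e | e
    · calc _ = v * (φ g5 * (v⁻¹ * (s * z * s⁻¹) * v⁻¹⁻¹) * (φ g5)⁻¹) * v⁻¹ := by group
        _ = _ := by rw [e, h2]; conv_lhs => rw [← e]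
                    group
    · calc _ = v * (φ g5 * (v⁻¹ * (s * z * s⁻¹) * v⁻¹⁻¹) * (φ g5)⁻¹) * v⁻¹ := by group
        _ = v * (φ g5 * (s * z * s⁻¹) * (φ g5)⁻¹)⁻¹ * v⁻¹ := by rw [e]; group
        _ = _ := by rw [h2, inv_inv]; conv_lhs => rw [← inv_inv (s * z * s⁻¹), ← e]
                    group
  obtain ⟨d, hd, e⟩ := h.cent_φ (x := x * g5⁻¹) (by
    rw [map_mul, map_inv]
    calc _ = φ x * ((φ g5)⁻¹ * (s * z * s⁻¹)⁻¹ * φ g5)⁻¹ * (φ x)⁻¹ := by group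
      _ = (φ x * (s * z * s⁻¹) * (φ x)⁻¹)⁻¹ := by rw [← h.g_z']; group
      _ = _ := by rw [h1, inv_inv])
  rw [map_mul, map_inv, hx] at e
  refine ⟨d, hd, e.imp (fun e => ?_) fun e => ?_⟩ <;> rw [← e] <;> group

theorem conj_g' {v : G} (ht : v ∈ 𝒞[t]) (hv : v ∈ 𝒩(zpowers z))
    (hv' : v ∈ 𝒩(zpowers (s * z * s⁻¹))) :
    ∃ d ∈ zpowers z, v * (s * φ g5 * s⁻¹) = d * (s * φ g5 * s⁻¹) * v ∨
      v * (s * φ g5 * s⁻¹) = t * d * (s * φ g5 * s⁻¹) * v := by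
  obtain ⟨d, hd, e⟩ := h.conj_g (v := s⁻¹ * v * s) (mul_mem (mul_mem (inv_mem h.st) ht) h.st)
    (by rwa [← cj_zpowers, ← cj_normalizer, mem_cj] at hv')
    (by rwa [← h.sz', ← cj_zpowers, ← cj_normalizer, mem_cj] at hv)
  refine ⟨s * d * s⁻¹, ?_, e.imp (fun e => ?_) fun e => ?_⟩
  · rw [← h.sz', ← cj_zpowers]; exact conj_mem_cj.mpr hd
  · calc _ = s * (s⁻¹ * v * s * φ g5) * s⁻¹ := by group
      _ = _ := by rw [e]; group
  · calc _ = s * (s⁻¹ * v * s * φ g5) * s⁻¹ := by group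
      _ = _ := by rw [e]; conv_rhs => rw [← h.sts]
                  group

theorem exists_mats : ∃ a b, Acts S π (φ g5) a ∧ Acts S π (s * φ g5 * s⁻¹) b ∧ mm a a = -m1 ∧
    mm b b = -m1 ∧ mm (mm a (-b)) (mm a (-b)) = -m1 := by
  obtain ⟨a, ha⟩ := h.exists_acts h.gNS
  obtain ⟨b, hb⟩ := h.exists_acts h.g'NS
  refine ⟨a, b, ha, hb, h.acts_uniq (ha.mul ha) (h.g_sq ▸ h.acts_t),
    h.acts_uniq (hb.mul hb) (h.g'_sq ▸ h.acts_t), ?_⟩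
  have e : t * (s * φ g5 * s⁻¹) = (s * φ g5 * s⁻¹)⁻¹ := by
    rw [eq_inv_iff_mul_eq_one, mul_assoc, h.g'_sq, h.tt]
  have h1 := ha.mul (h.acts_t.mul hb)
  rw [mm_neg, e] at h1
  refine h.acts_uniq (h1.mul h1) (h.acts_sq ?_ h1.1 ?_)
  · have := mul_mem (h.sM) (conj_mem_of_norm (le_norm_o3 _) (h.NS_le_NJ h.gNS) (inv_mem h.sM))
    have h2 := conj_mem_of_norm (le_norm_o3 _) (h.NS_le_NJ h.gNS) h.sM
    have := mul_mem h2 (inv_mem h.sM)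
    rwa [show φ g5 * s * (φ g5)⁻¹ * s⁻¹ = φ g5 * (s * φ g5 * s⁻¹)⁻¹ by group] at this
  · calc _ = φ g5 * ((s * φ g5 * s⁻¹)⁻¹ * z⁻¹ * (s * φ g5 * s⁻¹))⁻¹ * (φ g5)⁻¹ := by group
      _ = (φ g5 * z * (φ g5)⁻¹)⁻¹ := by rw [← h.g'_z]; group
      _ = _ := by rw [h.g_z]

/-- elements of `C(t) ∩ C(D)` -/
theorem k1 {a b : M2} (ha : Acts S π (φ g5) a) (hb : Acts S π (s * φ g5 * s⁻¹) b)
    (aa : mm a a = -m1) (bb : mm b b = -m1) (ab : mm (mm a (-b)) (mm a (-b)) = -m1) {v : G}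
    (ht : v ∈ 𝒞[t]) (hv : v ∈ 𝒞(zpowers z ⊔ zpowers (s * z * s⁻¹))) {m : M2} (hm : Acts S π v m) :
    m = m1 ∨ m = -m1 ∨ m = mm a b ∨ m = -mm a b := by
  have n1 := cent_le_norm _ (cent_anti le_sup_left hv)
  have n2 := cent_le_norm _ (cent_anti le_sup_right hv)
  obtain ⟨v1, v2⟩ := h.centD.mp hv
  have key : ∀ {k d : G} {c : M2}, Acts S π k c → d ∈ J → (v * k = d * k * v ∨ v * k = t * d * k * v) →
      mm m c = mm c m ∨ mm m c = -mm c m := fun {k d c} hk hd e => by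
    refine e.imp (fun e => ?_) fun e => ?_
    · have := ((h.acts_J hd).mul hk).mul hm
      rw [mm_one, ← e] at this
      exact h.acts_uniq (hm.mul hk) this
    · have := ((h.acts_t.mul (h.acts_J hd)).mul hk).mul hm
      rw [mm_assoc, mm_assoc, mm_one, mm_neg, ← e] at this
      exact h.acts_uniq (hm.mul hk) this
  obtain ⟨d, hd, e⟩ := h.conj_g ht n1 n2
  obtain ⟨d', hd', e'⟩ := h.conj_g' ht n1 n2
  obtain ⟨m', hm'⟩ := h.exists_acts (inv_mem hm.1)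
  have tz : t * z * t⁻¹ = z := by rw [← mem_cent1.mp h.zt]; group
  have no1 : ∀ {k : G}, Acts S π k m1 → k * z * k⁻¹ = z →
      k * (s * z * s⁻¹) * k⁻¹ = (s * z * s⁻¹)⁻¹ → False := fun {k} hk e1 e2 =>
    H76.ne_inv_of_three h.z3 (e1.symm.trans ((h.act_z hk.1 (fun _ hq => h.acts_one hk hq) h.z'J
      h.z'Q).2 (by rw [e2, inv_mul_cancel]; exact Q.one_mem)))
  have no2 : ∀ {k : G}, Acts S π k m1 → k * z * k⁻¹ = z⁻¹ →
      k * (s * z * s⁻¹) * k⁻¹ = s * z * s⁻¹ → False := fun {k} hk e1 e2 =>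
    H76.ne_inv_of_three h.z3 (((h.act_z hk.1 (fun _ hq => h.acts_one hk hq) h.z'J
      h.z'Q).1 (by rw [e2]; simp)).symm.trans e1)
  have cj2 : ∀ a b x : G, a * b * x * (a * b)⁻¹ = a * (b * x * b⁻¹) * a⁻¹ := fun a b x => by group
  rcases (mat_key a aa b bb ab).2 m (key ha (zpowers_le.mpr h.z'J hd) e)
    (key hb (zpowers_le.mpr h.zJ hd') e')
    ⟨m', h.acts_uniq (hm.mul hm') (by rw [mul_inv_cancel]; exact h.acts_J J.one_mem)⟩ with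
    H | (H | H) | H | H
  · exact H
  · exact (no1 (H ▸ hm.mul ha) (by rw [cj2, h.g_z, v1]) (by rw [cj2, h.g_z', cinv, v2])).elim
  · exact (no1 (H ▸ (hm.mul ha).mul h.acts_t) (by rw [cj2, tz, cj2, h.g_z, v1])
      (by rw [cj2, h.tz', cj2, h.g_z', cinv, v2])).elim
  · exact (no2 (H ▸ hm.mul hb) (by rw [cj2, h.g'_z, cinv, v1]) (by rw [cj2, h.g'_z', v2])).elim
  · exact (no2 (H ▸ (hm.mul hb).mul h.acts_t) (by rw [cj2, tz, cj2, h.g'_z, cinv, v1])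
      (by rw [cj2, h.tz', cj2, h.g'_z', v2])).elim

theorem b1 {v : G} (ht : v ∈ 𝒞[t]) (h2 : v * v = 1)
    (hv : v ∈ 𝒞(zpowers z ⊔ zpowers (s * z * s⁻¹))) : v = 1 ∨ v = t := by
  obtain ⟨a, b, ha, hb, aa, bb, ab⟩ := h.exists_mats
  obtain ⟨m, hm⟩ := h.exists_acts (h.NS_of_cent hv)
  have e : mm m m = m1 := h.acts_uniq (hm.mul hm) (h2 ▸ h.acts_J J.one_mem)
  have k := (mat_key a aa b bb ab).1.2.1
  rcases h.k1 ha hb aa bb ab ht hv hm with rfl | rfl | rfl | rfl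
  · exact .inl (h.D_two (h.triv ht (h.centD.mp hv).2 hm) h2)
  · have := h.D_two (h.triv' ht (h.centD.mp hv).2 hm) (by
      rw [mul_assoc, ← mul_assoc v, mem_cent1.mp ht, mul_assoc, h2, mul_one, h.tt])
    exact .inr (by rw [← h.t_inv]; exact eq_inv_of_mul_eq_one_right this)
  · exact absurd (e.symm.trans k) m1_ne
  · rw [mm_neg_neg] at e; exact absurd (e.symm.trans k) m1_ne

theorem cent_g {v : G} (ht : v ∈ 𝒞[t]) (hg : v * φ g5 = φ g5 * v)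
    (hv : v ∈ 𝒞(zpowers z ⊔ zpowers (s * z * s⁻¹))) :
    v ∈ zpowers z ⊔ zpowers (s * z * s⁻¹) ∨ t * v ∈ zpowers z ⊔ zpowers (s * z * s⁻¹) := by
  obtain ⟨a, b, ha, hb, aa, bb, ab⟩ := h.exists_mats
  obtain ⟨m, hm⟩ := h.exists_acts (h.NS_of_cent hv)
  have e : mm m a = mm a m := h.acts_uniq (hm.mul ha) (hg ▸ ha.mul hm)
  have k := (mat_key a aa b bb ab).1.2.2
  rcases h.k1 ha hb aa bb ab ht hv hm with rfl | rfl | rfl | rfl
  · exact .inl (h.triv ht (h.centD.mp hv).2 hm)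
  · exact .inr (h.triv' ht (h.centD.mp hv).2 hm)
  · exact absurd e k.1
  · exact absurd e k.2

theorem not_comm {d : G} (hd : d ∈ J) :
    s * φ g5 * s⁻¹ * φ g5 ≠ d * φ g5 * (s * φ g5 * s⁻¹) := fun e => by
  obtain ⟨a, b, ha, hb, aa, bb, ab⟩ := h.exists_mats
  have := ((h.acts_J hd).mul ha).mul hb
  rw [mm_one, ← e] at this
  exact (mat_key a aa b bb ab).1.1 (h.acts_uniq this (hb.mul ha))

theorem inv_acts {v : G} (ht : v ∈ 𝒞[t]) (h2 : v * v = 1) (v1 : v * z * v⁻¹ = z⁻¹)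
    (v2 : v * (s * z * s⁻¹) * v⁻¹ = (s * z * s⁻¹)⁻¹) : Acts S π v m1 ∨ Acts S π v (-m1) := by
  obtain ⟨a, b, ha, hb, aa, bb, ab⟩ := h.exists_mats
  obtain ⟨m, hm⟩ := h.exists_acts (h.NS_of' ((H76.mem_norm_three h.z3).mpr (.inr v1))
    ((H76.mem_norm_three h.z'3).mpr (.inr v2)))
  have e : mm m m = m1 := h.acts_uniq (hm.mul hm) (h2 ▸ h.acts_J J.one_mem)
  have cj2 : ∀ a b x : G, a * b * x * (a * b)⁻¹ = a * (b * x * b⁻¹) * a⁻¹ := fun a b x => by group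
  have H := h.k1 ha hb aa bb ab (mul_mem ht (mul_mem (h.φ_t _) h.g'_t)) (h.centD.mpr
    ⟨by rw [cj2, cj2, h.g'_z, cinv, h.g_z, cinv, v1, inv_inv],
      by rw [cj2, cj2, h.g'_z', h.g_z', cinv, v2, inv_inv]⟩) (hm.mul (ha.mul hb))
  have k := (mat_key a aa b bb ab).1.2.1
  have key : ∀ c : M2, mm c c = -m1 → ∀ m : M2, mm m m = m1 →
      (mm m c = m1 ∨ mm m c = -m1 ∨ mm m c = c ∨ mm m c = -c) → m = m1 ∨ m = -m1 := by
    decide +kernel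
  rcases key _ k m e H with rfl | rfl
  exacts [.inl hm, .inr hm]

end Cfg

end Cfsg.Agent.MC3
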