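import Cfsg.Agent.MC3.Loc5
import Cfsg.Agent.MC3.Defs

set_option autoImplicit false
set_option linter.unusedSectionVars false

namespace Cfsg.Agent.MC3

open Subgroup Equiv H49 H24 H24.SL5

variable {G : Type*} [Group G]

/-- elements of `J` inverted by `t` -/
def invd {J : Subgroup G} (hJ : J ≤ 𝒞(J)) (t : G) : Subgroup G where
  carrier := {j | j ∈ J ∧ t * j * t⁻¹ = j⁻¹}
  one_mem' := ⟨J.one_mem, by simp⟩
  mul_mem' := fun {a b} ha hb => ⟨J.mul_mem ha.1 hb.1, by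
    rw [← conj_mul, ha.2, hb.2, ← mul_inv_rev, hJ ha.1 b hb.1]⟩
  inv_mem' := fun {a} ha => ⟨J.inv_mem ha.1, by rw [cinv, ha.2]⟩

variable [Finite G] {S J Q : Subgroup G} {z : G} {π : G → Perm (Fin 6)} {ρ : G → SL5} {t s : G}

theorem Hyp.actU (h : Hyp S J Q z π ρ) {k : G} (hk : k ∈ 𝒩(S))
    (hW : ∀ q ∈ Q, k * q * k⁻¹ * q⁻¹ ∈ J) (hz : k * z * k⁻¹ = z⁻¹) {u : G} (hu : u ∈ J)
    (hu' : u ∈ Q) : k * u * k⁻¹ * u ∈ zpowers z := by
  have h1 := conj_mem_of_norm le_rfl (h.NS_le_NJ hk) hu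
  have h1' := conj_mem_of_norm le_rfl (h.Qn (h.NS_le hk)) hu'
  refine h.Qz.le ⟨Q.mul_mem h1' hu', fun r hr => ?_⟩
  have h2 : k * (r * u * r⁻¹ * u⁻¹) * k⁻¹ = (r * u * r⁻¹ * u⁻¹)⁻¹ := by
    have := h.Qcomm r hr u hu'
    rw [H76.mem_zpowers_three h.z3] at this
    rcases this with e | e | e <;> rw [e]
    · simp
    · exact hz
    · rw [cinv, hz]
  have h3 := h.Jcomm (hW r hr) (conj_mem_of_norm h.SnJ (h.QS hr) h1)
  have h7 := h.Jcomm (conj_mem_of_norm h.SnJ (h.QS hr) hu) h1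
  have h6 := h.Jcomm hu h1
  generalize hv : k * r * k⁻¹ * r⁻¹ = v at h3
  have h4 : k * r * k⁻¹ = v * r := by rw [← hv]; group
  have e : (r * u * r⁻¹ * u⁻¹)⁻¹ = r * (k * u * k⁻¹) * r⁻¹ * (k * u * k⁻¹)⁻¹ := by
    calc _ = k * (r * u * r⁻¹ * u⁻¹) * k⁻¹ := h2.symm
      _ = (k * r * k⁻¹) * (k * u * k⁻¹) * (k * r * k⁻¹)⁻¹ * (k * u * k⁻¹)⁻¹ := by group
      _ = (v * (r * (k * u * k⁻¹) * r⁻¹)) * v⁻¹ * (k * u * k⁻¹)⁻¹ := by rw [h4]; group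
      _ = _ := by rw [h3]; group
  generalize k * u * k⁻¹ = w at e h6 h7
  calc r * (w * u) = (r * w * r⁻¹ * w⁻¹) * w * (r * u * r⁻¹) * r := by group
    _ = u * (r * u * r⁻¹)⁻¹ * (w * (r * u * r⁻¹)) * r := by rw [← e]; group
    _ = (u * w) * r := by rw [← h7]; group
    _ = _ := by rw [h6]

namespace Cfg0
variable (h : Cfg0 S J Q z π ρ t s)
include h

theorem nD_cases {n : G} (hn : n ∈ 𝒩(zpowers z ⊔ zpowers (s * z * s⁻¹))) :
    (n * z * n⁻¹ ∈ zpowers z ∧ n * (s * z * s⁻¹) * n⁻¹ ∈ zpowers (s * z * s⁻¹)) ∨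
    (n * z * n⁻¹ ∈ zpowers (s * z * s⁻¹) ∧ n * (s * z * s⁻¹) * n⁻¹ ∈ zpowers z) := by
  have h1 := h.conjZ' (conj_mem_of_norm le_rfl hn (mem_sup_left (mem_zpowers z)))
  have h2 := h.conjZ' (g := n * s) (by
    have := conj_mem_of_norm le_rfl hn (mem_sup_right (mem_zpowers (s * z * s⁻¹)))
    rwa [show n * (s * z * s⁻¹) * n⁻¹ = n * s * z * (n * s)⁻¹ by group] at this)
  rw [show n * s * z * (n * s)⁻¹ = n * (s * z * s⁻¹) * n⁻¹ by group] at h2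
  have key : ∀ {d : G}, orderOf d = 3 → n * z * n⁻¹ ∈ zpowers d →
      n * (s * z * s⁻¹) * n⁻¹ ∈ zpowers d → False := fun {d} hd a b => by
    rw [← H76.zpowers_eq_of_three hd a (H76.ne_one_of_three ((H76.orderOf_cj n z).trans h.z3)),
      ← cj_zpowers, conj_mem_cj] at b
    exact h.z'Z b
  rcases h1 with h1 | h1 <;> rcases h2 with h2 | h2
  exacts [(key h.z3 h1 h2).elim, .inl ⟨h1, h2⟩, .inr ⟨h1, h2⟩, (key h.z'3 h1 h2).elim]

theorem norm_of_mem {n d : G} (hn : n * d * n⁻¹ ∈ zpowers d) : n ∈ 𝒩(zpowers d) :=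
  mem_norm_of_cj_le (by rw [cj_zpowers]; exact zpowers_le.mpr hn)

theorem sylD : H42.SylIn 3 (zpowers z ⊔ zpowers (s * z * s⁻¹)) 𝒞[t] := by
  have : Fact (Nat.Prime 3) := ⟨Nat.prime_three⟩
  obtain ⟨P, hP, hle⟩ := H42.exists_sylIn (h.Jp.to_le h.DJ) h.Dt
  rcases hle.eq_or_lt with e | hlt
  · exact e ▸ hP
  obtain ⟨n, ⟨hnP, hn⟩, hnD⟩ := SetLike.exists_of_lt (H42.lt_inf_normalizer hP.isP hlt)
  obtain ⟨k, hk⟩ := exists_pow_of_isP hP.isP hnP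
  refine absurd (h.memD (mem_syl_of_norm h.syl hk trivial ?_) (hP.le hnP)) hnD
  rcases h.nD_cases hn with ⟨a, b⟩ | ⟨a, b⟩
  · exact h.NS_of' (h.norm_of_mem a) (h.norm_of_mem b)
  · have h2 : n ^ 2 ∈ 𝒩(S) := by
      refine h.NS_of' (h.norm_of_mem ?_) (h.norm_of_mem ?_)
      · have := conj_mem_cj (g := n).mpr a
        rw [cj_zpowers] at this
        have := zpowers_le.mpr b this
        rwa [show n * (n * z * n⁻¹) * n⁻¹ = n ^ 2 * z * (n ^ 2)⁻¹ by rw [sq]; group] at this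
      · have := conj_mem_cj (g := n).mpr b
        rw [cj_zpowers] at this
        have := zpowers_le.mpr a this
        rwa [show n * (n * (s * z * s⁻¹) * n⁻¹) * n⁻¹ = n ^ 2 * (s * z * s⁻¹) * (n ^ 2)⁻¹ by
          rw [sq]; group] at this
    obtain ⟨j, hj⟩ := odd_orderOf_of_pow hk
    have := pow_mem h2 (j + 1)
    rwa [← pow_mul, show 2 * (j + 1) = orderOf n + 1 by omega, pow_succ, pow_orderOf_eq_one,
      one_mul] at this

theorem card_invd : 9 ≤ Nat.card (invd h.Jab t) := by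
  have htJ := h.NS_le_NJ h.tNS
  have ph : PH J fun j => j * (t * j * t⁻¹)⁻¹ := ⟨fun a ha b hb => by
    have := h.Jcomm (J.mul_mem hb (J.inv_mem (conj_mem_of_norm le_rfl htJ hb)))
      (J.inv_mem (conj_mem_of_norm le_rfl htJ ha))
    calc _ = a * (b * (t * b * t⁻¹)⁻¹ * (t * a * t⁻¹)⁻¹) := by group
      _ = _ := by rw [this]; group⟩
  have h1 := ph.card (J := 𝒞[t]) fun j _ => by
    rw [mul_inv_eq_one, eq_mul_inv_iff_mul_eq, mem_cent1]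
  have h2 : ph.im ≤ invd h.Jab t := fun x hx => by
    obtain ⟨j, hj, rfl⟩ := ph.mem_im.mp hx
    refine ⟨J.mul_mem hj (J.inv_mem (conj_mem_of_norm le_rfl htJ hj)), ?_⟩
    calc _ = t * j * t⁻¹ * ((t * t) * j * (t * t)⁻¹)⁻¹ := by group
      _ = _ := by rw [h.tt]; group
  have h3 := card_le_of_le h2
  have h4 := card_le_of_le (show 𝒞[t] ⊓ J ≤ _ from fun a ha => h.memD (h.JS ha.2) ha.1)
  rw [h.cardD] at h4
  rw [h.Jcard] at h1
  nlinarith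

theorem invd_Q {u : G} (hu : u ∈ invd h.Jab t) : u ∈ Q := by
  have hL := h.SL (h.JS hu.1)
  have h1 := h.ρh.conj h.tL hL
  have h2 : ρ u ^ 3 = 1 := by rw [← h.ρh.pow hL, h.Jexp u hu.1, h.ρh.one]
  rw [hu.2, h.ρh.inv hL, h.ρt] at h1
  simp only [neg_mul, one_mul, inv_neg, inv_one, mul_neg, mul_one, neg_neg] at h1
  rw [pow_three', mul_eq_one_iff_eq_inv.mpr h1.symm, one_mul] at h2
  exact (h.ρker u hL).mp h2

theorem invd_t {u : G} (hu : u ∈ invd h.Jab t) (ht : u ∈ 𝒞[t]) : u = 1 := by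
  have h1 := hu.2
  have h2 := h.Jexp u hu.1
  rw [← mem_cent1.mp ht, mul_inv_cancel_right] at h1
  rwa [pow_three', mul_eq_one_iff_eq_inv.mpr h1, one_mul] at h2

theorem not_conj {v : G} (ht : v ∈ 𝒞[t]) (v1 : v * z * v⁻¹ = z⁻¹) (ha : Acts S π v (-m1)) :
    ¬ IsConj t v := fun hc => by
  have : Fact (Nat.Prime 3) := ⟨Nat.prime_three⟩
  have hk : Acts S π (t * v) m1 := by simpa [mm_neg] using h.acts_t.mul ha
  have hvJ := h.NS_le_NJ ha.1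
  have h1 : invd h.Jab t ≤ 𝒞[v] := fun u hu => by
    have h2 := h.actU hk.1 (fun _ hq => h.acts_one hk hq) (by
      rw [show t * v * z * (t * v)⁻¹ = t * (v * z * v⁻¹) * t⁻¹ by group, v1, cinv,
        ← mem_cent1.mp h.zt]; group) hu.1 (h.invd_Q hu)
    have h3 : v * u * v⁻¹ ∈ invd h.Jab t := ⟨conj_mem_of_norm le_rfl hvJ hu.1, by
      rw [← cinv, ← hu.2]
      calc _ = (t * v) * u * (t * v)⁻¹ := by group
        _ = _ := by rw [← mem_cent1.mp ht]; group⟩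
    rw [show t * v * u * (t * v)⁻¹ = t * (v * u * v⁻¹) * t⁻¹ by group, h3.2] at h2
    have := h.invd_t (mul_mem (inv_mem h3) hu) (zpowers_le.mpr h.zt h2)
    rw [mem_cent1, ← inv_mul_eq_one.mp this, inv_mul_cancel_right]
    rw [inv_mul_eq_one.mp this]
  obtain ⟨x, rfl⟩ := isConj_iff.mp hc
  rw [← cj_cent1, le_cj_iff] at h1
  obtain ⟨c, -, H⟩ := h.sylD.exists_conj
    (isPGroup_cj.mpr (h.Jp.to_le (show invd h.Jab t ≤ J from fun _ a => a.1))) h1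
  have h2 : cj (c * x⁻¹) (invd h.Jab t) = zpowers z ⊔ zpowers (s * z * s⁻¹) := by
    refine eq_of_le_of_card_ge (fun a ha => ?_) (by rw [card_cj, h.cardD]; exact h.card_invd)
    rw [cj_mul] at ha
    obtain ⟨b, hb, rfl⟩ := mem_cj'.mp ha
    exact H b hb
  have h3 := mem_cj.mp (h2.ge (mem_sup_left (mem_zpowers z)))
  rw [← inv_inv (c * x⁻¹), inv_inv (c * x⁻¹)⁻¹] at h3
  have h4 := h.conjZ h3.1 (h.norm_of_mem (h3.2 ▸ inv_mem (mem_zpowers _)))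
  exact H76.ne_one_of_three ((H76.orderOf_cj _ z).trans h.z3) (h.invd_t h3
    (h4.elim (zpowers_le.mpr h.zt ·) (zpowers_le.mpr h.z't ·)))

theorem odd_normal (N : Subgroup G) (hN : N.Normal) (ho : Odd (Nat.card N)) :
    ∃ q : G, q ^ 3 = 1 ∧ q * t * q⁻¹ * t⁻¹ ∉ N := by
  obtain ⟨a, ha, ea⟩ := h.exists_w (1, 0)
  obtain ⟨q, hq, j, hj, rfl⟩ := (mem_sup_of_norm_left (h.JS.trans h.SnQ)).mp (h.QJ.ge ha)
  have hqM := h.SM (h.QS hq)
  rw [h.πh.mul _ hqM _ (h.JM hj), (h.πker _ (h.JM hj)).mpr hj, mul_one] at ea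
  refine ⟨q, h.Qexp q hq, fun hc => ?_⟩
  obtain ⟨m, hm, em⟩ := h.πsurj (swap 2 3 * swap 4 5) (by decide)
  have h1 := mul_mem (mul_mem hqM h.tM) (inv_mem hqM)
  have h2 := mul_mem h1 (inv_mem h.tM)
  have h3 := mul_mem (mul_mem hm h2) (inv_mem hm)
  have h4 := h.πh.pow (mul_mem h2 h3) (Nat.card N)
  have h5 : (q * t * q⁻¹ * t⁻¹ * (m * (q * t * q⁻¹ * t⁻¹) * m⁻¹)) ^ Nat.card N = 1 :=
    congrArg Subtype.val (pow_card_eq_one' (x := (⟨_, N.mul_mem hc (hN.conj_mem _ hc m)⟩ : N)))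
  rw [h5, h.πh.one, h.πh.mul _ h2 _ h3, h.πh.conj hm h2, h.πh.div h1 h.tM, h.πh.conj hqM h.tM, ea, em,
    h.πt] at h4
  obtain ⟨k, hk⟩ := ho
  rw [hk, pow_succ, pow_mul, show _ ^ 2 = (1 : Perm (Fin 6)) by decide +kernel, one_pow, one_mul] at h4
  exact absurd h4 (by decide +kernel)

theorem cen (k : G) (hk : ∀ q : G, q ^ 3 = 1 → Commute k q) : k = 1 := by
  have h1 : k ∈ 𝒞(Q) := fun q hq => (hk q (h.Qexp q hq)).eq.symm
  have h2 : s * k * s⁻¹ ∈ Q := h.CQ fun q hq => by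
    have := (hk (s⁻¹ * q * s⁻¹⁻¹) (by rw [conj_pow, h.Qexp q hq]; group)).eq
    calc _ = s * ((s⁻¹ * q * s⁻¹⁻¹) * k) * s⁻¹ := by group
      _ = _ := by rw [← this]; group
  have h3 := h.Qz.le ⟨h.CQ h1, h1⟩
  rw [H76.mem_zpowers_three h.z3] at h3
  rcases h3 with e | e | e
  · exact e
  · exact absurd (e ▸ h2) h.z'Q
  · rw [e, cinv, inv_mem_iff] at h2; exact absurd h2 h.z'Q

end Cfg0

namespace Cfg
variable {φ : SL5 →* G} (h : Cfg S J Q z π ρ t s φ)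
include h

theorem b2 {v : G} (ht : v ∈ 𝒞[t]) (h2 : v * v = 1)
    (hv : ∀ d ∈ zpowers z ⊔ zpowers (s * z * s⁻¹), v * d * v⁻¹ = d⁻¹) :
    ¬ IsConj t v ∨ ¬ IsConj t (v * t) := by
  have v1 := hv z (mem_sup_left (mem_zpowers _))
  rcases h.inv_acts ht h2 v1 (hv _ (mem_sup_right (mem_zpowers _))) with H | H
  · refine .inr (h.not_conj (mul_mem ht (self_mem_cent1 t)) ?_ ?_)
    · rw [← v1]; conv_rhs => rw [← mul_inv_cancel_right z t, mem_cent1.mp h.zt]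
      group
    · have := H.mul h.acts_t
      rwa [mm_one] at this
  · exact .inl (h.not_conj ht v1 H)

theorem fn {p : 𝒞[t] →* Perm (Fin 8)} (hk : ∀ x : 𝒞[t], p x = 1 ↔ (x : G) = 1 ∨ (x : G) = t)
    (hr : p.range = alternatingGroup (Fin 8) ∨ p.range = ⊤) :
    Fn t p (zpowers z ⊔ zpowers (s * z * s⁻¹)) where
  t2 := h.t2
  ker := hk
  range := hr
  ns := ⟨φ A, h.φ_t A, φ B, h.φ_t B, by rw [← map_pow, A3, map_one], by rw [← map_pow, B3, map_one],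
    by rw [← map_mul, ← map_pow, AB, h.φt]⟩
  odd := h.odd_normal
  cen := h.cen
  Dle := h.Dt
  Dcard := h.cardD
  b1 := fun _ a b c => h.b1 a b c
  b2 := fun _ a b c => h.b2 a b c

end Cfg

end Cfsg.Agent.MC3
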