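import Cfsg.Agent.MC3.Fact2
import Cfsg.Agent.MC3.Loc5

set_option autoImplicit false
set_option linter.unusedSectionVars false

namespace Cfsg.Agent.MC3

open Subgroup Equiv H49 H24 H24.SL5

variable {G : Type*} [Group G]

/-- kernel of the norm map of `x` on `J` -/
def nk {J : Subgroup G} (hJ : J ≤ 𝒞(J)) (h3 : ∀ a ∈ J, a ^ 3 = 1) {x : G} (hx : x ∈ 𝒩(J)) :
    Subgroup G :=
  have key : ∀ a b, (a ∈ J ∧ a * (x * a * x⁻¹) * (x * x * a * (x * x)⁻¹) = 1) →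
      (b ∈ J ∧ b * (x * b * x⁻¹) * (x * x * b * (x * x)⁻¹) = 1) →
      (a * b ∈ J ∧ a * b * (x * (a * b) * x⁻¹) * (x * x * (a * b) * (x * x)⁻¹) = 1) :=
    fun a b ha hb => ⟨mul_mem ha.1 hb.1, by
      have e1 := hJ hb.1 _ (conj_mem_of_norm le_rfl hx ha.1)
      have e2 := hJ (mul_mem hb.1 (conj_mem_of_norm le_rfl hx hb.1)) _
        (conj_mem_of_norm le_rfl (mul_mem hx hx) ha.1)
      calc _ = a * (b * (x * a * x⁻¹)) * (x * b * x⁻¹) * (x * x * a * (x * x)⁻¹) *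
            (x * x * b * (x * x)⁻¹) := by group
        _ = a * (x * a * x⁻¹) * (b * (x * b * x⁻¹) * (x * x * a * (x * x)⁻¹)) *
            (x * x * b * (x * x)⁻¹) := by rw [← e1]; simp only [mul_assoc]
        _ = (a * (x * a * x⁻¹) * (x * x * a * (x * x)⁻¹)) *
            (b * (x * b * x⁻¹) * (x * x * b * (x * x)⁻¹)) := by rw [← e2]; simp only [mul_assoc]
        _ = 1 := by rw [ha.2, hb.2, one_mul]⟩
  { carrier := {a | a ∈ J ∧ a * (x * a * x⁻¹) * (x * x * a * (x * x)⁻¹) = 1}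
    one_mem' := ⟨J.one_mem, by group⟩
    mul_mem' := key _ _
    inv_mem' := fun {a} ha => by
      have e : a⁻¹ = a * a := inv_eq_of_mul_eq_one_left (by rw [← pow_three', h3 a ha.1])
      rw [e]; exact key _ _ ha ha }

variable [Finite G] {S J Q : Subgroup G} {z : G} {π : G → Perm (Fin 6)} {ρ : G → SL5} {t s : G}

/-- stabiliser in `L` of the coset of `q` -/
def Hyp0.hq (h : Hyp0 S J Q z π ρ) {q : G} (hq : q ∈ Q) : Subgroup G where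
  carrier := {l | l ∈ o3 𝒩(zpowers z) ∧ q ∈ h.cv l}
  one_mem' := ⟨one_mem _, hq, by simp⟩
  mul_mem' ha hb := ⟨mul_mem ha.1 hb.1, h.cv_mul (o3_le _ ha.1) ha.2 hb.2⟩
  inv_mem' ha := ⟨inv_mem ha.1, h.cv_zpowers (o3_le _ ha.1) (inv_mem (mem_zpowers _)) ha.2⟩

namespace Hyp
variable (h : Hyp S J Q z π ρ)
include h

theorem CJ : 𝒞(J) ≤ J := fun k hk => by
  obtain ⟨x, hx, hq⟩ := h.exists_x h.JS h.Jab h.Jcard
  have hN := h.NS_of (cent1_le_norm z (cent_le_cent1 h.zJ hk)) (cent_le_norm _ hk)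
  have hS : k ∈ S := h.faith hN (fun q hq' => by
    refine h.cent_inf_ab h.JS h.Jab h.Jcard
      (mul_mem (conj_mem_of_norm le_rfl (h.Qn (h.NS_le hN)) hq') (inv_mem hq')) (cent_anti inf_le_left ?_)
    have := mul_mem hk (conj_mem_of_norm (norm_cent h.SnJ) (h.QS hq') (inv_mem hk))
    rwa [← mul_assoc, ← mul_assoc] at this) hx hq (by rw [← hk x hx]; simp)
  exact (h.eq_cent h.JS h.Jab h.Jcard).ge ⟨hS, cent_anti inf_le_left hk⟩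

theorem CJx {x j : G} (hx : x ∈ S) (hxJ : x ∉ J) (hj : j ∈ J) (hc : x ∈ 𝒞[j]) : j ∈ Q := by
  by_contra hq
  obtain ⟨q, hq', a, ha, rfl⟩ := (mem_sup_of_norm_left (h.JS.trans h.SnQ)).mp (h.QJ.ge hx)
  have h1 : q ∈ 𝒞[j] := by simpa using mul_mem hc (inv_mem (cent_le_cent1 hj (h.Jab ha)))
  exact hxJ (mul_mem ((h.cv_J (h.JS hj) hq).le ⟨hq', by rw [← mem_cent1.mp h1]; simp⟩).1 ha)

theorem HS {l j : G} (hl : l ∈ o3 𝒩(zpowers z)) (hj : j ∈ J) (hq : j ∈ Q) (hz : j ∉ zpowers z)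
    (hc : j ∈ h.cv l) : l ∈ S := by
  obtain ⟨x, hx, hxq⟩ := h.exists_x h.JS h.Jab h.Jcard
  obtain ⟨ρ', h', hA⟩ := h.exists_rho (h.JS hx) hxq
  have ph := h'.ρh.mono (show h.hq hq ≤ _ from fun _ a => a.1)
  have hxL := h.SL (h.JS hx)
  obtain ⟨i, hi⟩ := sub_A (H := ph.im)
    (ph.mem_im.mpr ⟨x, ⟨hxL, hq, by rw [h.Jcomm hx hj]; simp⟩, hA⟩) (fun hn => by
      obtain ⟨m, hm, e⟩ := ph.mem_im.mp hn
      exact hz ((h'.cv_neg hm.1 e).le hm.2)) (ph.mem_im.mpr ⟨l, ⟨hl, hc⟩, rfl⟩)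
  have : l * (x ^ i)⁻¹ ∈ Q := by
    rw [← h'.ρker _ (mul_mem hl (inv_mem (pow_mem hxL i))), h'.ρh.div hl (pow_mem hxL i), hi,
      h'.ρh.pow hxL, hA, mul_inv_cancel]
  simpa using mul_mem (h.QS this) (pow_mem (h.JS hx) i)

theorem L1 {j k : G} (hj : j ∈ J) (hz : j ∉ zpowers z) (hk : k ∈ 𝒩(zpowers z)) (hc : k ∈ 𝒞[j]) :
    k ∈ 𝒩(J) := by
  by_cases hq : j ∈ Q
  · refine mem_norm_iff_cj.mpr (h.cj_eq_of_le fun x hx => ?_)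
    obtain ⟨a, ha, rfl⟩ := mem_cj'.mp hx
    have : k * a * k⁻¹ ∈ 𝒞[j] := mul_mem (mul_mem hc (cent_le_cent1 hj (h.Jab ha))) (inv_mem hc)
    exact h.HS (conj_mem_of_norm (le_norm_o3 _) hk (h.SL (h.JS ha))) hj hq hz
      ⟨hq, by rw [mem_cent1.mp this, mul_inv_cancel_right]; simp⟩
  · exact h.NS_le_NJ (h.sup_eq (h.JS hj) hq ▸ norm_sup (zpowers_le.mpr (h.Qn hk))
      (zpowers_le.mpr (cent1_le_norm j hc)) (mem_zpowers k))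

theorem comm_Q {a b : G} (ha : a ∈ S) (hb : b ∈ S) : a * b * a⁻¹ * b⁻¹ ∈ Q := by
  obtain ⟨q, hq, c, hc, rfl⟩ := (mem_sup_of_norm_left (h.JS.trans h.SnQ)).mp (h.QJ.ge ha)
  obtain ⟨r, hr, d, hd, rfl⟩ := (mem_sup_of_norm_left (h.JS.trans h.SnQ)).mp (h.QJ.ge hb)
  have h1 := conj_mem_of_norm h.SnQ (h.JS hc) hr
  have h2 := conj_mem_of_norm h.SnQ (h.JS hd) (inv_mem hq)
  have := mul_mem (mul_mem (mul_mem hq h1) h2) (inv_mem hr)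
  rwa [show q * (c * r * c⁻¹) * (d * q⁻¹ * d⁻¹) * r⁻¹ = q * c * r * (c⁻¹ * d) * q⁻¹ * d⁻¹ * r⁻¹ by group,
    h.Jcomm (inv_mem hc) hd, show q * c * r * (d * c⁻¹) * q⁻¹ * d⁻¹ * r⁻¹ =
      q * c * (r * d) * (q * c)⁻¹ * (r * d)⁻¹ by group] at this

theorem E3 {x j : G} (hx : x ∈ S) (h3 : x ^ 3 = 1) (hj : j ∈ J)
    (hn : j * (x * j * x⁻¹) * (x * x * j * (x * x)⁻¹) ≠ 1) : x ∈ Q := by
  obtain ⟨a, ha, q, hq, e⟩ := (mem_sup_of_norm_left (h.QS.trans h.SnJ)).mp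
    ((sup_comm Q J ▸ h.QJ).ge hx)
  by_contra hxq
  have haq : a ∉ Q := fun haq => hxq (e ▸ mul_mem haq hq)
  have key : ∀ u ∈ J, u ∈ Q → u * a⁻¹ ∈ nk h.Jab h.Jexp (h.SnJ hx) := fun u hu hu' => by
    refine ⟨mul_mem hu (inv_mem ha), ?_⟩
    have h1 : (u * a⁻¹ * x) ^ 3 = 1 := by
      rw [e, show u * a⁻¹ * (a * q) = u * q by group]; exact h.Qexp _ (mul_mem hu' hq)
    rw [pow_three'] at h1 h3
    generalize u * a⁻¹ = w at h1 ⊢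
    calc _ = w * x * (w * x) * (w * x) * (x * x * x)⁻¹ := by group
      _ = 1 := by rw [h1, h3]; simp
  have ha' : a ∈ nk h.Jab h.Jexp (h.SnJ hx) := by simpa using key 1 (one_mem _) (one_mem _)
  obtain ⟨r, hr, c, hc, rfl⟩ := h.exists_mul (h.JS ha) haq (h.JS hj)
  have hcJ := zpowers_le.mpr ha hc
  have hrJ : r ∈ J := by simpa using mul_mem hj (inv_mem hcJ)
  have : r ∈ nk h.Jab h.Jexp (h.SnJ hx) := by simpa using mul_mem (key r hrJ hr) ha'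
  exact hn (mul_mem this (zpowers_le.mpr ha' hc)).2

end Hyp

namespace Cfg0
variable (h : Cfg0 S J Q z π ρ t s)
include h

theorem comm_J {a b : G} (ha : a ∈ S) (hb : b ∈ S) : a * b * a⁻¹ * b⁻¹ ∈ J := by
  have hm := mul_mem (mul_mem (h.SM ha) (h.SM hb)) (inv_mem (h.SM ha))
  rw [← h.πker _ (mul_mem hm (inv_mem (h.SM hb))), h.πh.div hm (h.SM hb),
    h.πh.conj (h.SM ha) (h.SM hb)]
  exact ((h.πS a (h.SM ha)).mp ha).comm ((h.πS b (h.SM hb)).mp hb)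

theorem noU {g : G} (hg : g * z * g⁻¹ ∈ J) (hq : g * z * g⁻¹ ∈ Q) : g * z * g⁻¹ ∈ zpowers z := by
  obtain ⟨n, hn, e⟩ := h.fusion h.zJ hg
  rw [← e] at hq ⊢
  obtain ⟨m, hm, H⟩ := h.frattini hn
  have h1 : m * (n * z * n⁻¹) * m⁻¹ ∈ zpowers z := by
    have := conj_mem_of_norm le_rfl (h.NS_le H) (mem_zpowers z)
    rwa [show m * n * z * (m * n)⁻¹ = m * (n * z * n⁻¹) * m⁻¹ by group] at this
  obtain ⟨q, hq1, hq2⟩ : ∃ q ∈ Q ⊓ 𝒞[n * z * n⁻¹], q ∉ J := SetLike.not_le_iff_exists.mp fun hle => by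
    have h2 := h.card_le_cent le_rfl hq
    have h3 := card_le_of_le (le_inf hle inf_le_left)
    rw [h.cardU] at h3
    rw [h.Qcard] at h2
    omega
  have hqM := h.SM (h.QS hq1.1)
  have hmq := mul_mem (mul_mem hm hqM) (inv_mem hm)
  have h2 : m * q * m⁻¹ ∈ 𝒩(zpowers z) := by
    rw [← H76.zpowers_eq_of_three h.z3 h1 (H76.ne_one_of_three (by
      rw [H76.orderOf_cj, H76.orderOf_cj, h.z3]))]
    exact cent1_le_norm _ (cj_cent1 m _ ▸ conj_mem_cj.mpr hq1.2)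
  have h3 : m * q * m⁻¹ ∈ S := mem_syl_of_norm h.syl (k := 1)
    (by rw [pow_one, conj_pow, h.Qexp q hq1.1]; simp) (mem_top _) (h.NS_of h2 (o3_le _ hmq))
  rw [h.πS _ hmq, h.πh.conj hm hqM] at h3
  have h4 := (h.nz hm).mpr (ti _ _ ((h.πS q hqM).mp (h.QS hq1.1))
    (fun e => hq2 ((h.πker q hqM).mp e)) h3)
  simpa [mul_assoc] using conj_mem_of_norm' le_rfl (h.NS_le h4) h1

theorem L5 {g : G} (hq : g * z * g⁻¹ ∈ Q) : g * z * g⁻¹ ∈ zpowers z := by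
  have : Fact (Nat.Prime 3) := ⟨Nat.prime_three⟩
  obtain ⟨a, ha, b, hb, hab⟩ : ∃ a ∈ Q ⊓ 𝒞[g * z * g⁻¹], ∃ b ∈ Q ⊓ 𝒞[g * z * g⁻¹],
      a * b * a⁻¹ * b⁻¹ ≠ 1 := by
    by_contra hc
    push Not at hc
    have h1 := h.card_ab (X := Q ⊓ 𝒞[g * z * g⁻¹]) inf_le_left fun a ha b hb => by
      have := hc b hb a ha; rwa [mul_inv_eq_one, mul_inv_eq_iff_eq_mul] at this
    have h2 := h.card_le_cent le_rfl hq
    rw [h.Qcard] at h2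
    omega
  obtain ⟨c, hc, H⟩ := (h.syl.of_le h.Sc le_top).exists_conj
    (isPGroup_cj.mpr (h.Qp.to_le (inf_le_left (b := 𝒞[g * z * g⁻¹]))) : IsPGroup 3 (cj g⁻¹ _))
    (by rw [cj_le_iff, inv_inv, cj_cent1]; exact inf_le_right)
  have h1 := H _ (conj_mem_cj.mpr ha)
  have h2 := H _ (conj_mem_cj.mpr hb)
  have e : c * (g⁻¹ * a * g⁻¹⁻¹) * c⁻¹ * (c * (g⁻¹ * b * g⁻¹⁻¹) * c⁻¹) * (c * (g⁻¹ * a * g⁻¹⁻¹) * c⁻¹)⁻¹ *
      (c * (g⁻¹ * b * g⁻¹⁻¹) * c⁻¹)⁻¹ = c * g⁻¹ * (a * b * a⁻¹ * b⁻¹) * (c * g⁻¹)⁻¹ := by group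
  have h3 := h.comm_J h1 h2
  have h4 := h.comm_Q h1 h2
  rw [e] at h3 h4
  have hz : zpowers z = zpowers (a * b * a⁻¹ * b⁻¹) :=
    (H76.zpowers_eq_of_three h.z3 (h.Qcomm a ha.1 b hb.1) hab).symm
  have key : ∀ X : Subgroup G, c * g⁻¹ * (a * b * a⁻¹ * b⁻¹) * (c * g⁻¹)⁻¹ ∈ X →
      c * g⁻¹ * z * (c * g⁻¹)⁻¹ ∈ X := fun X hX =>
    zpowers_le.mpr hX (cj_zpowers (c * g⁻¹) _ ▸ conj_mem_cj.mpr (hz.le (mem_zpowers z)))
  have h5 := h.noU (key _ h3) (key _ h4)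
  have h6 : c * g⁻¹ ∈ 𝒩(zpowers z) := mem_norm_of_cj_le (by rw [cj_zpowers]; exact zpowers_le.mpr h5)
  have h7 := conj_mem_of_norm' le_rfl h6 (mem_zpowers z)
  rwa [show (c * g⁻¹)⁻¹ * z * (c * g⁻¹) = g * (c⁻¹ * (z * c)) * g⁻¹ by group, ← mem_cent1.mp hc,
    inv_mul_cancel_left] at h7

end Cfg0

end Cfsg.Agent.MC3
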