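import Cfsg.Agent.MC3.YB2

set_option autoImplicit false
set_option linter.unusedSectionVars false

namespace Cfsg.Agent.MC3

open Subgroup H49 Cfsg.Agent.S3702 Cfsg.Agent.H76.T648
open Cfsg.Agent.H76 (V3)

namespace YB

variable {X : Type*} [Group X] [Finite X] {y : X} {φ : V3 → X} {t p : X} {J : Subgroup X}

/-- `E = ⟨y, φ (1,1,0)⟩` -/
def EE (h : YD y φ t p J) : Subgroup X where
  carrier := {x | ∃ a ∈ zpowers y, ∃ n : ZMod 3, x = a * φ (n, n, 0)}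
  one_mem' := ⟨1, one_mem _, 0, by rw [one_mul]; exact (φ0 h).symm⟩
  mul_mem' := by
    rintro _ _ ⟨a, ha, n, rfl⟩ ⟨b, hb, m, rfl⟩
    refine ⟨a * b, mul_mem ha hb, n + m, ?_⟩
    have : φ (n + m, n + m, 0) = φ (n, n, 0) * φ (m, m, 0) := by rw [← h.add]; simp
    rw [this, mul_assoc, ← mul_assoc (φ _), (yc h hb _).eq]; group
  inv_mem' := by
    rintro _ ⟨a, ha, n, rfl⟩
    refine ⟨a⁻¹, inv_mem ha, -n, ?_⟩
    have : φ (-n, -n, 0) = (φ (n, n, 0))⁻¹ := by rw [← φneg h]; simp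
    rw [this, mul_inv_rev, (yc h (inv_mem ha) _).eq]

section
variable (h : YD y φ t p J)
include h

theorem EE_le : EE h ≤ J := by
  rintro _ ⟨a, ha, n, rfl⟩
  exact mul_mem (ymem h ha) (φmem h _)

theorem φ_EE {v : V3} (hv : φ v ∈ EE h) : ∃ n : ZMod 3, v = (n, n, 0) := by
  obtain ⟨a, ha, n, e⟩ := hv
  exact ⟨n, sub_eq_zero.mp (h.inj _ (by rw [φsub h, e, mul_inv_cancel_right]; exact ha))⟩

theorem b_EE (n : ZMod 3) : φ (n, n, 0) ∈ EE h := ⟨1, one_mem _, n, (one_mul _).symm⟩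

theorem Ac.normE {k : X} {i : Fin 24} (hk : Ac φ k i) (hi : i = 0 ∨ i = 2 ∨ i = 3 ∨ i = 8) :
    k ∈ 𝒩(EE h) := by
  refine mem_norm_of_cj_le fun x hx => ?_
  obtain ⟨z, ⟨a, ha, n, rfl⟩, rfl⟩ := mem_cj'.mp hx
  obtain ⟨m, hm⟩ := act_b i hi n
  refine ⟨a, ha, m, ?_⟩
  rw [← hm, ← hk, ← mul_assoc k, (yc h ha k).eq]; group

variable {c : X} (hcφ : ∀ v, c * φ v * c⁻¹ = φ (v.1, -v.2.2, v.2.1))
  (hN : 𝒩(J) ≤ J ⊔ closure {t, p, c})
include hcφ hN

theorem normE_le : 𝒩(EE h) ≤ 𝒩(J) := by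
  set H := 𝒩(EE h) with hH
  have hn : ((EE h).subgroupOf H).Normal := normal_in_normalizer
  let f : H →* H ⧸ (EE h).subgroupOf H := QuotientGroup.mk' _
  have hs : Function.Surjective f := QuotientGroup.mk'_surjective _
  have hf : ∀ x z : H, f x = f z ↔ (x : X) * (z : X)⁻¹ ∈ EE h := fun x z => by
    rw [← mul_inv_eq_one, ← map_inv, ← map_mul, QuotientGroup.mk'_apply, QuotientGroup.eq_one_iff]
    rfl
  have JH : J ≤ H := fun j hj => (ac_J h hj).normE h (Or.inl rfl)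
  let T := (J.subgroupOf H).map f
  have mT : ∀ x : H, f x ∈ T ↔ (x : X) ∈ J := fun x => by
    refine ⟨?_, fun hx => ⟨x, hx, rfl⟩⟩
    rintro ⟨z, hz, e⟩
    have := EE_le h ((hf _ _).mp e)
    exact (inv_mem_iff).mp ((mul_mem_cancel_left (show (z : X) ∈ J from hz)).mp this)
  let ψ : ZMod 3 × ZMod 3 → H := fun u => ⟨φ (u.1, 0, u.2), JH (φmem h _)⟩
  have sT : ∀ x ∈ T, ∃ u, f (ψ u) = x := by
    rintro _ ⟨z, hz, rfl⟩
    obtain ⟨a, ha, v, e⟩ := (h.memJ _).mp hz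
    refine ⟨(v.1 - v.2.1, v.2.2), ((hf _ _).mpr ⟨a, ha, v.2.1, ?_⟩).symm⟩
    change (z : X) * (φ _)⁻¹ = _
    rw [show (z : X) = a * φ v from e, mul_assoc, ← φsub h]
    congr 2
    ext <;> simp
  have nT : ∀ k : H, f k ∈ 𝒩(T) ↔ (k : X) ∈ 𝒩(J) := fun k => by
    refine ⟨fun hk => mem_norm_of_cj_le fun x hx => ?_, fun hk => mem_norm_of_cj_le fun x hx => ?_⟩
    · obtain ⟨z, hz, rfl⟩ := mem_cj'.mp hx
      have := conj_mem_of_norm le_rfl hk ((mT ⟨z, JH hz⟩).mpr hz)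
      rw [← map_inv, ← map_mul, ← map_mul, mT] at this
      exact this
    · obtain ⟨_, ⟨z, hz, rfl⟩, rfl⟩ := mem_cj'.mp hx
      rw [← map_inv, ← map_mul, ← map_mul, mT]
      exact conj_mem_of_norm le_rfl hk hz
  have acH : ∀ k : H, (k : X) ∈ 𝒩(J) → ∃ i, (i = 0 ∨ i = 2 ∨ i = 3 ∨ i = 8) ∧ Ac φ (k : X) i :=
    fun k hk => by
      obtain ⟨i, hi⟩ := ac_B h hcφ hN hk
      have := conj_mem_of_norm le_rfl k.2 (b_EE h 1)
      rw [hi] at this
      obtain ⟨n, hn⟩ := φ_EE h this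
      exact ⟨i, act_stab i n hn, hi⟩
  obtain ⟨a, -, ha⟩ := lam h hcφ 2
  obtain ⟨b, -, hb⟩ := lam h hcφ 3
  have hab := ha.mul hb L23
  let a' : H := ⟨a, ha.normE h (by simp)⟩
  let b' : H := ⟨b, hb.normE h (by simp)⟩
  have nC : ∀ (k : H) (i : Fin 24) (u : ZMod 3 × ZMod 3), Ac φ (k : X) i →
      (∀ n : ZMod 3, act i (u.1, 0, u.2) - (u.1, 0, u.2) ≠ (n, n, 0)) → f k ∉ 𝒞(T) :=
    fun k i u hk hu e => by
      have := mem_centralizer_iff.mp e (f (ψ u)) ((mT _).mpr (φmem h _))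
      rw [← map_mul, ← map_mul, eq_comm, hf] at this
      change (k : X) * φ _ * (φ _ * (k : X))⁻¹ ∈ _ at this
      have h2 := conj_mem_of_norm' le_rfl (inv_mem k.2) this
      have h3 := conj_mem_of_norm' le_rfl k.2 h2
      rw [show (k : X)⁻¹ * ((k : X)⁻¹⁻¹ * (k * φ (u.1, 0, u.2) * (φ (u.1, 0, u.2) * k)⁻¹) * (k : X)⁻¹) * k
        = k * φ (u.1, 0, u.2) * (k : X)⁻¹ * (φ (u.1, 0, u.2))⁻¹ by group, hk, ← φsub h] at h3
      obtain ⟨n, hn⟩ := φ_EE h h3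
      exact hu n hn
  have key := four T ?_ ?_ ?_ (a := f a') (b := f b') ((nT _).mpr (ha.norm h)) ((nT _).mpr (hb.norm h))
    ?_ ?_ (nC a' 2 (1, 0) ha (by decide +kernel)) (nC b' 3 (0, 1) hb (by decide +kernel))
    (by rw [← map_mul]; exact nC (a' * b') 8 (0, 1) hab (by decide +kernel)) ?_
  · exact fun k hk => (nT ⟨k, hk⟩).mp (key ▸ mem_top _)
  · rintro _ ⟨x, hx, rfl⟩ _ ⟨z, hz, rfl⟩
    rw [← map_mul, ← map_mul]
    exact congrArg f (Subtype.ext (Jcomm h hx hz))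
  · rintro _ ⟨x, hx, rfl⟩
    rw [← map_pow, ← map_one f]
    exact congrArg f (Subtype.ext (J3 h hx))
  · have : Function.Bijective fun u : ZMod 3 × ZMod 3 => (⟨f (ψ u), (mT _).mpr (φmem h _)⟩ : T) := by
      refine ⟨fun u w e => ?_, fun x => ?_⟩
      · have := (hf _ _).mp (congrArg Subtype.val e)
        change φ _ * (φ _)⁻¹ ∈ _ at this
        rw [← φsub h] at this
        obtain ⟨n, hn⟩ := φ_EE h this
        clear * - hn
        revert u w n; decide +kernel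
      · obtain ⟨u, hu⟩ := sT x x.2
        exact ⟨u, Subtype.ext hu⟩
    rw [← Nat.card_eq_of_bijective _ this]; simp
  · intro n hn
    obtain ⟨k, rfl⟩ := hs n
    obtain ⟨i, hi, hk⟩ := acH k ((nT k).mp hn)
    rw [← map_mul, ← map_inv, ← map_inv, ← map_inv, ← map_mul, ← map_mul, ← map_mul, mT, mT, mT, mT]
    rcases hi with rfl | rfl | rfl | rfl
    exacts [Or.inl (hk.triv h), Or.inr (Or.inl (hk.coset h ha)),
      Or.inr (Or.inr (Or.inl (hk.coset h hb))), Or.inr (Or.inr (Or.inr (hk.coset h hab)))]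
  · intro n hn
    obtain ⟨k, rfl⟩ := hs n
    obtain ⟨i, hi, hk⟩ := acH k ((nT k).mp hn)
    rw [← map_mul, mT]
    exact (hk.mul hk (L_sq i hi)).triv h
  · intro x hx hx1 n hn
    obtain ⟨k, rfl⟩ := hs n
    obtain ⟨u, rfl⟩ := sT x hx
    have hu : u ≠ 0 := by
      rintro rfl
      exact hx1 (by rw [← map_one f]; exact congrArg f (Subtype.ext (φ0 h)))
    obtain ⟨m, hm⟩ := span_w u hu
    rw [nT]
    refine star h (cent13 h hcφ hm) ?_
    have h1 : (k : X)⁻¹ * φ (u.1, 0, u.2) * k ∈ J := by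
      have := mem_centralizer_singleton_iff.mp hn
      have e : f (k⁻¹ * ψ u * k) = f (ψ u) := by
        rw [map_mul, map_mul, map_inv, mul_assoc, ← this]; group
      exact (mT _).mp (e ▸ hx)
    have h2 : (k : X)⁻¹ * φ (m, m, 0) * k ∈ J := EE_le h (conj_mem_of_norm' le_rfl k.2 (b_EE h m))
    have := mul_mem h1 h2
    rw [h.add]
    rwa [show (k : X)⁻¹ * φ (u.1, 0, u.2) * k * ((k : X)⁻¹ * φ (m, m, 0) * k)
      = (k : X)⁻¹ * (φ (u.1, 0, u.2) * φ (m, m, 0)) * k by group] at this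

theorem centAll {v : V3} (hv : v ≠ 0) : 𝒞[φ v] ≤ 𝒩(J) := by
  have h4 : ∀ i : Fin 4, i = 0 ∨ i = 2 ∨ (i = 1 ∨ i = 3) := by decide
  rcases h4 (cls v) with e | e | e
  · exact absurd (cls_zero v e) hv
  · obtain ⟨i, hi⟩ := act_tr v
    obtain ⟨k, -, hk⟩ := lam h hcφ i
    rw [← hi, e]
    refine hk.cent h fun g hg => normE_le h hcφ hN (mem_norm_of_cj_le fun x hx => ?_)
    obtain ⟨z, ⟨a, ha, n, rfl⟩, rfl⟩ := mem_cj'.mp hx
    have h1 : Commute g (φ (1, 1, 0)) := mem_centralizer_singleton_iff.mp hg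
    have h2 : Commute g (φ (n, n, 0)) := by
      have h3 : n = 0 ∨ n = 1 ∨ n = 1 + 1 := by clear * -; revert n; decide
      rcases h3 with rfl | rfl | rfl
      · rw [show ((0, 0, 0) : V3) = 0 from rfl, φ0 h]; exact Commute.one_right g
      · exact h1
      · rw [show ((1 + 1, 1 + 1, 0) : V3) = (1, 1, 0) + (1, 1, 0) from rfl, h.add]
        exact h1.mul_right h1
    rw [((yc h ha g).mul_right h2).eq, mul_inv_cancel_right]
    exact ⟨a, ha, n, rfl⟩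
  · exact cent13 h hcφ e

end

end YB

end Cfsg.Agent.MC3
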