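import Cfsg.Agent.MC3.YDefs
import Cfsg.Agent.MC3.YB3

set_option autoImplicit false

namespace Cfsg.Agent.MC3

open Subgroup H49

open Cfsg.Agent.S3702 YB in
/-- `N(J)/J = S₄`; S3805, `S3702.main`; proof in notes/MC3.md -/
theorem YD.caseB {X : Type*} [Group X] [Finite X] {y : X} {φ : ZMod 3 × ZMod 3 × ZMod 3 → X}
    {t p : X} {J : Subgroup X} (h : YD y φ t p J) {c : X} (hc : c * c = t)
    (hcφ : ∀ v, c * φ v * c⁻¹ = φ (v.1, -v.2.2, v.2.1))
    (hct : c * (p * t * p⁻¹) * c⁻¹ = p⁻¹ * t * p) (hN : 𝒩(J) ≤ J ⊔ closure {t, p, c})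
    (hz : ∀ g : X, g * φ (1, 1, 1) * g⁻¹ ∈ 𝒩(J) → g * φ (1, 1, 1) * g⁻¹ ∈ J) :
    𝒩(J) = ⊤ := by
  have : Fact (Nat.Prime 3) := ⟨Nat.prime_three⟩
  have hn : (zpowers y).Normal := ⟨fun a ha g => by
    rw [(YB.yc h ha g).eq, mul_inv_cancel_right]; exact ha⟩
  let f : X →* X ⧸ zpowers y := QuotientGroup.mk' _
  have hs : Function.Surjective f := QuotientGroup.mk'_surjective _
  have hf : ∀ x z : X, f x = f z ↔ x * z⁻¹ ∈ zpowers y := fun x z => by
    rw [← mul_inv_eq_one, ← map_inv, ← map_mul, QuotientGroup.mk'_apply, QuotientGroup.eq_one_iff]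
  choose l hlK hl using lam h hcφ
  have lmul : ∀ i j k, L i * L j = L k → f (l i) * f (l j) = f (l k) := fun i j k e => by
    rw [← map_mul, hf]
    exact KJ h hc hcφ hct (mul_mem (mul_mem (hlK i) (hlK j)) (inv_mem (hlK k)))
      (((hl i).mul (hl j) e).coset h (hl k))
  let g : (ZMod 3 × ZMod 3 × ZMod 3) × Fin 24 → X := fun m => φ m.1 * l m.2
  have gac : ∀ m, Ac φ (g m) m.2 := fun m =>
    (ac_J h (φmem h _)).mul (hl m.2) (by rw [L_zero, one_mul])
  have gmul : ∀ m n k, F m * F n = F k → f (g m) * f (g n) = f (g k) := by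
    rintro ⟨v, i⟩ ⟨w, j⟩ k e
    obtain ⟨r, hr⟩ := L_mul i j
    obtain rfl : (v + act i w, r) = k := F_inj (by
      rw [← e]; simp only [F, p0_add, ← hr, mul_assoc]; rw [← mul_assoc (L i), L_act, mul_assoc])
    simp only [g, map_mul, h.add, ← lmul i j r hr, ← hl i w, map_inv]
    group
  let ix : K0 → (ZMod 3 × ZMod 3 × ZMod 3) × Fin 24 := fun x => x.2.choose
  have hix : ∀ x, F (ix x) = x := fun x => x.2.choose_spec
  let ι : K0 →* X ⧸ zpowers y := MonoidHom.mk' (fun x => f (g (ix x))) fun x z =>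
    (gmul _ _ _ (by rw [hix, hix, hix]; rfl)).symm
  have hι : ∀ m, ι ⟨F m, m, rfl⟩ = f (g m) := fun m => by
    change f (g (ix _)) = _
    rw [F_inj (hix ⟨F m, m, rfl⟩)]
  have l0 : l 0 ∈ zpowers y := KJ h hc hcφ hct (hlK 0) ((hl 0).triv h)
  have inj : Function.Injective ι := by
    refine (injective_iff_map_eq_one ι).mpr ?_
    rintro ⟨_, ⟨v, i⟩, rfl⟩ e
    rw [hι, ← map_one f, hf, inv_one, mul_one] at e
    obtain rfl : i = 0 := (gac (v, i)).uniq h (ac_J h (ymem h e))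
    obtain rfl : v = 0 := h.inj v ((mul_mem_cancel_right l0).mp e)
    exact Subtype.ext (by simp [F, p0_zero, L_zero])
  have rg : ∀ x, f x ∈ ι.range ↔ x ∈ 𝒩(J) := fun x => by
    refine ⟨?_, fun hx => ?_⟩
    · rintro ⟨⟨_, m, rfl⟩, e⟩
      rw [hι, eq_comm, hf] at e
      exact (mul_mem_cancel_right (inv_mem ((gac m).norm h))).mp (le_normalizer (ymem h e))
    · obtain ⟨i, hi⟩ := ac_B h hcφ hN hx
      obtain ⟨a, ha, v, e⟩ := (h.memJ _).mp (hi.coset h (hl i))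
      refine ⟨⟨_, (v, i), rfl⟩, ?_⟩
      rw [hι, eq_comm, hf]
      change x * (φ v * l i)⁻¹ ∈ _
      rw [mul_inv_rev, ← mul_assoc, e, mul_inv_cancel_right]
      exact ha
  have mJ : ∀ x, f x ∈ J.map f ↔ x ∈ J := fun x => by
    refine ⟨?_, fun hx => ⟨x, hx, rfl⟩⟩
    rintro ⟨z, hz, e⟩
    exact inv_mem_iff.mp ((mul_mem_cancel_left (show z ∈ J from hz)).mp (ymem h ((hf _ _).mp e)))
  have sJ : ∀ x ∈ J.map f, ∃ v, x = f (φ v) := by
    rintro _ ⟨z, hz, rfl⟩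
    obtain ⟨a, ha, v, rfl⟩ := (h.memJ _).mp hz
    exact ⟨v, (hf _ _).mpr (by rwa [mul_inv_cancel_right])⟩
  have JB : J.map f ≤ ι.range := by
    rintro _ ⟨z, hz, rfl⟩
    exact (rg z).mpr (le_normalizer hz)
  have hJ : J.map f = (pCore 3 ι.range).map ι.range.subtype := by
    have hle : ι.range ≤ 𝒩(J.map f) := fun x hx => by
      obtain ⟨k, rfl⟩ := hs x
      rw [mem_norm_iff_cj, ← map_cj, cj_eq_of_mem_norm ((rg k).mp hx)]
    have h1 : J.map f ≤ (pCore 3 ι.range).map ι.range.subtype := fun x hx =>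
      ⟨⟨x, JB hx⟩, H70.le_pCore (N := (J.map f).subgroupOf ι.range)
        (normal_subgroupOf_of_le_normalizer hle) (H70.isPGroup_subgroupOf ((Jp h).map f)) hx, rfl⟩
    refine le_antisymm h1 fun x hx => ?_
    obtain ⟨k, rfl⟩ := hs x
    have hk : k ∈ 𝒩(J) := (rg k).mp (map_subtype_le _ hx)
    obtain ⟨i, hi⟩ := ac_B h hcφ hN hk
    obtain rfl : i = 0 := by_contra fun hi0 => by
      obtain ⟨j, h2, h3⟩ := L_two i hi0
      obtain ⟨j', e1⟩ := L_inv j
      obtain ⟨r1, e2⟩ := L_mul j i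
      obtain ⟨r2, e3⟩ := L_mul r1 j'
      obtain ⟨r3, e4⟩ := L_mul i r2
      have h4 := hi.mul (((hl j).mul hi e2).mul ((hl j).inv e1) e3) e4
      rw [e1, e2, e3, e4] at h2 h3
      have hnn : ι.range ≤ 𝒩((pCore 3 ι.range).map ι.range.subtype) := H70.le_norm_map_subtype _
      have h5 := mul_mem hx (conj_mem_of_norm hnn ((rg _).mpr ((hl j).norm h)) hx)
      rw [← map_inv, ← map_mul, ← map_mul, ← map_mul] at h5
      have h6 : IsPGroup 3 ((pCore 3 ι.range).map ι.range.subtype) := H70.pCore_isPGroup.map _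
      obtain ⟨n, hn⟩ := H70.isPGroup_iff_mem.mp h6 _ h5
      rw [← map_pow, ← map_one f, hf, inv_one, mul_one] at hn
      obtain ⟨s, e5, h7⟩ := h4.pow (3 ^ n)
      obtain rfl : s = 0 := h7.uniq h (ac_J h (ymem h hn))
      rw [L_zero] at e5
      exact h2 (orderOf_eq_one_iff.mp (Nat.eq_one_of_dvd_coprimes
        ((by norm_num : Nat.Coprime 2 3).pow_right n) (orderOf_dvd_of_pow_eq_one h3)
        (orderOf_dvd_of_pow_eq_one e5)))
    exact (mJ k).mpr (hi.triv h)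
  have key := S3702.main inj hJ ?_ ⟨JB, ?_⟩
  · exact eq_top_iff.mpr fun x _ => (rg x).mp (key ▸ mem_top _)
  · intro j hj hj1 x hx
    obtain ⟨k, rfl⟩ := hs x
    obtain ⟨v, rfl⟩ := sJ j hj
    have hv : v ≠ 0 := by rintro rfl; exact hj1 (by rw [φ0 h, map_one])
    rw [rg]
    refine star h (centAll h hcφ hN hv) ((mJ _).mp ?_)
    rw [map_mul, map_mul, map_inv, mul_assoc, ← mem_centralizer_singleton_iff.mp hx,
      inv_mul_cancel_left]
    exact hj
  · intro j hj x hx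
    obtain ⟨k, rfl⟩ := hs x
    obtain ⟨v, rfl⟩ := sJ j hj
    rw [← map_inv, ← map_mul, ← map_mul] at hx ⊢
    rw [rg] at hx
    rw [mJ]
    by_cases hv : v = 0
    · rw [hv, φ0 h, mul_one, mul_inv_cancel]; exact one_mem _
    obtain ⟨i, hi⟩ := ac_B h hcφ hN hx
    have h3 : ∀ w, act i (act i (act i w)) = w := fun w => φinj h (by
      rw [← hi, ← hi, ← hi]
      have : (k * φ v * k⁻¹) ^ 3 = 1 := by rw [conj_pow, φ3 h]; group
      rw [pow_three] at this
      generalize k * φ v * k⁻¹ = u at this ⊢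
      calc _ = u * (u * u) * φ w * (u * (u * u))⁻¹ := by group
        _ = φ w := by rw [this]; group)
    obtain ⟨j, hj'⟩ := act_three i h3
    have h4 := hi (act j (1, 1, 1))
    rw [hj'] at h4
    have h5 : k⁻¹ * φ (act j (1, 1, 1)) * k ∈ 𝒩(J) := by
      refine centAll h hcφ hN hv (mem_centralizer_singleton_iff.mpr ?_)
      generalize φ (act j (1, 1, 1)) = z at h4 ⊢
      calc _ = k⁻¹ * z * k * φ v := rfl
        _ = k⁻¹ * (k * φ v * k⁻¹ * z * (k * φ v * k⁻¹)⁻¹) * k * φ v := by rw [h4]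
        _ = _ := by group
    have e : k⁻¹ * φ (act j (1, 1, 1)) * k = k⁻¹ * l j * φ (1, 1, 1) * (k⁻¹ * l j)⁻¹ := by
      rw [← hl j]; group
    have h6 := hz (k⁻¹ * l j) (e ▸ h5)
    rw [← e] at h6
    exact conj_mem_of_norm le_rfl (star h ((hl j).cent h h.c3) h6) (φmem h v)

end Cfsg.Agent.MC3
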