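import Cfsg.Agent.MC3.YA
import Cfsg.Agent.MC3.YB
import Cfsg.Agent.MC3.PH

set_option autoImplicit false

namespace Cfsg.Agent.MC3

open Subgroup H49 H76 YAx

namespace YCx

theorem ind (P : V3 → Prop) (h0 : P 0) (add : ∀ u v, P u → P v → P (u + v)) (h1 : P (1, 0, 0))
    (h2 : P (0, 1, 0)) (h3 : P (0, 0, 1)) (v : V3) : P v := by
  have nsm : ∀ u, P u → ∀ n : ℕ, P (n • u) := fun u hu n => by
    induction n with
    | zero => rwa [zero_smul]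
    | succ n ih => rw [succ_nsmul]; exact add _ _ ih hu
  rw [basis v]
  exact add _ _ (add _ _ (nsm _ h1 _) (nsm _ h2 _)) (nsm _ h3 _)

variable {X : Type*} [Group X] {y : X} {φ : V3 → X} {t p : X} {J : Subgroup X} (h : YD y φ t p J)
include h

theorem act {c : X} (f : V3 → V3) (f0 : f 0 = 0) (hf : ∀ u v, f (u + v) = f u + f v)
    (h1 : c * φ (1, 0, 0) * c⁻¹ = φ (f (1, 0, 0))) (h2 : c * φ (0, 1, 0) * c⁻¹ = φ (f (0, 1, 0)))
    (h3 : c * φ (0, 0, 1) * c⁻¹ = φ (f (0, 0, 1))) (v : V3) : c * φ v * c⁻¹ = φ (f v) :=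
  ind (fun v => c * φ v * c⁻¹ = φ (f v)) (by simp [f0, z h])
    (fun u v hu hv => by rw [hf, h.add, h.add, ← hu, ← hv]; group) h1 h2 h3 v

theorem mem_J {c : X} (h1 : c * φ (1, 0, 0) * c⁻¹ = φ (1, 0, 0))
    (h2 : c * φ (0, 1, 0) * c⁻¹ = φ (0, 1, 0)) (h3 : c * φ (0, 0, 1) * c⁻¹ = φ (0, 0, 1)) :
    c ∈ J := h.CJ fun j hj => by
  obtain ⟨a, ha, v, rfl⟩ := (h.memJ j).1 hj
  rw [mul_assoc, ← mul_inv_eq_iff_eq_mul.1 (act h (fun v => v) rfl (fun _ _ => rfl) h1 h2 h3 v),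
    ← mul_assoc, yc h ha, mul_assoc]

theorem Jcube {j : X} (hj : j ∈ J) : j ^ 3 = 1 := by
  obtain ⟨a, ha, u, rfl⟩ := (h.memJ _).1 hj
  rw [Commute.mul_pow (yc h ha _), ycube h ha, cube h, mul_one]

theorem Jsq {j : X} (hj : j ∈ J) (h2 : j * j = 1) : j = 1 := by
  rw [← Jcube h hj, pow_succ, pow_two, h2, one_mul]

omit h in
theorem cj3 (k a x : X) : k * a * k⁻¹ * (k * x * k⁻¹) * (k * a * k⁻¹)⁻¹ = k * (a * x * a⁻¹) * k⁻¹ := by
  group

theorem Jφ {j : X} (hj : j ∈ J) (v : V3) : j * φ v * j⁻¹ = φ v := by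
  rw [← Jab h hj _ (φmem h v), mul_inv_cancel_right]

theorem Vact {e : X} (he : e ∈ V h) : ∃ a b c : ZMod 3, ∀ v,
    e * φ v * e⁻¹ = φ (a * v.1, b * v.2.1, c * v.2.2) := by
  rcases he with rfl | rfl | rfl | rfl
  · exact ⟨1, 1, 1, fun v => by simp⟩
  · exact ⟨1, -1, -1, fun v => by simp [h.tφ]⟩
  · exact ⟨-1, 1, -1, fun v => by rw [t2φ h]; simp⟩
  · exact ⟨-1, -1, 1, fun v => by rw [t3φ h]; simp⟩

theorem Vsq {e : X} (he : e ∈ V h) : e * e = 1 := by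
  rcases he with rfl | rfl | rfl | rfl
  exacts [mul_one _, h.tt, t2 h, t3 h]

theorem Vcomm {e f : X} (he : e ∈ V h) (hf : f ∈ V h) : e * f = f * e := by
  rw [← inv_eq_of_mul_eq_one_right (Vsq h (mul_mem he hf)), mul_inv_rev,
    inv_eq_of_mul_eq_one_right (Vsq h he), inv_eq_of_mul_eq_one_right (Vsq h hf)]

theorem tV : t ∈ V h := Or.inr (Or.inl rfl)
theorem sV : p * t * p⁻¹ ∈ V h := Or.inr (Or.inr (Or.inl rfl))
theorem rV : p⁻¹ * t * p ∈ V h := Or.inr (Or.inr (Or.inr rfl))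

theorem t1 : t ≠ 1 := fun e => by
  have := h.tφ (0, 1, 0)
  rw [e, one_mul, inv_one, mul_one] at this
  exact absurd (finj h this) (by decide)

theorem inv_J1 {j e : X} (hj : j ∈ J) (he : e ∈ V h) (q : e * j * e⁻¹ = j⁻¹) : ∃ v, j = φ v := by
  obtain ⟨a, ha, v, rfl⟩ := (h.memJ j).1 hj
  obtain ⟨α, β, γ, f⟩ := Vact h he
  rw [← mul_assoc, ← yc h ha, mul_assoc, mul_assoc, ← mul_assoc e, f, eq_inv_iff_mul_eq_one,
    mul_assoc, ← mul_assoc (φ _), ← yc h ha, mul_assoc, ← h.add, ← mul_assoc] at q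
  have := h.inj _ (eq_inv_of_mul_eq_one_right q ▸ inv_mem (mul_mem ha ha))
  rw [this, z h, mul_one] at q
  refine ⟨v, ?_⟩
  have e := ycube h ha
  rw [pow_succ, pow_two, q, one_mul] at e
  rw [e, one_mul]

variable [Finite X]

theorem VJ : V h ≤ 𝒩(J) := (VJ1 h).trans (normJ h)

theorem pJ : p ∈ 𝒩(J) := normJ h (pJ1 h)

theorem nf' {x : X} (hx : x ∈ J ⊔ closure {t, p}) : (∃ j ∈ J, ∃ e ∈ V h, x = j * e) ∨
    ∃ u w : V3, u.1 = 0 ∧ w.1 = 0 ∧ x * φ (1, 0, 0) * x⁻¹ = φ u ∧ x * φ u * x⁻¹ = φ w := by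
  have h1 : J ⊔ closure {t, p} ≤ (J ⊔ V h) ⊔ zpowers p := by
    refine sup_le (le_sup_left.trans le_sup_left) ((closure_le _).2 ?_)
    rintro _ (rfl | rfl)
    · exact mem_sup_left (mem_sup_right (tV h))
    · exact mem_sup_right (mem_zpowers _)
  obtain ⟨k, hk, q, hq, rfl⟩ := (mem_sup_of_norm_left
    (norm_sup (zpowers_le.2 (pJ h)) (zpowers_le.2 (pV h)))).1 (h1 hx)
  obtain ⟨j, hj, e, he, rfl⟩ := (mem_sup_of_norm_left (VJ h)).1 hk
  obtain ⟨a, b, c, f⟩ := Vact h he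
  have key : ∀ v w, q * φ v * q⁻¹ = φ w →
      j * e * q * φ v * (j * e * q)⁻¹ = φ (a * w.1, b * w.2.1, c * w.2.2) := fun v w e' => by
    rw [← Jφ h hj (a * w.1, _, _), ← f, ← e']; group
  rcases (mem_zpowers_three (op h)).1 hq with rfl | rfl | rfl
  · exact Or.inl ⟨j, hj, e, he, mul_one _⟩
  · exact Or.inr ⟨_, _, by simp, by simp, key _ _ (h.pφ _), key _ _ (h.pφ _)⟩
  · have k : ∀ v, p⁻¹ * φ v * p⁻¹⁻¹ = φ (v.2.1, v.2.2, v.1) := fun v => by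
      rw [inv_inv]; exact pφ' h _
    exact Or.inr ⟨_, _, by simp, by simp, key _ _ (k _), key _ _ (k _)⟩

variable (h1 : ∀ n ∈ 𝒩(J), n ^ 3 = 1 → n ∈ J ⊔ closure {t, p})
include h1

theorem conjV {n e : X} (hn : n ∈ 𝒩(J)) (he : e ∈ V h) (e1 : e ≠ 1) :
    ∃ j ∈ J, ∃ f ∈ V h, f ≠ 1 ∧ n * e * n⁻¹ = j * f := by
  have k : ∀ x ∈ 𝒩(J), x ^ 3 = 1 → n * x * n⁻¹ ∈ J ⊔ closure {t, p} := fun x hx q =>
    h1 _ (mul_mem (mul_mem hn hx) (inv_mem hn)) (by rw [conj_pow, q]; group)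
  have kp := k p (pJ h) h.p3
  have kt : n * t * n⁻¹ ∈ J ⊔ closure {t, p} := by
    have := mul_mem (k (t * p⁻¹) (mul_mem (VJ h (tV h)) (inv_mem (pJ h))) (by
      calc (t * p⁻¹) ^ 3 = t * (p⁻¹ * t * p) * ((p * p)⁻¹ * t * (p * p)) * (p ^ 3)⁻¹ := by
            simp only [pow_succ, pow_zero]; group
        _ = 1 := by
          rw [h.p3, mul_self_of_three (op h), inv_inv, ← h.v4, ← mul_assoc t, h.tt, one_mul, t2 h]
          simp)) kp
    convert this using 1; group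
  have hx : n * e * n⁻¹ ∈ J ⊔ closure {t, p} := by
    rcases he with rfl | rfl | rfl | rfl
    · exact absurd rfl e1
    · exact kt
    · convert mul_mem (mul_mem kp kt) (inv_mem kp) using 1; group
    · convert mul_mem (mul_mem (inv_mem kp) kt) kp using 1; group
  have xx : n * e * n⁻¹ * (n * e * n⁻¹) = 1 := by
    calc _ = n * (e * e) * n⁻¹ := by group
      _ = 1 := by rw [Vsq h he]; group
  rcases nf' h hx with ⟨j, hj, f, hf, q⟩ | ⟨u, w, -, w1, q1, q2⟩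
  · refine ⟨j, hj, f, hf, fun f1 => e1 ?_, q⟩
    rw [f1, mul_one] at q
    simpa using Jsq h (q ▸ hj) xx
  · generalize n * e * n⁻¹ = x at *
    rw [← q1, ← mul_assoc, ← mul_assoc, xx, one_mul, mul_assoc, ← mul_inv_rev, xx, inv_one,
      mul_one] at q2
    rw [← finj h q2] at w1
    exact absurd w1 (by decide)

/-- the elements to which the normaliser of `J` reduces -/
structure W (φ : V3 → X) (t p : X) (J : Subgroup X) (k : X) : Prop where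
  n : k ∈ 𝒩(J)
  ct : k * t * k⁻¹ = t
  ca : k * φ (1, 0, 0) * k⁻¹ = φ (1, 0, 0)
  cs : k * (p * t * p⁻¹) * k⁻¹ = p * t * p⁻¹ ∨ k * (p * t * p⁻¹) * k⁻¹ = p⁻¹ * t * p

theorem red {n : X} (hn : n ∈ 𝒩(J)) : ∃ b ∈ J ⊔ closure {t, p}, W φ t p J (b * n) := by
  have tB : t ∈ J ⊔ closure {t, p} := mem_sup_right (subset_closure (by simp))
  have pB : p ∈ J ⊔ closure {t, p} := mem_sup_right (subset_closure (by simp))
  have BN : J ⊔ closure {t, p} ≤ 𝒩(J) := sup_le le_normalizer ((closure_le _).2 (by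
    rintro _ (rfl | rfl)
    exacts [VJ h (tV h), pJ h]))
  have step : ∀ (P Q : X → Prop), (∀ n ∈ 𝒩(J), P n → ∃ b ∈ J ⊔ closure {t, p}, Q (b * n)) →
      (∃ b ∈ J ⊔ closure {t, p}, P (b * n)) → ∃ b ∈ J ⊔ closure {t, p}, Q (b * n) := by
    rintro P Q H ⟨b, hb, q⟩
    obtain ⟨b', hb', q'⟩ := H _ (mul_mem (BN hb) hn) q
    exact ⟨b' * b, mul_mem hb' hb, by rwa [mul_assoc]⟩
  have s1 : ∃ b ∈ J ⊔ closure {t, p}, b * n * t * (b * n)⁻¹ * t⁻¹ ∈ J := by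
    obtain ⟨j, hj, f, hf, f1, q⟩ := conjV h h1 hn (tV h) (t1 h)
    obtain ⟨b, hb, q'⟩ : ∃ b ∈ J ⊔ closure {t, p}, b * f * b⁻¹ = t := by
      rcases hf with rfl | rfl | rfl | rfl
      · exact absurd rfl f1
      · exact ⟨1, one_mem _, by group⟩
      · exact ⟨p⁻¹, inv_mem pB, by group⟩
      · exact ⟨p, pB, by group⟩
    refine ⟨b, hb, ?_⟩
    convert conj_mem_of_norm le_rfl (BN hb) hj using 1
    calc _ = b * (n * t * n⁻¹) * b⁻¹ * t⁻¹ := by group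
      _ = _ := by rw [q, ← q']; group
  have s2 := step (fun n => n * t * n⁻¹ * t⁻¹ ∈ J) (fun n => n * t * n⁻¹ = t) (fun n _ q => by
    obtain ⟨j, hj, e⟩ := exists_cent_lift h.tt
      (odd_orderOf_of_pow (k := 1) ((pow_one 3).symm ▸ Jcube h q))
    exact ⟨j, mem_sup_left (zpowers_le.2 q hj), mul_inv_eq_iff_eq_mul.2 (mem_cent1.1 e)⟩) s1
  have s3 := step (fun n => n * t * n⁻¹ = t) (fun n => n * t * n⁻¹ = t ∧ (n * (p * t * p⁻¹) * n⁻¹ = p * t * p⁻¹ ∨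
      n * (p * t * p⁻¹) * n⁻¹ = p⁻¹ * t * p)) (fun n hn q => by
    obtain ⟨j, hj, f, hf, f1, e⟩ := conjV h h1 hn (sV h) (by simpa using t1 h)
    have c : t * (j * f) = j * f * t := by
      have := conj_mul (a := t) (b := n) (c := p * t * p⁻¹)
      rwa [Vcomm h (tV h) (sV h), ← conj_mul (a := p * t * p⁻¹), q, e] at this
    rw [mul_assoc, ← Vcomm h (tV h) hf, ← mul_assoc, ← mul_assoc, mul_left_inj] at c
    have ee : j * f * (j * f) = 1 := by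
      rw [← e]
      calc _ = n * (p * t * p⁻¹ * (p * t * p⁻¹)) * n⁻¹ := by group
        _ = 1 := by rw [t2 h]; group
    have e' : j * n * (p * t * p⁻¹) * (j * n)⁻¹ = f := by
      calc _ = j * (n * (p * t * p⁻¹) * n⁻¹) * j⁻¹ := by group
        _ = j * (j * f)⁻¹ * j⁻¹ := by rw [e, inv_eq_of_mul_eq_one_right ee]
        _ = j * f⁻¹ * (j ^ 3)⁻¹ * j := by simp only [pow_succ, pow_zero]; group
        _ = j * f * (j * f) * f⁻¹ := by
          rw [Jcube h hj, inv_eq_of_mul_eq_one_right (Vsq h hf), mul_assoc _ _ f, mul_assoc j f f,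
            Vsq h hf]; group
        _ = f := by rw [ee, one_mul, inv_eq_of_mul_eq_one_right (Vsq h hf)]
    have q' : j * n * t * (j * n)⁻¹ = t := by
      calc _ = j * (n * t * n⁻¹) * j⁻¹ := by group
        _ = t := by rw [q, ← c, mul_inv_cancel_right]
    refine ⟨j, mem_sup_left hj, q', ?_⟩
    rw [e']
    rcases hf with rfl | rfl | rfl | rfl
    · exact absurd rfl f1
    · have := e'.trans q'.symm
      simp only [mul_left_inj, mul_right_inj] at this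
      have := this ▸ t2φ h (1, 0, 0)
      exact absurd (finj h (this.symm.trans (h.tφ _))) (by decide)
    · exact Or.inl rfl
    · exact Or.inr rfl) s2
  refine step (fun n => n * t * n⁻¹ = t ∧ (n * (p * t * p⁻¹) * n⁻¹ = p * t * p⁻¹ ∨
      n * (p * t * p⁻¹) * n⁻¹ = p⁻¹ * t * p)) (W φ t p J) (fun n hn ⟨q1, q2⟩ => ?_) s3
  have hj := conj_mem_of_norm le_rfl hn (φmem h (1, 0, 0))
  have hf : n * (p * t * p⁻¹) * n⁻¹ ∈ V h := by rcases q2 with q | q <;> rw [q]; exacts [sV h, rV h]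
  obtain ⟨v, hv⟩ := inv_J1 h hj hf (by
    calc _ = n * (p * t * p⁻¹ * φ (1, 0, 0) * (p * t * p⁻¹)⁻¹) * n⁻¹ := by group
      _ = _ := by rw [t2φ h, show ((-1, 0, -0) : V3) = -(1, 0, 0) by decide, neg h]; group)
  have e1 : v = (v.1, -v.2.1, -v.2.2) := finj h (by
    have := cj3 n t (φ (1, 0, 0))
    rw [q1, hv, h.tφ, h.tφ] at this
    exact hv.symm.trans this.symm)
  have e2 : v ≠ 0 := by
    rintro rfl
    rw [z h, conj_eq_one_iff, ← z h] at hv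
    exact absurd (finj h hv) (by decide)
  have e3 : ∀ v : V3, v = (v.1, -v.2.1, -v.2.2) → v ≠ 0 → v = (1, 0, 0) ∨ v = (-1, 0, 0) := by decide
  rcases e3 v e1 e2 with rfl | rfl
  · exact ⟨1, one_mem _, by rw [one_mul]; exact ⟨hn, q1, hv, q2⟩⟩
  · have k : ∀ x, p * t * p⁻¹ * n * x * (p * t * p⁻¹ * n)⁻¹ =
        p * t * p⁻¹ * (n * x * n⁻¹) * (p * t * p⁻¹)⁻¹ := fun x => by group
    refine ⟨_, mul_mem (mul_mem pB tB) (inv_mem pB), mul_mem (VJ h (sV h)) hn, ?_, ?_, ?_⟩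
    · rw [k, q1, Vcomm h (sV h) (tV h), mul_inv_cancel_right]
    · rw [k, hv, t2φ h]; rfl
    · rwa [k, Vcomm h (sV h) hf, mul_inv_cancel_right]

omit h h1 [Finite X] in
theorem W.mul {k l : X} (hk : W φ t p J k) (hl : W φ t p J l)
    (q : k * l * (p * t * p⁻¹) * (k * l)⁻¹ = p * t * p⁻¹ ∨
      k * l * (p * t * p⁻¹) * (k * l)⁻¹ = p⁻¹ * t * p) : W φ t p J (k * l) := by
  have e : ∀ x, k * l * x * (k * l)⁻¹ = k * (l * x * l⁻¹) * k⁻¹ := fun x => by group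
  exact ⟨mul_mem hk.n hl.n, by rw [e, hl.ct, hk.ct], by rw [e, hl.ca, hk.ca], q⟩

omit h1 [Finite X] in
/-- the image of a vector inverted by `t` -/
theorem W.im {k : X} (hk : W φ t p J k) {v : V3} (v0 : v ≠ 0) (v1 : (v.1, -v.2.1, -v.2.2) = -v)
    {e f : X} (q : k * e * k⁻¹ = f) (he : e * φ v * e⁻¹ = φ v) :
    ∃ w, w ≠ 0 ∧ (w.1, -w.2.1, -w.2.2) = -w ∧ f * φ w * f⁻¹ = φ w ∧ k * φ v * k⁻¹ = φ w := by
  have e1 : t * (k * φ v * k⁻¹) * t⁻¹ = (k * φ v * k⁻¹)⁻¹ := by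
    have := cj3 k t (φ v)
    rwa [hk.ct, h.tφ, v1, neg h, ← conj_inv] at this
  obtain ⟨w, hw⟩ := inv_J1 h (conj_mem_of_norm le_rfl hk.n (φmem h v)) (tV h) e1
  refine ⟨w, ?_, finj h (by rw [← h.tφ, neg h, ← hw, e1]), ?_, hw⟩
  · rintro rfl
    rw [z h, conj_eq_one_iff, ← z h] at hw
    exact v0 (finj h hw)
  · rw [← hw, ← q, cj3, he]

omit h1 [Finite X] in
theorem W.r {k f : X} (hk : W φ t p J k) (q : k * (p * t * p⁻¹) * k⁻¹ = f) :
    k * (p⁻¹ * t * p) * k⁻¹ = t * f := by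
  rw [← h.v4, ← conj_mul, q, hk.ct]

omit h h1 [Finite X] in
theorem d2 : ∀ w : V3, w ≠ 0 → (w.1, -w.2.1, -w.2.2) = -w → (-w.1, w.2.1, -w.2.2) = w →
    w = (0, 1, 0) ∨ w = -(0, 1, 0) := by decide

omit h h1 [Finite X] in
theorem d3 : ∀ w : V3, w ≠ 0 → (w.1, -w.2.1, -w.2.2) = -w → (-w.1, -w.2.1, w.2.2) = w →
    w = (0, 0, 1) ∨ w = -(0, 0, 1) := by decide

variable (h2 : ∀ v ∈ 𝒞[t], v * v = 1 → v ∈ 𝒞[φ (1, 0, 0)] → v = 1 ∨ v = t)
include h2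

omit h1 [Finite X] in
theorem W.cube {k : X} (hk : W φ t p J k) (q : k * k ∈ J) : k ^ 3 = 1 ∨ k ^ 3 = t :=
  h2 _ (pow_mem (mem_cent1.2 (mul_inv_eq_iff_eq_mul.1 hk.ct)) 3)
    (by rw [← Jcube h q]; simp only [pow_succ, pow_zero]; group)
    (pow_mem (mem_cent1.2 (mul_inv_eq_iff_eq_mul.1 hk.ca)) 3)

theorem W.cent {k : X} (hk : W φ t p J k) (q : k * (p * t * p⁻¹) * k⁻¹ = p * t * p⁻¹) :
    k ∈ J ∨ t * k ∈ J := by
  have sq : ∀ v, (k * φ v * k⁻¹ = φ v ∨ k * φ v * k⁻¹ = φ (-v)) →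
      k * k * φ v * (k * k)⁻¹ = φ v := fun v hv => by
    have e : k * k * φ v * (k * k)⁻¹ = k * (k * φ v * k⁻¹) * k⁻¹ := by group
    rcases hv with f | f
    · rw [e, f, f]
    · rw [e, f, neg h, ← conj_inv, f, neg h, inv_inv]
  obtain ⟨w₂, a₂, b₂, c₂, e₂⟩ := hk.im h (v := (0, 1, 0)) (by decide) (by decide) q (t2φ h _)
  obtain ⟨w₃, a₃, b₃, c₃, e₃⟩ := hk.im h (v := (0, 0, 1)) (by decide) (by decide)
    ((hk.r h q).trans h.v4) (t3φ h _)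
  have hJ : k * k ∈ J := mem_J h (sq _ (Or.inl hk.ca))
    (sq _ ((d2 w₂ a₂ b₂ (finj h ((t2φ h _).symm.trans c₂))).imp (e₂.trans <| congrArg φ ·)
      (e₂.trans <| congrArg φ ·)))
    (sq _ ((d3 w₃ a₃ b₃ (finj h ((t3φ h _).symm.trans c₃))).imp (e₃.trans <| congrArg φ ·)
      (e₃.trans <| congrArg φ ·)))
  have e : k = k ^ 3 * (k * k)⁻¹ := by simp only [pow_succ, pow_zero]; group
  rcases hk.cube h h2 hJ with f | f <;> rw [f] at e
  · left; rw [e, one_mul]; exact inv_mem hJ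
  · right; rw [e, ← mul_assoc, h.tt, one_mul]; exact inv_mem hJ

theorem final (h3 : ∀ g u : X, u = g * φ (1, 1, 1) * g⁻¹ → u ∈ 𝒩(J) → ∀ j ∈ J,
    j * (u * j * u⁻¹) * (u * u * j * (u * u)⁻¹) = 1) : 𝒩(J) = ⊤ := by
  have tB : t ∈ J ⊔ closure {t, p} := mem_sup_right (subset_closure (by simp))
  have cB : ∀ k, W φ t p J k → k * (p * t * p⁻¹) * k⁻¹ = p * t * p⁻¹ → k ∈ J ⊔ closure {t, p} :=
    fun k hk q => (hk.cent h h1 h2 q).elim mem_sup_left fun f =>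
      (mul_mem_cancel_left tB).1 (mem_sup_left f)
  by_cases hA : ∀ k, W φ t p J k → k * (p * t * p⁻¹) * k⁻¹ = p * t * p⁻¹
  · refine h.caseA fun n hn => ?_
    obtain ⟨b, hb, q⟩ := red h h1 hn
    exact (mul_mem_cancel_left hb).1 (cB _ q (hA _ q))
  push Not at hA
  obtain ⟨k, hk, q⟩ := hA
  replace q := hk.cs.resolve_left q
  have ts : t * (p⁻¹ * t * p) = p * t * p⁻¹ := by rw [← h.v4, ← mul_assoc, h.tt, one_mul]
  have sw : ∀ k l, W φ t p J k → k * (p * t * p⁻¹) * k⁻¹ = p⁻¹ * t * p →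
      l * (p * t * p⁻¹) * l⁻¹ = p⁻¹ * t * p →
      k * l * (p * t * p⁻¹) * (k * l)⁻¹ = p * t * p⁻¹ := fun k l hk q q' => by
    calc _ = k * (l * (p * t * p⁻¹) * l⁻¹) * k⁻¹ := by group
      _ = _ := by rw [q', hk.r h q, ts]
  have q2 := sw k k hk q q
  have hk2 := hk.mul hk (Or.inl q2)
  have q3 : k * (k * k) * (p * t * p⁻¹) * (k * (k * k))⁻¹ = p⁻¹ * t * p := by
    calc _ = k * (k * k * (p * t * p⁻¹) * (k * k)⁻¹) * k⁻¹ := by group
      _ = _ := by rw [q2, q]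
  have hk3 := hk.mul hk2 (Or.inr q3)
  have cc : k * (k * k) * (k * (k * k)) = t := by
    rcases hk2.cent h h1 h2 q2 with f | f
    · have e : k * (k * k) * (p * t * p⁻¹) * (k * (k * k))⁻¹ = p * t * p⁻¹ := by
        rw [← mul_assoc k, ← pow_two, ← pow_succ]
        rcases hk.cube h h2 f with f | f <;> rw [f]
        · group
        · rw [Vcomm h (tV h) (sV h), mul_inv_cancel_right]
      rw [q3, ← h.v4, mul_eq_right] at e
      exact absurd e (t1 h)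
    · have := Jcube h f
      rw [Commute.mul_pow (mul_inv_eq_iff_eq_mul.1 hk2.ct).symm, pow_succ t, pow_two, h.tt,
        one_mul] at this
      rw [← inv_eq_of_mul_eq_one_right h.tt, inv_eq_of_mul_eq_one_right this]
      simp only [pow_succ, pow_zero]; group
  obtain ⟨c, hc, cc, qc, e₂⟩ : ∃ c, W φ t p J c ∧ c * c = t ∧
      c * (p * t * p⁻¹) * c⁻¹ = p⁻¹ * t * p ∧ c * φ (0, 1, 0) * c⁻¹ = φ (0, 0, 1) := by
    generalize k * (k * k) = c at q3 hk3 cc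
    obtain ⟨w, a, b, d, e⟩ := hk3.im h (v := (0, 1, 0)) (by decide) (by decide) q3 (t2φ h _)
    rcases d3 w a b (finj h ((t3φ h _).symm.trans d)) with rfl | rfl
    · exact ⟨c, hk3, cc, q3, e⟩
    · have ht : W φ t p J t := ⟨VJ h (tV h), by group, h.tφ _,
        Or.inl (by rw [Vcomm h (tV h) (sV h), mul_inv_cancel_right])⟩
      have k : ∀ x, t * c * x * (t * c)⁻¹ = t * (c * x * c⁻¹) * t⁻¹ := fun x => by group
      have q' : t * c * (p * t * p⁻¹) * (t * c)⁻¹ = p⁻¹ * t * p := by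
        rw [k, q3, Vcomm h (tV h) (rV h), mul_inv_cancel_right]
      refine ⟨t * c, ht.mul hk3 (Or.inr q'), ?_, q', by rw [k, e, h.tφ]; rfl⟩
      rw [mul_assoc, ← mul_assoc c, mul_inv_eq_iff_eq_mul.1 hk3.ct, mul_assoc, cc, h.tt, mul_one]
  have e₃ : c * φ (0, 0, 1) * c⁻¹ = φ (0, -1, 0) := by
    rw [← e₂]
    calc _ = c * c * φ (0, 1, 0) * (c * c)⁻¹ := by group
      _ = _ := by rw [cc, h.tφ]; rfl
  have le : J ⊔ closure {t, p} ≤ J ⊔ closure {t, p, c} :=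
    sup_le_sup_left (Subgroup.closure_mono (by rintro _ (rfl | rfl) <;> simp)) _
  refine h.caseB cc (act h (fun v => (v.1, -v.2.2, v.2.1)) (by decide) (by decide) hc.ca e₂ e₃) qc
    (fun n hn => ?_) fun g hg => ?_
  · obtain ⟨b, hb, q⟩ := red h h1 hn
    refine (mul_mem_cancel_left (le hb)).1 (q.cs.elim (fun f => le (cB _ q f)) fun f => ?_)
    have := sw _ _ hc qc f
    exact (mul_mem_cancel_left (mem_sup_right (subset_closure (by simp)))).1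
      (le (cB _ (hc.mul q (Or.inl this)) this))
  · have u3 : (g * φ (1, 1, 1) * g⁻¹) ^ 3 = 1 := by rw [conj_pow, cube h]; group
    have := h3 g _ rfl hg _ (φmem h (1, 0, 0))
    generalize g * φ (1, 1, 1) * g⁻¹ = u at *
    rcases nf' h (h1 u hg u3) with ⟨j, hj, e, he, rfl⟩ | ⟨v, w, v1, w1, q1, q2⟩
    · have e2 : j * e * (j * e) ∈ J := by
        convert mul_mem hj (conj_mem_of_norm (VJ h) he hj) using 1
        rw [inv_eq_of_mul_eq_one_right (Vsq h he)]; group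
      rw [pow_succ, pow_two] at u3
      rw [eq_inv_of_mul_eq_one_right u3]; exact inv_mem e2
    · rw [show u * u * φ (1, 0, 0) * (u * u)⁻¹ = u * (u * φ (1, 0, 0) * u⁻¹) * u⁻¹ by group, q1, q2,
        ← h.add, ← h.add, ← z h] at this
      have := congrArg Prod.fst (finj h this)
      rw [Prod.fst_add, Prod.fst_add, v1, w1] at this
      exact absurd this (by decide)

end YCx

/-- reduction to `YD.caseA`, `YD.caseB` inside `X = C(y)`; proof in notes/MC3.md (YC) -/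
theorem yfinal {G : Type*} [Group G] [Finite G] {y : G} {φ : ZMod 3 × ZMod 3 × ZMod 3 → G}
    {t p : G} {J : Subgroup G} (y3 : orderOf y = 3) (ty : t ∈ 𝒞[y]) (py : p ∈ 𝒞[y])
    (φy : ∀ v, φ v ∈ 𝒞[y]) (add : ∀ u v, φ (u + v) = φ u * φ v)
    (inj : ∀ v, φ v ∈ zpowers y → v = 0)
    (memJ : ∀ j, j ∈ J ↔ ∃ a ∈ zpowers y, ∃ v, j = a * φ v) (tt : t * t = 1) (p3 : p ^ 3 = 1)
    (tφ : ∀ v, t * φ v * t⁻¹ = φ (v.1, -v.2.1, -v.2.2))
    (pφ : ∀ v, p * φ v * p⁻¹ = φ (v.2.2, v.1, v.2.1)) (v4 : t * (p * t * p⁻¹) = p⁻¹ * t * p)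
    (CJ : 𝒞(J) ≤ J)
    (wc : ∀ T : Subgroup G, IsPGroup 3 T → J ≤ T → ∀ g, cj g J ≤ T → g ∈ 𝒩(J))
    (c1 : 𝒞[y] ⊓ 𝒞[φ (1, 0, 0)] ≤ 𝒩(J)) (c3 : 𝒞[y] ⊓ 𝒞[φ (1, 1, 1)] ≤ 𝒩(J))
    (h1 : ∀ n ∈ 𝒩(J), n ∈ 𝒞[y] → n ^ 3 = 1 → n ∈ J ⊔ closure {t, p})
    (h2 : ∀ v ∈ 𝒞[t], v * v = 1 → v ∈ 𝒞[y] → v ∈ 𝒞[φ (1, 0, 0)] → v = 1 ∨ v = t)
    (h3 : ∀ g ∈ 𝒞[y], ∀ u : G, u = g * φ (1, 1, 1) * g⁻¹ → u ∈ 𝒩(J) → ∀ j ∈ J,
      j * (u * j * u⁻¹) * (u * u * j * (u * u)⁻¹) = 1) :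
    𝒞[y] ≤ 𝒩(J) := by
  set X := 𝒞[y] with hX
  have hy : zpowers y ≤ X := zpowers_le.2 (self_mem_cent1 y)
  have hJ : J ≤ X := fun j hj => by
    obtain ⟨a, ha, v, rfl⟩ := (memJ j).1 hj
    exact mul_mem (hy ha) (φy v)
  let y' : X := ⟨y, self_mem_cent1 y⟩
  have zp : ∀ a : X, a ∈ zpowers y' ↔ (a : G) ∈ zpowers y := fun a =>
    ⟨fun ⟨n, e⟩ => ⟨n, congrArg Subtype.val e⟩, fun ⟨n, e⟩ => ⟨n, Subtype.ext e⟩⟩
  have nm : ∀ g : X, g ∈ 𝒩(J.subgroupOf X) ↔ (g : G) ∈ 𝒩(J) := fun g => by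
    rw [← subgroupOf_normalizer_eq hJ, mem_subgroupOf]
  have ce : ∀ g x : X, g ∈ 𝒞[x] ↔ (g : G) ∈ 𝒞[(x : G)] := fun g x => by
    rw [mem_cent1, mem_cent1, Subtype.ext_iff]; rfl
  have h : YD y' (fun v => ⟨φ v, φy v⟩) ⟨t, ty⟩ ⟨p, py⟩ (J.subgroupOf X) :=
    { y3 := (orderOf_coe y').symm.trans y3
      yc := fun g => Subtype.ext (mem_cent1.1 g.2)
      add := fun u v => Subtype.ext (add u v)
      inj := fun v hv => inj v ((zp _).1 hv)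
      memJ := fun j => (memJ j).trans ⟨fun ⟨a, ha, v, e⟩ =>
        ⟨⟨a, hy ha⟩, (zp _).2 ha, v, Subtype.ext e⟩, fun ⟨a, ha, v, e⟩ =>
        ⟨a, (zp _).1 ha, v, congrArg Subtype.val e⟩⟩
      tt := Subtype.ext tt
      p3 := Subtype.ext p3
      tφ := fun v => Subtype.ext (tφ v)
      pφ := fun v => Subtype.ext (pφ v)
      v4 := Subtype.ext v4
      CJ := fun g hg => CJ fun j hj => congrArg Subtype.val (hg ⟨j, hJ hj⟩ hj)
      wc := fun T hT hle g hg => (nm g).2 (wc (T.map X.subtype) (hT.map _)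
        (fun j hj => ⟨⟨j, hJ hj⟩, hle hj, rfl⟩) g fun x hx => by
          obtain ⟨j, hj, rfl⟩ := mem_cj'.1 hx
          exact ⟨g * ⟨j, hJ hj⟩ * g⁻¹, hg (conj_mem_cj.2 hj), rfl⟩)
      c1 := fun g hg => (nm g).2 (c1 ⟨g.2, (ce _ _).1 hg⟩)
      c3 := fun g hg => (nm g).2 (c3 ⟨g.2, (ce _ _).1 hg⟩) }
  have main := YCx.final h (fun n hn q => by
      have : J ⊔ closure {t, p} ≤
          (J.subgroupOf X ⊔ closure {(⟨t, ty⟩ : X), ⟨p, py⟩}).map X.subtype :=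
        sup_le (fun j hj => ⟨⟨j, hJ hj⟩, mem_sup_left hj, rfl⟩) ((closure_le _).2 (by
          rintro _ (rfl | rfl)
          · exact ⟨_, mem_sup_right (subset_closure (Or.inl rfl)), rfl⟩
          · exact ⟨_, mem_sup_right (subset_closure (Or.inr rfl)), rfl⟩))
      obtain ⟨m, hm, e⟩ := this (h1 n ((nm n).1 hn) n.2 (congrArg Subtype.val q))
      exact (Subtype.ext e : m = n) ▸ hm)
    (fun v hv q hv' => (h2 v ((ce _ _).1 hv) (congrArg Subtype.val q) v.2 ((ce _ _).1 hv')).imp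
      Subtype.ext Subtype.ext)
    fun g u e hu j hj => Subtype.ext (h3 g g.2 u (congrArg Subtype.val e) ((nm u).1 hu) j hj)
  exact fun g hg => (nm ⟨g, hg⟩).1 (main.ge (mem_top _))

end Cfsg.Agent.MC3
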