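import Cfsg.Agent.MC3.YDefs
import Cfsg.Agent.S3701
import Cfsg.Agent.S4215
import Cfsg.Agent.H46.Generation
import Cfsg.Agent.H76.Ord3
import Cfsg.Agent.H3.PResidual

set_option autoImplicit false

namespace Cfsg.Agent.MC3

open Subgroup H49 H76

namespace YAx

variable {X : Type*} [Group X]

/-- the four-group on three involutions -/
def V4 {a b c : X} (aa : a * a = 1) (bb : b * b = 1) (cc : c * c = 1) (ab : a * b = c) :
    Subgroup X where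
  carrier := {e | e = 1 ∨ e = a ∨ e = b ∨ e = c}
  one_mem' := Or.inl rfl
  mul_mem' := by
    have ba : b * a = c := by
      calc b * a = (a * a) * (b * a) * (b * b) := by simp [aa, bb]
        _ = a * ((a * b) * (a * b)) * b := by simp [mul_assoc]
        _ = c := by rw [ab, cc, mul_one, ab]
    have ac : a * c = b := by rw [← ab, ← mul_assoc, aa, one_mul]
    have ca : c * a = b := by rw [← ba, mul_assoc, aa, mul_one]
    have bc : b * c = a := by rw [← ba, ← mul_assoc, bb, one_mul]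
    have cb : c * b = a := by rw [← ab, mul_assoc, bb, mul_one]
    rintro u v (rfl | rfl | rfl | rfl) (rfl | rfl | rfl | rfl) <;> simp [*]
  inv_mem' := by
    rintro u (rfl | rfl | rfl | rfl)
    · simp
    · simp [inv_eq_of_mul_eq_one_right aa]
    · simp [inv_eq_of_mul_eq_one_right bb]
    · simp [inv_eq_of_mul_eq_one_right cc]

/-- vectors of weight three and the basis vectors -/
def W13 (v : V3) : Prop :=
  v = (1, 0, 0) ∨ v = (0, 1, 0) ∨ v = (0, 0, 1) ∨ (v.1 ≠ 0 ∧ v.2.1 ≠ 0 ∧ v.2.2 ≠ 0)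

instance : DecidablePred W13 := fun v => by unfold W13; infer_instance

theorem hyper (W : AddSubgroup V3) (a : V3) (h : ∀ w, ∃ n : ℤ, w - n • a ∈ W) :
    ∃ v ∈ W, W13 v := by
  have h' : ∀ w, ∃ k : ZMod 3, w - k • a ∈ W := fun w => by
    obtain ⟨n, hn⟩ := h w
    exact ⟨n, by rwa [Int.cast_smul_eq_zsmul]⟩
  have sm : ∀ k : ZMod 3, ∀ w ∈ W, k • w ∈ W := fun k w hw => by
    rw [← ZMod.natCast_zmod_val k, Nat.cast_smul_eq_nsmul]
    exact W.nsmul_mem hw _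
  obtain ⟨k₁, h₁⟩ := h' (1, 0, 0)
  obtain ⟨k₂, h₂⟩ := h' (0, 1, 0)
  obtain ⟨k₃, h₃⟩ := h' (0, 0, 1)
  by_cases c₁ : k₁ = 0
  · exact ⟨_, h₁, by simp [c₁, W13]⟩
  by_cases c₂ : k₂ = 0
  · exact ⟨_, h₂, by simp [c₂, W13]⟩
  by_cases c₃ : k₃ = 0
  · exact ⟨_, h₃, by simp [c₃, W13]⟩
  have key : ∀ (k₁ k₂ k₃ : ZMod 3) (a : V3), k₁ ≠ 0 → k₂ ≠ 0 → k₃ ≠ 0 →
      W13 (k₁ • ((1, 0, 0) - k₁ • a) + k₂ • ((0, 1, 0) - k₂ • a) + k₃ • ((0, 0, 1) - k₃ • a)) := by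
    decide +kernel
  exact ⟨_, W.add_mem (W.add_mem (sm _ _ h₁) (sm _ _ h₂)) (sm _ _ h₃), key _ _ _ a c₁ c₂ c₃⟩

/-- the monomial maps -/
def mp (i j k l : ℕ) (w : V3) : V3 :=
  (fun v : V3 => -v)^[i] ((fun v : V3 => (v.2.2, v.1, v.2.1))^[j]
    ((fun v : V3 => (v.1, -v.2.1, -v.2.2))^[k] ((fun v : V3 => (v.2.2, v.1, v.2.1))^[l] w)))

theorem orb13 : ∀ v : V3, W13 v → ∃ (i : Fin 2) (j : Fin 3) (k : Fin 2),
    v = mp i j k 0 (1, 0, 0) ∨ v = mp i j k 0 (1, 1, 1) := by decide +kernel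

theorem orb : ∀ v : V3, v ≠ 0 → ∃ (i : Fin 2) (j : Fin 3) (k : Fin 2) (l : Fin 2),
    v = mp i j k l (1, 0, 0) ∨ v = mp i j k l (1, 1, 1) ∨ v = mp i j k l (0, 1, 1) := by
  decide +kernel

theorem basis : ∀ v : V3,
    v = v.1.val • (1, 0, 0) + v.2.1.val • (0, 1, 0) + v.2.2.val • (0, 0, 1) := by decide

variable {y : X} {φ : V3 → X} {t p : X} {J : Subgroup X} (h : YD y φ t p J)
include h

theorem z : φ 0 = 1 := by simpa using h.add 0 0

theorem neg (v : V3) : φ (-v) = (φ v)⁻¹ := by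
  rw [eq_inv_iff_mul_eq_one, ← h.add, neg_add_cancel, z h]

theorem cm (u v : V3) : φ u * φ v = φ v * φ u := by rw [← h.add, add_comm, h.add]

theorem cm' (u v : V3) : φ u * φ v * (φ u)⁻¹ = φ v := by rw [cm h, mul_inv_cancel_right]

theorem finj : Function.Injective φ := fun u v e => by
  refine sub_eq_zero.1 (h.inj _ ?_)
  rw [sub_eq_add_neg, h.add, neg h, e, mul_inv_cancel]
  exact one_mem _

theorem cube (v : V3) : φ v ^ 3 = 1 := by
  have : v + v + v = 0 := by revert v; decide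
  rw [pow_succ, pow_two, ← h.add, ← h.add, this, z h]

theorem yc {a : X} (ha : a ∈ zpowers y) (g : X) : a * g = g * a := by
  obtain ⟨n, rfl⟩ := ha
  exact ((h.yc g).zpow_right n).symm

theorem yc' {a : X} (ha : a ∈ zpowers y) (g : X) : g * a * g⁻¹ = a := by
  rw [← yc h ha, mul_inv_cancel_right]

theorem ycube {a : X} (ha : a ∈ zpowers y) : a ^ 3 = 1 := by
  obtain ⟨n, rfl⟩ := ha
  show (y ^ n) ^ 3 = 1
  rw [← zpow_natCast, ← zpow_mul, mul_comm, zpow_mul, zpow_natCast, ← h.y3, pow_orderOf_eq_one,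
    one_zpow]

/-- the image of `φ` -/
def J1 : Subgroup X where
  carrier := Set.range φ
  one_mem' := ⟨0, z h⟩
  mul_mem' := by rintro _ _ ⟨u, rfl⟩ ⟨v, rfl⟩; exact ⟨u + v, h.add u v⟩
  inv_mem' := by rintro _ ⟨u, rfl⟩; exact ⟨-u, neg h u⟩

theorem φmem (v : V3) : φ v ∈ J := (h.memJ _).2 ⟨1, one_mem _, v, (one_mul _).symm⟩

theorem J1_le : J1 h ≤ J := by rintro _ ⟨v, rfl⟩; exact φmem h v

theorem Jab : J ≤ 𝒞(J) := by
  intro a ha b hb
  obtain ⟨a, ha', u, rfl⟩ := (h.memJ _).1 ha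
  obtain ⟨b, hb', v, rfl⟩ := (h.memJ _).1 hb
  exact (Commute.mul_left (yc h hb' _) (Commute.mul_right (yc h ha' _).symm (cm h v u))).eq

theorem J3 : IsPGroup 3 J := fun g => ⟨1, Subtype.ext (by
  obtain ⟨a, ha, u, e⟩ := (h.memJ _).1 g.2
  rw [pow_one, SubgroupClass.coe_pow, e, Commute.mul_pow (yc h ha _), ycube h ha, cube h]
  simp)⟩

theorem pφ' (v : V3) : p⁻¹ * φ v * p = φ (v.2.1, v.2.2, v.1) := by
  have := h.pφ (v.2.1, v.2.2, v.1)
  rw [← this]; group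

theorem t2φ (v : V3) : p * t * p⁻¹ * φ v * (p * t * p⁻¹)⁻¹ = φ (-v.1, v.2.1, -v.2.2) := by
  calc _ = p * (t * (p⁻¹ * φ v * p) * t⁻¹) * p⁻¹ := by group
    _ = _ := by rw [pφ' h, h.tφ, h.pφ]

theorem t3φ (v : V3) : p⁻¹ * t * p * φ v * (p⁻¹ * t * p)⁻¹ = φ (-v.1, -v.2.1, v.2.2) := by
  calc _ = p⁻¹ * (t * (p * φ v * p⁻¹) * t⁻¹) * p := by group
    _ = _ := by rw [h.pφ, h.tφ, pφ' h]

theorem t2 : p * t * p⁻¹ * (p * t * p⁻¹) = 1 := by
  calc _ = p * (t * t) * p⁻¹ := by group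
    _ = 1 := by rw [h.tt]; group

theorem t3 : p⁻¹ * t * p * (p⁻¹ * t * p) = 1 := by
  calc _ = p⁻¹ * (t * t) * p := by group
    _ = 1 := by rw [h.tt]; group

theorem op : orderOf p = 3 := by
  refine orderOf_eq_prime (hp := ⟨Nat.prime_three⟩) h.p3 fun e => ?_
  have := h.pφ (1, 0, 0)
  rw [e, one_mul, inv_one, mul_one] at this
  exact absurd (finj h this) (by decide)

/-- the four-group -/
def V : Subgroup X := V4 h.tt (t2 h) (t3 h) h.v4

theorem memV {e : X} : e ∈ V h ↔ e = 1 ∨ e = t ∨ e = p * t * p⁻¹ ∨ e = p⁻¹ * t * p := Iff.rfl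

variable [Finite X]

theorem normJ1 {g : X} (hg : ∀ v, ∃ w, g * φ v * g⁻¹ = φ w) : g ∈ 𝒩(J1 h) :=
  mem_norm_of_cj_le fun x hx => by
    obtain ⟨_, ⟨v, rfl⟩, rfl⟩ := mem_cj'.1 hx
    obtain ⟨w, e⟩ := hg v
    exact ⟨w, e.symm⟩

theorem normJ : 𝒩(J1 h) ≤ 𝒩(J) := fun g hg => mem_norm_of_cj_le fun x hx => by
  obtain ⟨j, hj, rfl⟩ := mem_cj'.1 hx
  obtain ⟨a, ha, v, rfl⟩ := (h.memJ _).1 hj
  obtain ⟨w, e⟩ := conj_mem_of_norm le_rfl hg (⟨v, rfl⟩ : φ v ∈ J1 h)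
  refine (h.memJ _).2 ⟨a, ha, w, ?_⟩
  rw [e, ← mul_assoc, ← mul_assoc, ← mul_assoc, yc h ha]

theorem VJ1 : V h ≤ 𝒩(J1 h) := by
  rintro _ (rfl | rfl | rfl | rfl)
  · exact one_mem _
  · exact normJ1 h fun v => ⟨_, h.tφ v⟩
  · exact normJ1 h fun v => ⟨_, t2φ h v⟩
  · exact normJ1 h fun v => ⟨_, t3φ h v⟩

theorem pJ1 : p ∈ 𝒩(J1 h) := normJ1 h fun v => ⟨_, h.pφ v⟩

theorem pV : p ∈ 𝒩(V h) := mem_norm_of_cj_le fun x hx => by
  obtain ⟨e, he, rfl⟩ := mem_cj'.1 hx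
  rw [memV] at he ⊢
  rcases he with rfl | rfl | rfl | rfl
  · simp
  · simp
  · right; right; right
    calc _ = (p * p) * t * (p * p)⁻¹ := by group
      _ = _ := by rw [mul_self_of_three (op h), inv_inv]
  · right; left; group

theorem good {w : V3} (hw : 𝒞[φ w] ≤ 𝒩(J)) (i j k l : ℕ) : 𝒞[φ (mp i j k l w)] ≤ 𝒩(J) := by
  have key : ∀ g ∈ 𝒩(J), ∀ x : X, 𝒞[x] ≤ 𝒩(J) → 𝒞[g * x * g⁻¹] ≤ 𝒩(J) := fun g hg x hx => by
    rw [← cj_cent1]; exact cj_le_of_mem hx hg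
  have it : ∀ (f : V3 → V3), (∀ v, 𝒞[φ v] ≤ 𝒩(J) → 𝒞[φ (f v)] ≤ 𝒩(J)) → ∀ n v,
      𝒞[φ v] ≤ 𝒩(J) → 𝒞[φ (f^[n] v)] ≤ 𝒩(J) := fun f hf n => by
    induction n with
    | zero => exact fun v hv => hv
    | succ n ih => exact fun v hv => ih _ (hf v hv)
  have hp : ∀ v, 𝒞[φ v] ≤ 𝒩(J) → 𝒞[φ (v.2.2, v.1, v.2.1)] ≤ 𝒩(J) := fun v hv =>
    h.pφ v ▸ key p (normJ h (pJ1 h)) _ hv
  have ht : ∀ v, 𝒞[φ v] ≤ 𝒩(J) → 𝒞[φ (v.1, -v.2.1, -v.2.2)] ≤ 𝒩(J) := fun v hv =>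
    h.tφ v ▸ key t (normJ h (VJ1 h (Or.inr (Or.inl rfl)))) _ hv
  refine it _ (fun v hv => le_trans (fun x hx => ?_) hv) _ _ (it _ hp _ _ (it _ ht _ _ (it _ hp _ _ hw)))
  rw [neg h] at hx
  exact mem_cent1.2 (Commute.inv_right_iff.1 (mem_cent1.1 hx))

theorem good13 {v : V3} (hv : W13 v) : 𝒞[φ v] ≤ 𝒩(J) := by
  obtain ⟨i, j, k, rfl | rfl⟩ := orb13 v hv
  · exact good h h.c1 _ _ _ _
  · exact good h h.c3 _ _ _ _

/-- a `3'`-group normalised by `φ(F₃³)` normalises `J` -/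
theorem L2 {N : Subgroup X} (hN : ¬ 3 ∣ Nat.card N) (hJ : J1 h ≤ 𝒩(N)) : N ≤ 𝒩(J) := by
  haveI : Fact (Nat.Prime 3) := ⟨Nat.prime_three⟩
  have ab : J1 h ≤ 𝒞(J1 h) := ((J1_le h).trans (Jab h)).trans (cent_anti (J1_le h))
  refine H46.le_of_forall_cyclic_quotient ((J3 h).to_le (J1_le h)) (abelian_iff.2 ab) _ N hN hJ ?_
  rintro B hB ⟨_, ⟨a, rfl⟩, e⟩
  let W : AddSubgroup V3 :=
    { carrier := {v | φ v ∈ B}
      zero_mem' := by rw [Set.mem_ofPred_eq, z h]; exact one_mem _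
      add_mem' := fun hu hv => by rw [Set.mem_ofPred_eq, h.add]; exact mul_mem hu hv
      neg_mem' := fun hu => by rw [Set.mem_ofPred_eq, neg h]; exact inv_mem hu }
  obtain ⟨v, hv, hw⟩ := hyper W a fun w => by
    have hw : φ w ∈ B ⊔ zpowers (φ a) := e.ge ⟨w, rfl⟩
    obtain ⟨b, hb, _, ⟨n, rfl⟩, e'⟩ := (mem_sup_of_norm_left (norm_of_cent
      (((zpowers_le.2 (⟨a, rfl⟩ : φ a ∈ J1 h)).trans ab).trans (cent_anti hB)))).1 hw
    refine ⟨n, ?_⟩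
    have : φ (n • a) = φ a ^ n := map_zsmul (AddMonoidHom.mk' (fun v => Additive.ofMul (φ v)) h.add) n a
    show φ _ ∈ B
    rw [sub_eq_add_neg, h.add, neg h, this, e']
    simpa using hb
  exact inf_le_right.trans ((cent_le_cent1 hv).trans (good13 h hw))

variable (hN : 𝒩(J) ≤ J ⊔ closure {t, p})
include hN

theorem nf {g : X} (hg : g ∈ 𝒩(J)) :
    ∃ a ∈ zpowers y, ∃ k ∈ J1 h ⊔ V h, ∃ q ∈ zpowers p, g = a * (k * q) := by
  have h1 : J ⊔ closure {t, p} ≤ zpowers y ⊔ ((J1 h ⊔ V h) ⊔ zpowers p) := by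
    refine sup_le (fun j hj => ?_) ((closure_le _).2 ?_)
    · obtain ⟨a, ha, v, rfl⟩ := (h.memJ _).1 hj
      exact mul_mem (mem_sup_left ha) (mem_sup_right (mem_sup_left (mem_sup_left ⟨v, rfl⟩)))
    · rintro _ (rfl | rfl)
      · exact mem_sup_right (mem_sup_left (mem_sup_right (Or.inr (Or.inl rfl))))
      · exact mem_sup_right (mem_sup_right (mem_zpowers _))
  obtain ⟨a, ha, b, hb, rfl⟩ := (mem_sup_of_norm_right
    (norm_of_cent fun a ha x _ => (yc h ha x).symm)).1 (h1 (hN hg))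
  obtain ⟨k, hk, q, hq, rfl⟩ := (mem_sup_of_norm_left
    (norm_sup (zpowers_le.2 (pJ1 h)) (zpowers_le.2 (pV h)))).1 hb
  exact ⟨a, ha, k, hk, q, hq, rfl⟩

theorem fix2 : 𝒞[φ (0, 1, 1)] ⊓ 𝒩(J) ≤ J := by
  rintro g ⟨hc, hg⟩
  obtain ⟨a, ha, k, hk, q, hq, rfl⟩ := nf h hN hg
  obtain ⟨_, ⟨u, rfl⟩, e, he, rfl⟩ := (mem_sup_of_norm_left (VJ1 h)).1 hk
  have e1 : e * (q * φ (0, 1, 1) * q⁻¹) * e⁻¹ = φ (0, 1, 1) := by
    have e0 := mem_cent1.1 hc
    calc _ = (φ u)⁻¹ * (a⁻¹ * (a * (φ u * e * q) * φ (0, 1, 1)) * (q⁻¹ * e⁻¹)) := by group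
      _ = (φ u)⁻¹ * (a⁻¹ * φ (0, 1, 1) * a) * φ u := by rw [e0]; group
      _ = _ := by
        rw [mul_assoc a⁻¹, ← yc h ha, inv_mul_cancel_left, mul_assoc, ← cm h, inv_mul_cancel_left]
  have e2 : e = 1 ∧ q = 1 := by
    rcases (mem_zpowers_three (op h)).1 hq with rfl | rfl | rfl
    · rw [one_mul, inv_one, mul_one] at e1
      rcases he with rfl | rfl | rfl | rfl
      · exact ⟨rfl, rfl⟩
      · rw [h.tφ] at e1; exact absurd (finj h e1) (by decide)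
      · rw [t2φ h] at e1; exact absurd (finj h e1) (by decide)
      · rw [t3φ h] at e1; exact absurd (finj h e1) (by decide)
    · rw [h.pφ] at e1
      rcases he with rfl | rfl | rfl | rfl
      · rw [one_mul, inv_one, mul_one] at e1; exact absurd (finj h e1) (by decide)
      · rw [h.tφ] at e1; exact absurd (finj h e1) (by decide)
      · rw [t2φ h] at e1; exact absurd (finj h e1) (by decide)
      · rw [t3φ h] at e1; exact absurd (finj h e1) (by decide)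
    · rw [inv_inv, pφ' h] at e1
      rcases he with rfl | rfl | rfl | rfl
      · rw [one_mul, inv_one, mul_one] at e1; exact absurd (finj h e1) (by decide)
      · rw [h.tφ] at e1; exact absurd (finj h e1) (by decide)
      · rw [t2φ h] at e1; exact absurd (finj h e1) (by decide)
      · rw [t3φ h] at e1; exact absurd (finj h e1) (by decide)
  rw [e2.1, e2.2, mul_one, mul_one]
  exact (h.memJ _).2 ⟨a, ha, u, rfl⟩

omit hN in
theorem le_norm {T : Subgroup X} (hT : IsPGroup 3 T) (hJ : J ≤ T) : T ≤ 𝒩(J) :=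
  fun g hg => h.wc T hT hJ g (cj_le_of_mem hJ hg)

theorem L3 : 𝒞[φ (0, 1, 1)] ≤ 𝒩(J) := by
  haveI : Fact (Nat.Prime 3) := ⟨Nat.prime_three⟩
  set Y := 𝒞[φ (0, 1, 1)] with hY
  have hJY : J ≤ Y := (Jab h).trans (cent_le_cent1 (φmem h _))
  obtain ⟨Q, hQ⟩ := ((J3 h).comap_subtype (K := Y)).exists_le_sylow
  have hJQ : J ≤ (Q : Subgroup Y).map Y.subtype := fun j hj => ⟨⟨j, hJY hj⟩, hQ hj, rfl⟩
  have e : (Q : Subgroup Y).map Y.subtype = J :=
    le_antisymm ((le_inf (map_subtype_le _) (le_norm h (Q.2.map _) hJQ)).trans (fix2 h hN)) hJQ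
  have hP : normalizer ((Q : Subgroup Y) : Set Y) ≤ centralizer ((Q : Subgroup Y) : Set Y) := by
    intro g hg x hx
    have : (g : X) ∈ 𝒩(J) := e ▸ le_normalizer_map Y.subtype ⟨g, hg, rfl⟩
    exact Subtype.ext (Jab h (fix2 h hN ⟨g.2, this⟩) x (e.le ⟨x, hx, rfl⟩))
  have hK := L2 h (N := (MonoidHom.transferSylow Q hP).ker.map Y.subtype)
    (by rw [card_map_of_injective Y.subtype_injective]
        exact MonoidHom.not_dvd_card_ker_transferSylow Q hP)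
    (((J1_le h).trans hJY).trans (norm_map_subtype _))
  intro g hg
  obtain ⟨⟨k, q⟩, e'⟩ := (MonoidHom.ker_transferSylow_isComplement' Q hP).2 ⟨g, hg⟩
  have : g = k.1 * q.1 := congrArg Subtype.val e'.symm
  rw [this]
  exact mul_mem (hK ⟨k.1, k.2, rfl⟩) (le_normalizer (e.le ⟨q.1, q.2, rfl⟩))

theorem goodAll {v : V3} (hv : v ≠ 0) : 𝒞[φ v] ≤ 𝒩(J) := by
  obtain ⟨i, j, k, l, rfl | rfl | rfl⟩ := orb v hv
  · exact good h h.c1 _ _ _ _
  · exact good h h.c3 _ _ _ _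
  · exact good h (L3 h hN) _ _ _ _

theorem res_le : pResidualOf 3 𝒩(J) ≤ J1 h ⊔ V h := by
  refine map_le_iff_le_comap.2 (H3.pResidual_le_iff.2 fun g hg => ?_)
  obtain ⟨a, ha, k, hk, q, hq, e⟩ := nf h hN g.2
  have hq' : q ∈ 𝒩(J1 h ⊔ V h) := norm_sup (zpowers_le.2 (pJ1 h)) (zpowers_le.2 (pV h)) hq
  have q3 : q ^ 3 = 1 := by
    rw [← op h, ← orderOf_dvd_iff_pow_eq_one]; exact orderOf_dvd_of_mem_zpowers hq
  have h3 : (g : X) ^ 3 ∈ J1 h ⊔ V h := by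
    have : (k * q) ^ 3 = k * (q * (k * (q * k * q⁻¹)) * q⁻¹) * q ^ 3 := by
      simp only [pow_succ, pow_zero]; group
    rw [e, Commute.mul_pow (yc h ha _), ycube h ha, one_mul, this, q3, mul_one]
    exact mul_mem hk (conj_mem_of_norm le_rfl hq' (mul_mem hk (conj_mem_of_norm le_rfl hq' hk)))
  rw [← orderOf_coe] at hg
  exact zpowers_le.2 h3 (mem_zpowers_pow_iff.2 (Nat.coprime_comm.1 hg))

omit hN in
theorem le_res : J1 h ⊔ V h ≤ pResidual 3 X := by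
  have inv : ∀ s : X, s * s = 1 → s ∈ pResidual 3 X := fun s hs =>
    H3.mem_pResidual_of_coprime (Nat.Coprime.coprime_dvd_left
      (orderOf_dvd_of_pow_eq_one (n := 2) (by rw [pow_two, hs])) (by decide))
  have key : ∀ s : X, s * s = 1 → ∀ u v, s * φ u * s⁻¹ = φ v → φ (v - u) ∈ pResidual 3 X := by
    intro s hs u v e
    rw [sub_eq_add_neg, h.add, neg h, ← e, mul_assoc, mul_assoc, ← mul_assoc (φ u)]
    exact mul_mem (inv s hs) (H3.pResidual_normal.conj_mem _ (inv_mem (inv s hs)) _)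
  refine sup_le ?_ ?_
  · rintro _ ⟨v, rfl⟩
    have : ∀ v : V3, v = ((0, -v.2.1, -v.2.2) - (0, v.2.1, v.2.2)) +
      ((-v.1, 0, -0) - (v.1, 0, 0)) := by decide
    rw [this v, h.add]
    exact mul_mem (key t h.tt (0, v.2.1, v.2.2) _ (h.tφ _)) (key _ (t2 h) (v.1, 0, 0) _ (t2φ h _))
  · rintro _ (rfl | rfl | rfl | rfl)
    exacts [one_mem _, inv _ h.tt, inv _ (t2 h), inv _ (t3 h)]

end YAx

open YAx in
/-- `N(J)/J = A₄`; Burnside, S4215, `S3701.main`; proof in notes/MC3.md -/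
theorem YD.caseA {X : Type*} [Group X] [Finite X] {y : X} {φ : ZMod 3 × ZMod 3 × ZMod 3 → X}
    {t p : X} {J : Subgroup X} (h : YD y φ t p J) (hN : 𝒩(J) ≤ J ⊔ closure {t, p}) :
    𝒩(J) = ⊤ := by
  haveI : Fact (Nat.Prime 3) := ⟨Nat.prime_three⟩
  obtain ⟨P, hP⟩ := (J3 h).exists_le_sylow
  have hPB := le_norm h P.2 hP
  have hw := S4215.result P J ⟨hP, fun g hg => cj_eq_of_mem_norm (h.wc P P.2 hP g hg)⟩
    fun u hu z hz => by
      have e : u⁻¹ * z⁻¹ * u * z ∈ J := mul_mem (conj_mem_of_norm' hPB hu (inv_mem hz)) hz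
      have := Jab h e z hz
      show (u⁻¹ * z⁻¹ * u * z)⁻¹ * z⁻¹ * (u⁻¹ * z⁻¹ * u * z) * z = 1
      generalize u⁻¹ * z⁻¹ * u * z = w at this
      rw [mul_assoc, mul_assoc, ← this]; group
  set R := pResidual 3 X with hR
  have h1 : R ⊓ 𝒩(J) ≤ J1 h ⊔ V h := hw ▸ res_le h hN
  have h2 : J1 h ⊔ V h ≤ R := le_res h
  have h3 : J1 h ⊔ V h ≤ 𝒩(J1 h) := sup_le le_normalizer (VJ1 h)
  let ψ : V3 → R := fun v => ⟨φ v, h2 (mem_sup_left ⟨v, rfl⟩)⟩
  let s₃ : R := ⟨p⁻¹ * t * p, h2 (mem_sup_right (Or.inr (Or.inr (Or.inr rfl))))⟩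
  let s₂ : R := ⟨p * t * p⁻¹, h2 (mem_sup_right (Or.inr (Or.inr (Or.inl rfl))))⟩
  have e23 : p * t * p⁻¹ * (p⁻¹ * t * p) = t := by
    rw [← h.v4]
    have := (V h).mul_mem (Or.inr (Or.inr (Or.inl rfl))) (Or.inr (Or.inl rfl))
    have e : t * (p * t * p⁻¹) = (t * (p * t * p⁻¹))⁻¹ := by
      rw [h.v4]; exact eq_inv_of_mul_eq_one_right (t3 h)
    rw [e, mul_inv_rev, mul_inv_cancel_left, inv_eq_of_mul_eq_one_right h.tt]
  have e32 : p⁻¹ * t * p * (p * t * p⁻¹) = t := by rw [← h.v4, mul_assoc, t2 h, mul_one]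
  have main := S3701.main (H := (J1 h ⊔ V h).subgroupOf R) (T := (J1 h).subgroupOf R) (φ := ψ)
    (s := s₃) (t := s₂) (fun u v => Subtype.ext (h.add u v))
    (fun u v e => finj h (congrArg Subtype.val e)) (fun v => Subtype.ext (t3φ h v))
    (fun v => Subtype.ext (t2φ h v)) (Subtype.ext (t3 h)) (Subtype.ext (t2 h))
    (Subtype.ext (e23.trans e32.symm)) ?_ (comap_mono le_sup_left) ?_ ?_ ?_
  · rw [subgroupOf_eq_top] at main
    rw [eq_top_iff, ← H3.sylow_sup_pResidual P]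
    exact sup_le hPB (main.trans (h3.trans (normJ h)))
  · intro g hg
    obtain ⟨_, ⟨v, rfl⟩, e, he, e'⟩ := (mem_sup_of_norm_left (VJ1 h)).1 hg
    set K := closure {ψ (1, 0, 0), ψ (0, 1, 0), ψ (0, 0, 1), s₃, s₂}
    have add : ∀ u v, ψ u ∈ K → ψ v ∈ K → ψ (u + v) ∈ K := fun u v hu hv => by
      have : ψ (u + v) = ψ u * ψ v := Subtype.ext (h.add u v)
      rw [this]; exact mul_mem hu hv
    have nsm : ∀ u, ψ u ∈ K → ∀ n : ℕ, ψ (n • u) ∈ K := fun u hu n => by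
      induction n with
      | zero =>
        have : ψ (0 • u) = 1 := Subtype.ext (by rw [zero_smul]; exact z h)
        rw [this]; exact one_mem _
      | succ n ih => rw [succ_nsmul]; exact add _ _ ih hu
    have k1 : ψ v ∈ K := by
      rw [basis v]
      exact add _ _ (add _ _ (nsm _ (subset_closure (by simp)) _) (nsm _ (subset_closure (by simp)) _))
        (nsm _ (subset_closure (by simp)) _)
    have m3 : s₃ ∈ K := subset_closure (by simp)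
    have m2 : s₂ ∈ K := subset_closure (by simp)
    have k2 : (⟨e, h2 (mem_sup_right he)⟩ : R) ∈ K := by
      rcases he with rfl | rfl | rfl | rfl
      · exact one_mem _
      · have := mul_mem m2 m3
        convert this using 1
        exact Subtype.ext e23.symm
      · exact m2
      · exact m3
    have : g = ψ v * ⟨e, h2 (mem_sup_right he)⟩ := Subtype.ext e'
    rw [this]; exact mul_mem k1 k2
  · rw [card_subgroupOf_of_le (le_sup_left.trans h2)]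
    exact (Nat.card_range_of_injective (finj h)).trans (by simp)
  · rw [← subgroupOf_normalizer_eq (le_sup_left.trans h2)]
    exact le_antisymm (fun g hg => h1 ⟨g.2, normJ h hg⟩) (comap_mono h3)
  · rintro ⟨_, hx⟩ ⟨v, rfl⟩ h0 g hg
    refine h1 ⟨g.2, goodAll h hN (v := v) (fun e => h0 (Subtype.ext ?_)) ?_⟩
    · subst e; exact z h
    · exact mem_cent1.2 (congrArg Subtype.val (mem_cent1.1 hg))

end Cfsg.Agent.MC3
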