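import Cfsg.Agent.MC3.YB1

set_option autoImplicit false
set_option linter.unusedSectionVars false

namespace Cfsg.Agent.MC3

open Subgroup H49 Cfsg.Agent.S3702 Cfsg.Agent.H76.T648
open Cfsg.Agent.H76 (V3)

namespace YB

variable {X : Type*} [Group X] [Finite X] {y : X} {φ : V3 → X} {t p : X} {J : Subgroup X}

/-- `k` acts on the vectors as the `i`-th monomial map -/
def Ac (φ : V3 → X) (k : X) (i : Fin 24) : Prop := ∀ v, k * φ v * k⁻¹ = φ (act i v)

theorem Ac.mul {k l : X} {i j m : Fin 24} (hk : Ac φ k i) (hl : Ac φ l j) (e : L i * L j = L m) :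
    Ac φ (k * l) m := fun v => by
  rw [act_mul e, ← hk, ← hl]; group

theorem Ac.inv {k : X} {i j : Fin 24} (hk : Ac φ k i) (e : (L i)⁻¹ = L j) : Ac φ k⁻¹ j := fun v => by
  have e' : L i * L j = L 0 := by rw [← e, mul_inv_cancel, L_zero]
  have := hk (act j v)
  rw [← act_mul e', act_zero] at this
  rw [← this]; group

theorem Ac.one : Ac φ (1 : X) 0 := fun v => by rw [act_zero]; group

theorem Ac.pow {k : X} {i : Fin 24} (hk : Ac φ k i) (n : ℕ) : ∃ j, L i ^ n = L j ∧ Ac φ (k ^ n) j := by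
  induction n with
  | zero => exact ⟨0, by rw [pow_zero, L_zero], by rw [pow_zero]; exact Ac.one⟩
  | succ n ih =>
    obtain ⟨j, e, hj⟩ := ih
    obtain ⟨m, hm⟩ := L_mul j i
    exact ⟨m, by rw [pow_succ, e, hm], by rw [pow_succ]; exact hj.mul hk hm⟩

/-- the elements acting monomially -/
def AcG (φ : V3 → X) : Subgroup X where
  carrier := {k | ∃ i, Ac φ k i}
  one_mem' := ⟨0, Ac.one⟩
  mul_mem' := by
    rintro k l ⟨i, hi⟩ ⟨j, hj⟩
    obtain ⟨m, hm⟩ := L_mul i j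
    exact ⟨m, hi.mul hj hm⟩
  inv_mem' := by
    rintro k ⟨i, hi⟩
    obtain ⟨j, hj⟩ := L_inv i
    exact ⟨j, hi.inv hj⟩

section
variable (h : YD y φ t p J)
include h

theorem φ0 : φ 0 = 1 := by
  have := h.add 0 0
  rw [add_zero] at this
  exact (mul_eq_left.mp this.symm)

theorem φneg (v : V3) : φ (-v) = (φ v)⁻¹ := by
  rw [eq_inv_iff_mul_eq_one, ← h.add, neg_add_cancel, φ0 h]

theorem φsub (u v : V3) : φ (u - v) = φ u * (φ v)⁻¹ := by
  rw [sub_eq_add_neg, h.add, φneg h]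

theorem φinj {u v : V3} (e : φ u = φ v) : u = v :=
  sub_eq_zero.mp (h.inj _ (by rw [φsub h, e, mul_inv_cancel]; exact one_mem _))

theorem φcomm (u v : V3) : φ u * φ v = φ v * φ u := by rw [← h.add, ← h.add, add_comm]

theorem φ3 (v : V3) : φ v ^ 3 = 1 := by
  rw [pow_three, ← h.add, ← h.add, (by revert v; decide : v + (v + v) = 0), φ0 h]

theorem yc {a : X} (ha : a ∈ zpowers y) (g : X) : Commute g a := by
  obtain ⟨n, rfl⟩ := ha
  exact (h.yc g).zpow_right n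

theorem y3 {a : X} (ha : a ∈ zpowers y) : a ^ 3 = 1 := by
  obtain ⟨n, rfl⟩ := ha
  have : y ^ 3 = 1 := h.y3 ▸ pow_orderOf_eq_one y
  simp only [← zpow_natCast, ← zpow_mul] at this ⊢
  rw [mul_comm, zpow_mul, this, one_zpow]

theorem φmem (v : V3) : φ v ∈ J := (h.memJ _).mpr ⟨1, one_mem _, v, (one_mul _).symm⟩

theorem ymem {a : X} (ha : a ∈ zpowers y) : a ∈ J :=
  (h.memJ _).mpr ⟨a, ha, 0, by rw [φ0 h, mul_one]⟩

theorem Jcomm {a b : X} (ha : a ∈ J) (hb : b ∈ J) : a * b = b * a := by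
  obtain ⟨a1, h1, u, rfl⟩ := (h.memJ _).mp ha
  obtain ⟨b1, h2, v, rfl⟩ := (h.memJ _).mp hb
  exact ((yc h h1 _).symm.mul_left ((yc h h2 _).mul_right (φcomm h u v))).eq

theorem J3 {a : X} (ha : a ∈ J) : a ^ 3 = 1 := by
  obtain ⟨a1, h1, u, rfl⟩ := (h.memJ _).mp ha
  rw [(yc h h1 _).symm.mul_pow, y3 h h1, φ3 h, one_mul]

theorem Jp : IsPGroup 3 J := H70.isPGroup_iff_mem.mpr fun x hx => ⟨1, by simpa using J3 h hx⟩

theorem Ac.norm {k : X} {i : Fin 24} (hk : Ac φ k i) : k ∈ 𝒩(J) := by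
  refine mem_norm_of_cj_le fun x hx => ?_
  obtain ⟨z, hz, rfl⟩ := mem_cj'.mp hx
  obtain ⟨a, ha, v, rfl⟩ := (h.memJ _).mp hz
  have : k * (a * φ v) * k⁻¹ = a * (k * φ v * k⁻¹) := by
    rw [← mul_assoc k, (yc h ha k).eq]; group
  rw [this, hk]
  exact mul_mem (ymem h ha) (φmem h _)

theorem ac_J {j : X} (hj : j ∈ J) : Ac φ j 0 := fun v => by
  rw [act_zero, Jcomm h hj (φmem h v)]; group

theorem Ac.triv {k : X} (hk : Ac φ k 0) : k ∈ J := by
  refine h.CJ (mem_centralizer_iff.mpr fun z hz => ?_)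
  obtain ⟨a, ha, v, rfl⟩ := (h.memJ _).mp hz
  have := hk v
  rw [act_zero, mul_inv_eq_iff_eq_mul] at this
  rw [mul_assoc, ← this, ← mul_assoc, ← mul_assoc, (yc h ha k).eq]

theorem Ac.uniq {k : X} {i j : Fin 24} (hi : Ac φ k i) (hj : Ac φ k j) : i = j := by
  obtain ⟨l, hl⟩ := L_inv j
  obtain ⟨m, hm⟩ := L_mul i l
  have h1 := hi.mul (hj.inv hl) hm
  rw [mul_inv_cancel] at h1
  obtain rfl : m = 0 := act_inj m fun v => φinj h (by rw [← h1]; group)
  rw [L_zero, ← hl, mul_inv_eq_one] at hm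
  exact L_inj _ _ hm

theorem Ac.coset {k l : X} {i : Fin 24} (hk : Ac φ k i) (hl : Ac φ l i) : k * l⁻¹ ∈ J := by
  obtain ⟨j, hj⟩ := L_inv i
  exact (hk.mul (hl.inv hj) (by rw [← hj, mul_inv_cancel, L_zero])).triv h

theorem star {z g : X} (hz : 𝒞[z] ≤ 𝒩(J)) (hg : g⁻¹ * z * g ∈ J) : g ∈ 𝒩(J) := by
  have : Fact (Nat.Prime 3) := ⟨Nat.prime_three⟩
  have h1 : cj g J ≤ 𝒩(J) := fun x hx => hz (mem_centralizer_singleton_iff.mpr (by
    have := Jcomm h (mem_cj.mp hx) hg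
    have e : x * z = g * (g⁻¹ * x * g * (g⁻¹ * z * g)) * g⁻¹ := by group
    rw [e, this]; group))
  exact h.wc (J ⊔ cj g J) (H70.isPGroup_sup_of_norm' (Jp h) (isPGroup_cj.mpr (Jp h)) h1) le_sup_left g
    le_sup_right

theorem Ac.cent {k : X} {i : Fin 24} (hk : Ac φ k i) {v : V3} (hv : 𝒞[φ v] ≤ 𝒩(J)) :
    𝒞[φ (act i v)] ≤ 𝒩(J) := by
  rw [← hk, ← cj_cent1]
  exact cj_le_of_mem hv (hk.norm h)

variable {c : X} (hc : c * c = t) (hcφ : ∀ v, c * φ v * c⁻¹ = φ (v.1, -v.2.2, v.2.1))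
include hcφ

theorem lam (i : Fin 24) : ∃ k ∈ closure {t, p, c}, Ac φ k i := by
  have h1 : Ac φ p 1 := fun v => by rw [act_p, h.pφ]
  have h2 : Ac φ c 19 := fun v => by rw [act_c, hcφ]
  have m1 : p ∈ closure {t, p, c} := subset_closure (by simp)
  have m2 : c ∈ closure {t, p, c} := subset_closure (by simp)
  obtain ⟨a, b, a', b', e⟩ := L_gen i
  obtain ⟨i1, e1, k1⟩ := h2.pow a.val
  obtain ⟨i2, e2, k2⟩ := h1.pow b.val
  obtain ⟨i3, e3, k3⟩ := h2.pow a'.val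
  obtain ⟨i4, e4, k4⟩ := h1.pow b'.val
  obtain ⟨j1, f1⟩ := L_mul i1 i2
  obtain ⟨j2, f2⟩ := L_mul j1 i3
  refine ⟨_, mul_mem (mul_mem (mul_mem (pow_mem m2 a.val) (pow_mem m1 b.val)) (pow_mem m2 a'.val))
    (pow_mem m1 b'.val), ((k1.mul k2 f1).mul k3 f2).mul k4 ?_⟩
  rw [e, e1, e2, e3, e4, f1, f2]

theorem ac_B (hN : 𝒩(J) ≤ J ⊔ closure {t, p, c}) {k : X} (hk : k ∈ 𝒩(J)) : ∃ i, Ac φ k i := by
  have : J ⊔ closure {t, p, c} ≤ AcG φ := by
    refine sup_le (fun j hj => ⟨0, ac_J h hj⟩) ((closure_le _).mpr ?_)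
    rintro _ (rfl | rfl | rfl)
    · exact ⟨21, fun v => by rw [act_t, h.tφ]⟩
    · exact ⟨1, fun v => by rw [act_p, h.pφ]⟩
    · exact ⟨19, fun v => by rw [act_c, hcφ]⟩
  exact this (hN hk)

theorem cent13 {v : V3} (hv : cls v = 1 ∨ cls v = 3) : 𝒞[φ v] ≤ 𝒩(J) := by
  obtain ⟨i, hi⟩ := act_tr v
  obtain ⟨k, -, hk⟩ := lam h hcφ i
  rw [← hi]
  refine hk.cent h ?_
  rcases hv with e | e <;> rw [e]
  exacts [h.c1, h.c3]

include hc in
theorem KJ (hct : c * (p * t * p⁻¹) * c⁻¹ = p⁻¹ * t * p) {k : X} (hk : k ∈ closure {t, p, c})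
    (hJ : k ∈ J) : k ∈ zpowers y := by
  set s := p * t * p⁻¹ with hs
  have ss : s * s = 1 := by
    rw [hs, show p * t * p⁻¹ * (p * t * p⁻¹) = p * (t * t) * p⁻¹ by group, h.tt]; group
  have ts : t * s * (t * s) = 1 := by
    rw [h.v4, show p⁻¹ * t * p * (p⁻¹ * t * p) = p⁻¹ * (t * t) * p by group, h.tt]; group
  have ti : t⁻¹ = t := inv_eq_of_mul_eq_one_right h.tt
  have si : s⁻¹ = s := inv_eq_of_mul_eq_one_right ss
  have cm : s * t = t * s := by
    have := inv_eq_of_mul_eq_one_right ts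
    rwa [mul_inv_rev, ti, si] at this
  let V : Subgroup X :=
    { carrier := {x | x = 1 ∨ x = t ∨ x = s ∨ x = t * s}
      one_mem' := Or.inl rfl
      mul_mem' := by
        have e1 : t * (t * s) = s := by rw [← mul_assoc, h.tt, one_mul]
        have e2 : s * (t * s) = t := by rw [← mul_assoc, cm, mul_assoc, ss, mul_one]
        have e3 : t * s * t = s := by rw [mul_assoc, cm, e1]
        have e4 : t * s * s = t := by rw [mul_assoc, ss, mul_one]
        rintro _ _ (rfl | rfl | rfl | rfl) (rfl | rfl | rfl | rfl) <;>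
          simp only [Set.mem_ofPred_eq, one_mul, mul_one, h.tt, ss, ts, cm, e1, e2, e3, e4, true_or,
            or_true]
      inv_mem' := by
        rintro _ (rfl | rfl | rfl | rfl) <;>
          simp only [Set.mem_ofPred_eq, inv_one, ti, si, inv_eq_of_mul_eq_one_right ts, true_or,
            or_true] }
  have mt : t ∈ V := Or.inr (Or.inl rfl)
  have ms : s ∈ V := Or.inr (Or.inr (Or.inl rfl))
  have nV : ∀ g : X, g * t * g⁻¹ ∈ V → g * s * g⁻¹ ∈ V → g ∈ 𝒩(V) := fun g h1 h2 => by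
    refine mem_norm_of_cj_le fun x hx => ?_
    obtain ⟨z, hz, rfl⟩ := mem_cj'.mp hx
    rcases hz with rfl | rfl | rfl | rfl
    · simp
    · exact h1
    · exact h2
    · have := mul_mem h1 h2
      rwa [show g * t * g⁻¹ * (g * s * g⁻¹) = g * (t * s) * g⁻¹ by group] at this
  have hK : closure {t, p, c} ≤ 𝒩(V) := by
    refine (closure_le _).mpr ?_
    have : ∀ x, x = t ∨ x = p ∨ x = c → x ∈ 𝒩(V) := ?_
    · exact this
    rintro x (e | e | e) <;> rw [e]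
    · exact le_normalizer mt
    · refine nV _ ms ?_
      have p2 : p * p = p⁻¹ := eq_inv_of_mul_eq_one_left (by rw [← h.p3, pow_three, mul_assoc])
      have : p * s * p⁻¹ = t * s := by
        rw [h.v4, hs, show p * (p * t * p⁻¹) * p⁻¹ = p * p * t * (p * p)⁻¹ by group, p2, inv_inv]
      rw [this]; exact mul_mem mt ms
    · refine nV _ ?_ ?_
      · rw [show c * t * c⁻¹ = t by rw [← hc]; group]; exact mt
      · rw [hct, ← h.v4]; exact mul_mem mt ms
  have VJ : ∀ x ∈ V, x ∈ J → x = 1 := fun x hx hx' => by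
    have h2 : x * x = 1 := by
      rcases hx with rfl | rfl | rfl | rfl
      exacts [one_mul _, h.tt, ss, ts]
    have h3 := J3 h hx'
    rwa [pow_three, h2, mul_one] at h3
  have cmk : ∀ u ∈ V, u ∈ 𝒩(J) → u * k * u⁻¹ = k := fun u hu hu' => by
    have h1 : k * u * k⁻¹ * u⁻¹ ∈ V := mul_mem (conj_mem_of_norm hK hk hu) (inv_mem hu)
    have h2 : k * u * k⁻¹ * u⁻¹ ∈ J := by
      rw [show k * u * k⁻¹ * u⁻¹ = k * (u * k⁻¹ * u⁻¹) by group]
      exact mul_mem hJ (conj_mem_of_norm le_rfl hu' (inv_mem hJ))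
    have := VJ _ h1 h2
    calc u * k * u⁻¹ = (k * u * k⁻¹ * u⁻¹)⁻¹ * k := by group
      _ = k := by rw [this]; group
  obtain ⟨a, ha, v, rfl⟩ := (h.memJ _).mp hJ
  have at' : Ac φ t 21 := fun v => by rw [act_t, h.tφ]
  have ap : Ac φ p 1 := fun v => by rw [act_p, h.pφ]
  have key : ∀ u i, u ∈ V → Ac φ u i → act i v = v := fun u i hu hi => by
    have := cmk u hu (hi.norm h)
    rw [show u * (a * φ v) * u⁻¹ = a * (u * φ v * u⁻¹) by rw [← mul_assoc u, (yc h ha u).eq]; group,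
      hi] at this
    exact φinj h (mul_left_cancel this)
  have a2 : Ac φ (p⁻¹ * t * p) 2 :=
    ((ap.inv (j := 4) (by decide +kernel)).mul at' (m := 10) (by decide +kernel)).mul ap
      (by decide +kernel)
  have k1 := key t 21 mt at'
  have k2 := key _ 2 (by rw [← h.v4]; exact mul_mem mt ms) a2
  obtain rfl : v = 0 := by
    clear * - k1 k2
    revert v; decide +kernel
  rwa [φ0 h, mul_one]

end

end YB

end Cfsg.Agent.MC3
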